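import Mathlib

set_option autoImplicit false

/-!
Irreducible representations of a finite subgroup `Q` in arbitrary characteristic not dividing `|Q|`:
Schur's lemma, the Casimir formula, and the structure of the centralizer of a group acting freely on
`Q` modulo scalars.
-/

namespace Cfsg.Agent.HH

open scoped BigOperators

variable {K : Type*} [Field K] {G : Type*} [Group G] {V : Type*} [AddCommGroup V] [Module K V]

/-- The subgroup `Q` acts irreducibly. -/
structure Irr (ρ : Representation K G V) (Q : Subgroup G) : Prop where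
  nt : Nontrivial V
  irr : ∀ W : Submodule K V, (∀ g ∈ Q, ∀ w ∈ W, ρ g w ∈ W) → W = ⊥ ∨ W = ⊤

variable {ρ : Representation K G V} {Q : Subgroup G}

theorem rho_mul (ρ : Representation K G V) (g h : G) (v : V) : ρ (g * h) v = ρ g (ρ h v) := by
  rw [map_mul]; rfl

theorem rho_inv_apply (ρ : Representation K G V) (g : G) (v : V) : ρ g⁻¹ (ρ g v) = v := by
  rw [← rho_mul, inv_mul_cancel, map_one]; rfl

theorem rho_apply_inv (ρ : Representation K G V) (g : G) (v : V) : ρ g (ρ g⁻¹ v) = v := by
  rw [← rho_mul, mul_inv_cancel, map_one]; rfl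

theorem rho_mul_inv (ρ : Representation K G V) (g : G) : ρ g * ρ g⁻¹ = 1 := by
  rw [← map_mul, mul_inv_cancel, map_one]

theorem rho_inv_mul (ρ : Representation K G V) (g : G) : ρ g⁻¹ * ρ g = 1 := by
  rw [← map_mul, inv_mul_cancel, map_one]

/-- **Schur's lemma**. -/
theorem Irr.schur [IsAlgClosed K] [FiniteDimensional K V] (h : Irr ρ Q) (T : Module.End K V)
    (hT : ∀ g ∈ Q, T * ρ g = ρ g * T) : ∃ c : K, T = c • (1 : Module.End K V) := by
  haveI := h.nt
  obtain ⟨c, hc⟩ := Module.End.exists_eigenvalue T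
  refine ⟨c, ?_⟩
  have h1 := h.irr (Module.End.eigenspace T c) (by
    intro g hg w hw
    rw [Module.End.mem_eigenspace_iff] at hw ⊢
    have h2 := congrArg (fun f : Module.End K V => f w) (hT g hg)
    simp only [Module.End.mul_apply] at h2
    rw [h2, hw, map_smul])
  rcases h1 with h1 | h1
  · exact absurd h1 hc
  · apply LinearMap.ext
    intro v
    have h2 : v ∈ Module.End.eigenspace T c := by rw [h1]; exact Submodule.mem_top
    rw [Module.End.mem_eigenspace_iff] at h2
    rw [h2]; rfl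

/-- The average of the conjugates of `X` under `Q` is a scalar. -/
theorem Irr.casimir [IsAlgClosed K] [FiniteDimensional K V] [Fintype Q] (h : Irr ρ Q)
    (X : Module.End K V) :
    ∃ c : K, ∑ g : Q, ρ g * X * ρ (g : G)⁻¹ = c • (1 : Module.End K V) ∧
      c * (Module.finrank K V : K) = (Nat.card Q : K) * LinearMap.trace K V X := by
  obtain ⟨c, hc⟩ := h.schur (∑ g : Q, ρ g * X * ρ (g : G)⁻¹) (by
    intro k hk
    rw [Finset.sum_mul, Finset.mul_sum, ← Equiv.sum_comp (Equiv.mulLeft (⟨k, hk⟩ : Q))]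
    apply Finset.sum_congr rfl
    intro g _
    rw [Equiv.coe_mulLeft]
    have h1 : (((⟨k, hk⟩ : Q) * g : Q) : G) = k * g := rfl
    have h2 : ρ (k * g)⁻¹ * ρ k = ρ (g : G)⁻¹ := by
      rw [← map_mul ρ]; congr 1; group
    rw [h1, mul_assoc, h2, map_mul ρ, mul_assoc, mul_assoc, mul_assoc])
  refine ⟨c, hc, ?_⟩
  have h2 := congrArg (LinearMap.trace K V) hc
  rw [map_sum, map_smul, LinearMap.trace_one, smul_eq_mul] at h2
  rw [← h2]
  have h3 : ∀ g : Q, LinearMap.trace K V (ρ g * X * ρ (g : G)⁻¹) = LinearMap.trace K V X := by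
    intro g
    rw [LinearMap.trace_mul_comm, ← mul_assoc, rho_inv_mul, one_mul]
  rw [Finset.sum_congr rfl (fun g _ => h3 g), Finset.sum_const, Finset.card_univ, nsmul_eq_mul,
    Nat.card_eq_fintype_card]

/-- The degree is invertible. -/
theorem Irr.degree_ne_zero [IsAlgClosed K] [FiniteDimensional K V] [Finite Q] (h : Irr ρ Q)
    (hQ : (Nat.card Q : K) ≠ 0) : (Module.finrank K V : K) ≠ 0 := by
  haveI := Fintype.ofFinite Q
  haveI := h.nt
  intro h0
  obtain ⟨v, hv⟩ := exists_ne (0 : V)
  obtain ⟨f, hf⟩ : ∃ f : V →ₗ[K] K, f v ≠ 0 := by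
    by_contra hcon
    push Not at hcon
    exact hv ((Module.forall_dual_apply_eq_zero_iff K v).1 hcon)
  obtain ⟨c, hc, hc'⟩ := h.casimir (f.smulRight v)
  rw [h0, mul_zero, LinearMap.trace_smulRight] at hc'
  rcases mul_eq_zero.1 hc'.symm with h1 | h1
  · exact hQ h1
  · exact hf h1

/-- Rank one form of the Casimir formula. -/
theorem Irr.casimir_rank_one [IsAlgClosed K] [FiniteDimensional K V] [Fintype Q] (h : Irr ρ Q)
    (hQ : (Nat.card Q : K) ≠ 0) (φ : V →ₗ[K] K) (v w : V) :
    ∑ g : Q, φ (ρ (g : G)⁻¹ w) • ρ g v =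
      ((Nat.card Q : K) / (Module.finrank K V : K) * φ v) • w := by
  obtain ⟨c, hc, hc'⟩ := h.casimir (φ.smulRight v)
  have h1 := congrArg (fun f : Module.End K V => f w) hc
  simp only [LinearMap.sum_apply, Module.End.mul_apply, LinearMap.smulRight_apply, map_smul,
    LinearMap.smul_apply, Module.End.one_apply] at h1
  rw [h1]
  congr 1
  rw [LinearMap.trace_smulRight] at hc'
  have hd := h.degree_ne_zero hQ
  field_simp
  rw [hc']

theorem trace_mul_eq_sum {ι : Type*} [Fintype ι] [DecidableEq ι] (b : Module.Basis ι K V)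
    (S X : Module.End K V) : LinearMap.trace K V (X * S) = ∑ i, b.coord i (S (X (b i))) := by
  rw [LinearMap.trace_mul_comm, LinearMap.trace_eq_matrix_trace K b, Matrix.trace]
  apply Finset.sum_congr rfl
  intro i _
  rw [Matrix.diag_apply, LinearMap.toMatrix_apply]
  rfl

/-- Expansion of an endomorphism in terms of the group elements. -/
theorem Irr.expand [IsAlgClosed K] [FiniteDimensional K V] [Fintype Q] (h : Irr ρ Q)
    (hQ : (Nat.card Q : K) ≠ 0) (X : Module.End K V) :
    ∑ g : Q, LinearMap.trace K V (X * ρ (g : G)⁻¹) • ρ g =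
      ((Nat.card Q : K) / (Module.finrank K V : K)) • X := by
  classical
  apply LinearMap.ext
  intro v
  let b := Module.finBasis K V
  rw [LinearMap.sum_apply, LinearMap.smul_apply]
  have h1 : ∀ g : Q, (LinearMap.trace K V (X * ρ (g : G)⁻¹) • ρ g) v =
      ∑ i, (b.coord i) (ρ (g : G)⁻¹ (X (b i))) • ρ g v := by
    intro g
    rw [LinearMap.smul_apply, trace_mul_eq_sum b, Finset.sum_smul]
  rw [Finset.sum_congr rfl (fun g _ => h1 g), Finset.sum_comm]
  have h2 : ∀ i, ∑ g : Q, (b.coord i) (ρ (g : G)⁻¹ (X (b i))) • ρ g v =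
      ((Nat.card Q : K) / (Module.finrank K V : K) * b.coord i v) • X (b i) := fun i =>
    h.casimir_rank_one hQ (b.coord i) v (X (b i))
  rw [Finset.sum_congr rfl (fun i _ => h2 i)]
  conv_rhs => rw [← b.sum_repr v, map_sum, Finset.smul_sum]
  apply Finset.sum_congr rfl
  intro i _
  rw [map_smul, smul_smul]
  rfl

/-- Elements of `Q` acting as scalars. -/
def scal (ρ : Representation K G V) (Q : Subgroup G) : Subgroup G where
  carrier := {g | g ∈ Q ∧ ∃ c : K, ρ g = c • (1 : Module.End K V)}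
  one_mem' := ⟨Q.one_mem, 1, by rw [map_one, one_smul]⟩
  mul_mem' := by
    rintro a b ⟨ha, c, hc⟩ ⟨hb, d, hd⟩
    exact ⟨Q.mul_mem ha hb, c * d, by rw [map_mul, hc, hd, smul_mul_smul_comm, one_mul]⟩
  inv_mem' := by
    rintro a ⟨ha, c, hc⟩
    refine ⟨Q.inv_mem ha, c⁻¹, ?_⟩
    by_cases h0 : c = 0
    · have h1 : (1 : Module.End K V) = 0 := by
        rw [← rho_mul_inv ρ a, hc, h0, zero_smul, zero_mul]
      have h2 : ρ a⁻¹ = 0 := by rw [← mul_one (ρ a⁻¹), h1, mul_zero]
      rw [h2, h1, smul_zero]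
    · have h1 := rho_inv_mul ρ a
      rw [hc, mul_smul_comm, mul_one] at h1
      rw [← h1, smul_smul, inv_mul_cancel₀ h0, one_smul]

theorem mem_scal {g : G} : g ∈ scal ρ Q ↔ g ∈ Q ∧ ∃ c : K, ρ g = c • (1 : Module.End K V) := Iff.rfl

/-- **Theorem A**: if the finite group `C` normalizes `Q` and acts freely on the elements of `Q`
which are not scalars, then everything commuting with `C` is a scalar plus a trace from `C`. -/
theorem Irr.commute_eq [IsAlgClosed K] [FiniteDimensional K V] [Finite Q] (h : Irr ρ Q)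
    (hQ : (Nat.card Q : K) ≠ 0) (C : Subgroup G) [Fintype C]
    (hC : ∀ c ∈ C, ∀ g ∈ Q, c * g * c⁻¹ ∈ Q)
    (hfree : ∀ c ∈ C, c ≠ 1 → ∀ g ∈ Q, c * g * c⁻¹ = g → g ∈ scal ρ Q)
    (X : Module.End K V) (hX : ∀ c ∈ C, ρ c * X = X * ρ c) :
    ∃ (a : K) (Y : Module.End K V), X = a • (1 : Module.End K V) + ∑ c : C, ρ c * Y * ρ (c : G)⁻¹ := by
  classical
  haveI := Fintype.ofFinite Q
  have hd := h.degree_ne_zero hQ
  have hexp := h.expand hQ X
  -- the summand
  set F : G → Module.End K V := fun g => LinearMap.trace K V (X * ρ g⁻¹) • ρ g with hF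
  have hFconj : ∀ c ∈ C, ∀ g : G, F (c * g * c⁻¹) = ρ c * F g * ρ c⁻¹ := by
    intro c hc g
    have h1 : LinearMap.trace K V (X * ρ (c * g * c⁻¹)⁻¹) = LinearMap.trace K V (X * ρ g⁻¹) := by
      have h2 : (c * g * c⁻¹)⁻¹ = c * (g⁻¹ * c⁻¹) := by group
      rw [h2, map_mul ρ, map_mul ρ, ← mul_assoc, ← hX c hc, mul_assoc, LinearMap.trace_mul_comm,
        mul_assoc, mul_assoc, rho_inv_mul, mul_one]
    simp only [hF]
    rw [h1, map_mul ρ, map_mul ρ, mul_smul_comm, smul_mul_assoc]
  -- the action of C on Q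
  let act : C → Q → Q := fun c g => ⟨(c : G) * g * (c : G)⁻¹, hC c c.2 g g.2⟩
  -- the scalar part
  set R := scal ρ Q with hR
  have hact : ∀ (c : C) (g : Q), (g : G) ∈ R ↔ ((act c g : Q) : G) ∈ R := by
    intro c g
    have key : ∀ (c : C) (g : Q), (g : G) ∈ R → ((act c g : Q) : G) ∈ R := by
      rintro c g ⟨hg, a, ha⟩
      refine ⟨(act c g).2, a, ?_⟩
      change ρ ((c : G) * g * (c : G)⁻¹) = _
      rw [map_mul, map_mul, ha, mul_smul_comm, mul_one, smul_mul_assoc, rho_mul_inv]
    refine ⟨key c g, fun hg => ?_⟩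
    have := key c⁻¹ (act c g) hg
    have h2 : ((act c⁻¹ (act c g) : Q) : G) = g := by
      change ((c⁻¹ : C) : G) * ((c : G) * g * (c : G)⁻¹) * ((c⁻¹ : C) : G)⁻¹ = g
      push_cast; group
    rwa [h2] at this
  -- orbit relation and a fundamental domain
  let s : Setoid Q :=
    { r := fun g g' => ∃ c : C, act c g = g'
      iseqv :=
        { refl := fun g => ⟨1, by apply Subtype.ext; change ((1 : C) : G) * g * ((1 : C) : G)⁻¹ = g; simp⟩
          symm := by
            rintro g _ ⟨c, rfl⟩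
            refine ⟨c⁻¹, ?_⟩
            apply Subtype.ext
            change ((c⁻¹ : C) : G) * ((c : G) * g * (c : G)⁻¹) * ((c⁻¹ : C) : G)⁻¹ = g
            push_cast; group
          trans := by
            rintro g _ _ ⟨c, rfl⟩ ⟨c', rfl⟩
            refine ⟨c' * c, ?_⟩
            apply Subtype.ext
            change ((c' * c : C) : G) * g * ((c' * c : C) : G)⁻¹ =
              (c' : G) * ((c : G) * g * (c : G)⁻¹) * (c' : G)⁻¹
            push_cast; group } }
  let out : Q → Q := fun g => (Quotient.mk s g).out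
  have hout : ∀ g : Q, ∃ c : C, act c g = out g := fun g => (Quotient.exact (Quotient.out_eq (Quotient.mk s g)).symm)
  have hout2 : ∀ (c : C) (g : Q), out (act c g) = out g := by
    intro c g
    have : Quotient.mk s (act c g) = Quotient.mk s g := Quotient.sound (by
      exact Setoid.symm ⟨c, rfl⟩)
    simp only [out, this]
  -- indicator function of the fundamental domain
  let u : Q → K := fun g => if out g = g then 1 else 0
  have hu : ∀ g : Q, (g : G) ∉ R → ∑ c : C, u (act c g) = 1 := by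
    intro g hg
    obtain ⟨c₀, hc₀⟩ := hout g
    rw [Finset.sum_eq_single c₀]
    · simp only [u]
      rw [hout2, if_pos hc₀.symm]
    · intro c _ hc
      simp only [u]
      rw [hout2, if_neg]
      intro heq
      apply hc
      -- act c g = act c₀ g
      have h1 : act c g = act c₀ g := by rw [hc₀, heq]
      have h2 : (c : G) * g * (c : G)⁻¹ = (c₀ : G) * g * (c₀ : G)⁻¹ := congrArg Subtype.val h1
      by_contra hne
      apply hg
      have h3 : ((c₀⁻¹ * c : C) : G) * g * ((c₀⁻¹ * c : C) : G)⁻¹ = g := by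
        push_cast
        have : (c₀ : G)⁻¹ * c * g * ((c₀ : G)⁻¹ * c)⁻¹ = (c₀ : G)⁻¹ * (c * g * (c : G)⁻¹) * c₀ := by group
        rw [this, h2]; group
      apply hfree _ (c₀⁻¹ * c : C).2 _ g g.2 h3
      intro h4
      apply hne
      have : (c₀⁻¹ * c : C) = 1 := Subtype.ext h4
      rw [inv_mul_eq_one] at this
      exact this.symm
    · intro hc; exact absurd (Finset.mem_univ _) hc
  -- split the sum
  have hsplit : ∑ g : Q, F g = ∑ g : Q, (if (g : G) ∈ R then F g else 0) +
      ∑ g : Q, (if (g : G) ∈ R then 0 else F g) := by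
    rw [← Finset.sum_add_distrib]
    apply Finset.sum_congr rfl
    intro g _
    split_ifs <;> simp
  have hscal : ∃ a : K, ∑ g : Q, (if (g : G) ∈ R then F g else 0) = a • (1 : Module.End K V) := by
    have h1 : ∀ g : Q, ∃ a : K, (if (g : G) ∈ R then F g else 0) = a • (1 : Module.End K V) := by
      intro g
      split_ifs with hg
      · obtain ⟨_, c, hc⟩ := hg
        refine ⟨LinearMap.trace K V (X * ρ (g : G)⁻¹) * c, ?_⟩
        simp only [hF]
        rw [hc, smul_smul]
      · exact ⟨0, by rw [zero_smul]⟩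
    choose a ha using h1
    refine ⟨∑ g : Q, a g, ?_⟩
    rw [Finset.sum_congr rfl (fun g _ => ha g), Finset.sum_smul]
  obtain ⟨a, ha⟩ := hscal
  -- the trace part
  set Y : Module.End K V := ∑ g : Q, (if (g : G) ∈ R then 0 else u g • F g) with hY
  have htr : ∑ g : Q, (if (g : G) ∈ R then 0 else F g) = ∑ c : C, ρ c * Y * ρ (c : G)⁻¹ := by
    have h1 : ∀ g : Q, (if (g : G) ∈ R then 0 else F g) =
        ∑ c : C, (if (g : G) ∈ R then 0 else u (act c⁻¹ g) • F g) := by
      intro g
      split_ifs with hg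
      · simp
      · rw [← Finset.sum_smul, ← Equiv.sum_comp (Equiv.inv C)]
        simp only [Equiv.inv_apply, inv_inv]
        rw [hu g hg, one_smul]
    rw [Finset.sum_congr rfl (fun g _ => h1 g), Finset.sum_comm]
    apply Finset.sum_congr rfl
    intro c _
    rw [hY, Finset.mul_sum, Finset.sum_mul]
    -- reindex by act c
    let e : Q ≃ Q :=
      { toFun := act c
        invFun := act c⁻¹
        left_inv := fun g => by
          apply Subtype.ext
          change ((c⁻¹ : C) : G) * ((c : G) * g * (c : G)⁻¹) * ((c⁻¹ : C) : G)⁻¹ = g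
          push_cast; group
        right_inv := fun g => by
          apply Subtype.ext
          change (c : G) * (((c⁻¹ : C) : G) * g * ((c⁻¹ : C) : G)⁻¹) * (c : G)⁻¹ = g
          push_cast; group }
    rw [← Equiv.sum_comp e]
    apply Finset.sum_congr rfl
    intro g _
    have h2 : act c⁻¹ (e g) = g := e.left_inv g
    have h3 : ((e g : Q) : G) ∈ R ↔ (g : G) ∈ R := (hact c g).symm
    rw [h2]
    by_cases hg : (g : G) ∈ R
    · rw [if_pos hg, if_pos (h3.2 hg), mul_zero, zero_mul]
    · rw [if_neg hg, if_neg (fun h => hg (h3.1 h))]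
      have h4 : F ((e g : Q) : G) = ρ c * F g * ρ (c : G)⁻¹ := hFconj c c.2 g
      rw [h4, mul_smul_comm (u g) (ρ (c : G)) (F g), smul_mul_assoc]
  have htot : ((Nat.card Q : K) / (Module.finrank K V : K)) • X =
      a • (1 : Module.End K V) + ∑ c : C, ρ c * Y * ρ (c : G)⁻¹ := by
    rw [← ha, ← htr, ← hsplit, ← hexp]
  have hne : (Nat.card Q : K) / (Module.finrank K V : K) ≠ 0 := div_ne_zero hQ hd
  refine ⟨((Nat.card Q : K) / (Module.finrank K V : K))⁻¹ * a,
    ((Nat.card Q : K) / (Module.finrank K V : K))⁻¹ • Y, ?_⟩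
  have h5 : X = ((Nat.card Q : K) / (Module.finrank K V : K))⁻¹ •
      (((Nat.card Q : K) / (Module.finrank K V : K)) • X) := by
    rw [smul_smul, inv_mul_cancel₀ hne, one_smul]
  rw [h5, htot, smul_add, smul_smul]
  congr 1
  rw [Finset.smul_sum]
  apply Finset.sum_congr rfl
  intro c _
  rw [mul_smul_comm, smul_mul_assoc]

end Cfsg.Agent.HH
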