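import Mathlib

set_option autoImplicit false

/-!
Linear algebra of nilpotent operators.
-/

namespace Cfsg.Agent.HH

open Module

variable {K : Type*} [Field K] {V : Type*} [AddCommGroup V] [Module K V]

theorem finrank_map_add [FiniteDimensional K V] (f : Module.End K V) (P : Submodule K V) :
    finrank K (P.map f) + finrank K ↥(LinearMap.ker f ⊓ P) = finrank K P := by
  have h1 := LinearMap.finrank_range_add_finrank_ker (f.domRestrict P)
  rw [LinearMap.range_domRestrict, LinearMap.ker_domRestrict] at h1
  rw [← h1]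
  congr 1
  have h2 : Submodule.comap P.subtype (LinearMap.ker f) = Submodule.comap P.subtype (LinearMap.ker f ⊓ P) := by
    ext x; simp
  rw [h2]
  exact (LinearEquiv.finrank_eq (Submodule.comapSubtypeEquivOfLe (inf_le_right : LinearMap.ker f ⊓ P ≤ P))).symm

theorem map_range_pow (f : Module.End K V) (i : ℕ) :
    (LinearMap.range (f ^ i)).map f = LinearMap.range (f ^ (i + 1)) := by
  rw [pow_succ', ← LinearMap.range_comp]; rfl

/-- `N · rank (f^(N-1)) ≤ dim` for a nilpotent `f` with `f^N = 0`. -/
theorem mul_finrank_range_pow_le [FiniteDimensional K V] (f : Module.End K V) {N : ℕ} (hN : f ^ N = 0) :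
    N * finrank K (LinearMap.range (f ^ (N - 1))) ≤ finrank K V := by
  set r := finrank K (LinearMap.range (f ^ (N - 1))) with hr
  have key : ∀ j, j ≤ N → j * r ≤ finrank K (LinearMap.range (f ^ (N - j))) := by
    intro j
    induction j with
    | zero => intro _; simp
    | succ j ih =>
      intro hj
      have h1 := finrank_map_add f (LinearMap.range (f ^ (N - (j + 1))))
      rw [map_range_pow] at h1
      have h2 : N - (j + 1) + 1 = N - j := by omega
      rw [h2] at h1
      have h3 : LinearMap.range (f ^ (N - 1)) ≤ LinearMap.ker f ⊓ LinearMap.range (f ^ (N - (j + 1))) := by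
        rintro _ ⟨v, rfl⟩
        refine ⟨?_, ?_⟩
        · change f ((f ^ (N - 1)) v) = 0
          have : f ((f ^ (N - 1)) v) = (f ^ N) v := by
            rw [← Module.End.mul_apply, ← pow_succ', Nat.sub_add_cancel (by omega)]
          rw [this, hN]; rfl
        · refine ⟨(f ^ j) v, ?_⟩
          rw [← Module.End.mul_apply, ← pow_add]
          congr 2; omega
      have h4 := Submodule.finrank_mono h3
      have h5 := ih (by omega)
      rw [← hr] at h4
      have : (j + 1) * r = j * r + r := by ring
      omega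
  have := key N le_rfl
  rw [Nat.sub_self, pow_zero] at this
  calc N * r ≤ _ := this
    _ ≤ finrank K V := Submodule.finrank_le _

/-- `dim V ≤ a · dim (ker n)` if `n^a = 0`. -/
theorem finrank_le_mul_ker [FiniteDimensional K V] (n : Module.End K V) {a : ℕ} (ha : n ^ a = 0) :
    finrank K V ≤ a * finrank K (LinearMap.ker n) := by
  have key : ∀ j, j ≤ a → finrank K (LinearMap.range (n ^ (a - j))) ≤ j * finrank K (LinearMap.ker n) := by
    intro j
    induction j with
    | zero =>
      intro _
      rw [Nat.sub_zero, ha, LinearMap.range_zero, finrank_bot]; omega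
    | succ j ih =>
      intro hj
      have h1 := finrank_map_add n (LinearMap.range (n ^ (a - (j + 1))))
      rw [map_range_pow] at h1
      have h2 : a - (j + 1) + 1 = a - j := by omega
      rw [h2] at h1
      have h4 : finrank K ↥(LinearMap.ker n ⊓ LinearMap.range (n ^ (a - (j + 1)))) ≤ finrank K (LinearMap.ker n) :=
        Submodule.finrank_mono inf_le_left
      have h5 := ih (by omega)
      have : (j + 1) * finrank K (LinearMap.ker n) = j * finrank K (LinearMap.ker n) + finrank K (LinearMap.ker n) := by ring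
      omega
  have := key a le_rfl
  rw [Nat.sub_self, pow_zero] at this
  have h2 : LinearMap.range (1 : Module.End K V) = ⊤ := LinearMap.range_id
  rwa [h2, finrank_top] at this

/-- If every operator commuting with the nilpotent `n` is a scalar on `ker n`, then `ker n` is at most
one-dimensional. -/
theorem finrank_ker_le_one [FiniteDimensional K V] (n : Module.End K V) {a : ℕ} (ha : n ^ a = 0)
    (h : ∀ X : Module.End K V, X * n = n * X → ∃ c : K, ∀ w ∈ LinearMap.ker n, X w = c • w) :
    finrank K (LinearMap.ker n) ≤ 1 := by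
  classical
  -- reduce to the exact nilpotency index
  by_cases hV : ∀ v : V, v = 0
  · have : Subsingleton V := ⟨fun x y => by rw [hV x, hV y]⟩
    have h0 : finrank K V = 0 := finrank_zero_of_subsingleton
    have := Submodule.finrank_le (LinearMap.ker n)
    omega
  push Not at hV
  have hex : ∃ a, n ^ a = 0 := ⟨a, ha⟩
  obtain ⟨m, hm0, hmmin⟩ : ∃ m, n ^ m = 0 ∧ ∀ k < m, n ^ k ≠ 0 :=
    ⟨Nat.find hex, Nat.find_spec hex, fun k hk => Nat.find_min hex hk⟩
  have hmpos : m ≠ 0 := by
    intro h0
    rw [h0, pow_zero] at hm0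
    obtain ⟨v, hv⟩ := hV
    apply hv
    have := congrArg (fun f : Module.End K V => f v) hm0
    simpa using this
  have hm1 : n ^ (m - 1) ≠ 0 := hmmin _ (by omega)
  obtain ⟨v, hv⟩ : ∃ v, (n ^ (m - 1)) v ≠ 0 := by
    by_contra hcon
    push Not at hcon
    exact hm1 (LinearMap.ext hcon)
  set w₀ := (n ^ (m - 1)) v with hw₀
  have hw₀k : n w₀ = 0 := by
    rw [hw₀, ← Module.End.mul_apply, ← pow_succ', Nat.sub_add_cancel (by omega), hm0]; rfl
  obtain ⟨φ, hφ⟩ : ∃ φ : V →ₗ[K] K, φ w₀ = 1 := by
    obtain ⟨f, hf⟩ : ∃ f : V →ₗ[K] K, f w₀ ≠ 0 := by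
      by_contra hcon
      push Not at hcon
      exact hv ((Module.forall_dual_apply_eq_zero_iff K w₀).1 hcon)
    exact ⟨(f w₀)⁻¹ • f, by simp [hf]⟩
  -- the projection
  let π : Module.End K V := ∑ i ∈ Finset.range m, (φ ∘ₗ (n ^ (m - 1 - i))).smulRight ((n ^ i) v)
  have hπ : ∀ w, π w = ∑ i ∈ Finset.range m, φ ((n ^ (m - 1 - i)) w) • (n ^ i) v := by
    intro w
    simp only [π, LinearMap.sum_apply, LinearMap.smulRight_apply, LinearMap.comp_apply]
  obtain ⟨m', rfl⟩ : ∃ m', m = m' + 1 := ⟨m - 1, by omega⟩
  have hcomm : π * n = n * π := by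
    apply LinearMap.ext
    intro w
    rw [Module.End.mul_apply, Module.End.mul_apply, hπ, hπ, map_sum]
    rw [Finset.sum_range_succ', Finset.sum_range_succ]
    have h1 : (n ^ (m' + 1 - 1 - 0)) (n w) = 0 := by
      rw [← Module.End.mul_apply, ← pow_succ]
      simp only [Nat.add_sub_cancel, Nat.sub_zero]
      rw [hm0]; rfl
    have h2 : n (φ ((n ^ (m' + 1 - 1 - m')) w) • (n ^ m') v) = 0 := by
      rw [map_smul, ← Module.End.mul_apply, ← pow_succ', hm0]; simp
    rw [h1, h2, map_zero, zero_smul, add_zero, add_zero]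
    apply Finset.sum_congr rfl
    intro i hi
    rw [Finset.mem_range] at hi
    rw [map_smul, ← Module.End.mul_apply n, ← pow_succ', ← Module.End.mul_apply, ← pow_succ]
    congr 4
    omega
  obtain ⟨c, hc⟩ := h π hcomm
  have hπk : ∀ w ∈ LinearMap.ker n, π w = φ w • w₀ := by
    intro w hw
    rw [LinearMap.mem_ker] at hw
    rw [hπ, Finset.sum_eq_single m']
    · simp only [Nat.add_sub_cancel, Nat.sub_self, pow_zero, Module.End.one_apply]
      rw [hw₀, Nat.add_sub_cancel]
    · intro i hi hne
      rw [Finset.mem_range] at hi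
      have : (n ^ (m' + 1 - 1 - i)) w = 0 := by
        have h3 : m' + 1 - 1 - i = (m' - i - 1) + 1 := by omega
        rw [h3, pow_succ, Module.End.mul_apply, hw, map_zero]
      rw [this, map_zero, zero_smul]
    · intro hcon
      exact absurd (Finset.mem_range.2 (Nat.lt_succ_self m')) hcon
  have hc1 : c = 1 := by
    have h1 := hc w₀ (LinearMap.mem_ker.2 hw₀k)
    rw [hπk w₀ (LinearMap.mem_ker.2 hw₀k), hφ, one_smul] at h1
    have h2 : (c - 1) • w₀ = 0 := by rw [sub_smul, one_smul, ← h1, sub_self]
    rcases smul_eq_zero.1 h2 with h3 | h3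
    · exact sub_eq_zero.1 h3
    · exact absurd h3 hv
  have hle : LinearMap.ker n ≤ Submodule.span K {w₀} := by
    intro w hw
    have h1 := hc w hw
    rw [hπk w hw, hc1, one_smul] at h1
    rw [← h1]
    exact Submodule.smul_mem _ _ (Submodule.mem_span_singleton_self w₀)
  calc finrank K (LinearMap.ker n) ≤ finrank K (Submodule.span K {w₀}) := Submodule.finrank_mono hle
    _ ≤ 1 := finrank_span_le_card ({w₀} : Set V) |>.trans (by simp)

end Cfsg.Agent.HH
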