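import Mathlib
import Cfsg.Agent.HH.Cas
import Cfsg.Agent.HH.Nil

set_option autoImplicit false

/-!
The critical case of the Hall–Higman theorem, in characteristic `p`.
-/

namespace Cfsg.Agent.HH

open Module
open scoped BigOperators

theorem geom_eq_pow {R : Type*} [Ring R] {p : ℕ} [Fact p.Prime] [CharP R p] (T : R) (r : ℕ) :
    ∑ i ∈ Finset.range (p ^ r), T ^ i = (T - 1) ^ (p ^ r - 1) := by
  have hp : p.Prime := Fact.out
  -- polynomial identity over ZMod p
  have key : ∑ i ∈ Finset.range (p ^ r), (Polynomial.X : Polynomial (ZMod p)) ^ i =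
      (Polynomial.X - 1) ^ (p ^ r - 1) := by
    have h1 : (∑ i ∈ Finset.range (p ^ r), (Polynomial.X : Polynomial (ZMod p)) ^ i) * (Polynomial.X - 1) =
        Polynomial.X ^ (p ^ r) - 1 := geom_sum_mul _ _
    have h2 : ((Polynomial.X : Polynomial (ZMod p)) - 1) ^ (p ^ r - 1) * (Polynomial.X - 1) =
        Polynomial.X ^ (p ^ r) - 1 := by
      rw [← pow_succ, Nat.sub_add_cancel (Nat.one_le_iff_ne_zero.2 (pow_pos hp.pos r).ne'),
        sub_pow_char_pow, one_pow]
    have h3 : (Polynomial.X : Polynomial (ZMod p)) - 1 ≠ 0 := by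
      have := Polynomial.X_sub_C_ne_zero (1 : ZMod p)
      rwa [Polynomial.C_1] at this
    exact mul_right_cancel₀ h3 (h1.trans h2.symm)
  letI : Algebra (ZMod p) R := ZMod.algebra R p
  have := congrArg (Polynomial.aeval T) key
  simpa only [map_sum, map_pow, Polynomial.aeval_X, map_sub, map_one] using this

variable {K : Type*} [Field K] {V : Type*} [AddCommGroup V] [Module K V]

theorem card_le_natDegree_minpoly (n : Module.End K V) {m : ℕ} (hm : n ^ m = 0)
    (hmin : ∀ k < m, n ^ k ≠ 0) : m ≤ (minpoly K n).natDegree := by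
  have h1 : minpoly K n ∣ Polynomial.X ^ m := minpoly.dvd K n (by
    rw [map_pow, Polynomial.aeval_X, hm])
  obtain ⟨j, hj, hassoc⟩ := (dvd_prime_pow Polynomial.prime_X m).1 h1
  have hint : IsIntegral K n := ⟨Polynomial.X ^ m, Polynomial.monic_X_pow m, by
    simp [hm]⟩
  have h2 : minpoly K n = Polynomial.X ^ j :=
    Polynomial.eq_of_monic_of_associated (minpoly.monic hint) (Polynomial.monic_X_pow j) hassoc
  have h3 : n ^ j = 0 := by
    have := minpoly.aeval K n
    rw [h2, map_pow, Polynomial.aeval_X] at this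
    exact this
  rw [h2, Polynomial.natDegree_X_pow]
  by_contra hcon
  exact hmin j (by omega) h3

/-- If the powers of the nilpotent `n` of index `m` lie in `S`, then `m ≤ dim S`. -/
theorem index_le_finrank [FiniteDimensional K V] (n : Module.End K V) {m : ℕ} (hm : n ^ m = 0)
    (hmin : ∀ k < m, n ^ k ≠ 0) (S : Submodule K (Module.End K V)) (hS : ∀ k, n ^ k ∈ S) :
    m ≤ finrank K S := by
  have h1 := linearIndependent_pow (K := K) n
  have h2 : (minpoly K n).natDegree ≤ finrank K S := by
    have h3 : LinearIndependent K (fun i : Fin (minpoly K n).natDegree => (⟨n ^ (i : ℕ), hS i⟩ : S)) := by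
      apply LinearIndependent.of_comp S.subtype
      exact h1
    simpa using h3.fintype_card_le_finrank
  exact (card_le_natDegree_minpoly n hm hmin).trans h2

theorem index_le_dim [FiniteDimensional K V] (n : Module.End K V) {m : ℕ} (hm : n ^ m = 0)
    (hmin : ∀ k < m, n ^ k ≠ 0) : m ≤ finrank K V := by
  by_contra hcon
  push Not at hcon
  apply hmin _ hcon
  have h1 : IsNilpotent n := ⟨m, hm⟩
  have h2 := IsNilpotent.charpoly_eq_X_pow_finrank h1
  have h3 := LinearMap.aeval_self_charpoly n
  rw [h2, map_pow, Polynomial.aeval_X] at h3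
  exact h3

variable {G : Type*} [Group G] {ρ : Representation K G V} {Q : Subgroup G}

theorem sum_zpowers {M : Type*} [AddCommMonoid M] {y : G} (hy : IsOfFinOrder y)
    [Fintype (Subgroup.zpowers y)] (f : G → M) :
    ∑ c : Subgroup.zpowers y, f c = ∑ i ∈ Finset.range (orderOf y), f (y ^ i) := by
  rw [← Equiv.sum_comp (finEquivZPowers hy), ← Fin.sum_univ_eq_sum_range (fun i => f (y ^ i))]
  rfl

/-- **Critical case** in characteristic `p`. -/
theorem crit_charP [IsAlgClosed K] [FiniteDimensional K V] {p : ℕ} [Fact p.Prime] [CharP K p]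
    [Finite Q] (h : Irr ρ Q) (hQ : (Nat.card Q : K) ≠ 0) {y : G} {r : ℕ} (hr : 1 ≤ r)
    (hy : orderOf y = p ^ r) (hfaith : ρ (y ^ p ^ (r - 1)) ≠ 1)
    (hnorm : ∀ c ∈ Subgroup.zpowers y, ∀ g ∈ Q, c * g * c⁻¹ ∈ Q)
    (hfree : ∀ c ∈ Subgroup.zpowers y, c ≠ 1 → ∀ g ∈ Q, c * g * c⁻¹ = g → g ∈ scal ρ Q)
    (hs : (ρ y - 1) ^ (p ^ r - 1) = 0) :
    finrank K V = p ^ r - 1 ∧ (ρ y - 1) ^ (p ^ r - 2) ≠ 0 := by
  classical
  have hp : p.Prime := Fact.out
  haveI := h.nt
  haveI : CharP (Module.End K V) p := by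
    haveI : Nontrivial (Module.End K V) := inferInstance
    exact charP_of_injective_algebraMap (FaithfulSMul.algebraMap_injective K (Module.End K V)) p
  have hfin : IsOfFinOrder y := by
    rw [← orderOf_pos_iff, hy]; exact pow_pos hp.pos r
  haveI : Finite (Subgroup.zpowers y) := Set.finite_coe_iff.2 (finite_zpowers.2 hfin)
  haveI := Fintype.ofFinite (Subgroup.zpowers y)
  set N := p ^ r with hN
  have hN2 : 2 ≤ N := by
    calc 2 ≤ p := hp.two_le
      _ = p ^ 1 := (pow_one p).symm
      _ ≤ p ^ r := Nat.pow_le_pow_right hp.pos hr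
  set n := ρ y - 1 with hn
  -- Theorem A
  have hA : ∀ X : Module.End K V, X * n = n * X → ∃ (a : K) (Y : Module.End K V),
      X = a • (1 : Module.End K V) + ∑ i ∈ Finset.range N, ρ (y ^ i) * Y * ρ (y ^ i)⁻¹ := by
    intro X hX
    have hX' : ρ y * X = X * ρ y := by
      have h1 : X * ρ y = X * n + X := by rw [hn, mul_sub, mul_one, sub_add_cancel]
      have h2 : ρ y * X = n * X + X := by rw [hn, sub_mul, one_mul, sub_add_cancel]
      rw [h1, h2, hX]
    have hXc : ∀ c ∈ Subgroup.zpowers y, ρ c * X = X * ρ c := by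
      intro c hc
      obtain ⟨k, hk⟩ := (Submonoid.mem_powers_iff c y).1 (hfin.mem_powers_iff_mem_zpowers.2 hc)
      rw [← hk, map_pow]
      exact (Commute.pow_left (show Commute (ρ y) X from hX') k).eq
    obtain ⟨a, Y, hXY⟩ := h.commute_eq hQ (Subgroup.zpowers y) hnorm hfree X hXc
    refine ⟨a, Y, ?_⟩
    rw [hXY, sum_zpowers hfin (fun c => ρ c * Y * ρ c⁻¹), hy]
  -- operators commuting with n are scalars on ker n
  have hker : ∀ X : Module.End K V, X * n = n * X → ∃ c : K, ∀ w ∈ LinearMap.ker n, X w = c • w := by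
    intro X hX
    obtain ⟨a, Y, hXY⟩ := hA X hX
    refine ⟨a, fun w hw => ?_⟩
    have hw1 : ρ y w = w := by
      have : n w = 0 := hw
      rw [hn, LinearMap.sub_apply, Module.End.one_apply, sub_eq_zero] at this
      exact this
    have hw2 : ∀ i : ℕ, ρ (y ^ i)⁻¹ w = w := by
      intro i
      have h1 : ρ (y ^ i) w = w := by
        rw [map_pow]
        induction i with
        | zero => simp
        | succ i ih => rw [pow_succ, Module.End.mul_apply, hw1, ih]
      conv_lhs => rw [← h1]
      rw [rho_inv_apply]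
    have h2 : (∑ i ∈ Finset.range N, ρ (y ^ i) * Y * ρ (y ^ i)⁻¹) w = 0 := by
      rw [LinearMap.sum_apply]
      have h3 : ∀ i ∈ Finset.range N, (ρ (y ^ i) * Y * ρ (y ^ i)⁻¹) w = ((ρ y) ^ i) (Y w) := by
        intro i _
        rw [Module.End.mul_apply, Module.End.mul_apply, hw2, map_pow]
      rw [Finset.sum_congr rfl h3, ← LinearMap.sum_apply, geom_eq_pow, ← hn, hs]
      rfl
    rw [hXY, LinearMap.add_apply, h2, add_zero]; rfl
  have hkd := finrank_ker_le_one n hs hker
  -- nilpotency index
  obtain ⟨m, hm0, hmmin⟩ : ∃ m, n ^ m = 0 ∧ ∀ k < m, n ^ k ≠ 0 := by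
    have hex : ∃ m, n ^ m = 0 := ⟨_, hs⟩
    exact ⟨Nat.find hex, Nat.find_spec hex, fun k hk => Nat.find_min hex hk⟩
  have hmN : m ≤ N - 1 := by
    by_contra hcon
    exact hmmin _ (by omega) hs
  have hdm : finrank K V ≤ m := by
    calc finrank K V ≤ m * finrank K (LinearMap.ker n) := finrank_le_mul_ker n hm0
      _ ≤ m * 1 := Nat.mul_le_mul_left _ hkd
      _ = m := mul_one m
  have hmd : m ≤ finrank K V := index_le_dim n hm0 hmmin
  set d := finrank K V with hd
  have hdeq : m = d := le_antisymm hmd hdm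
  -- order of y
  have hpm : p ^ (r - 1) < m := by
    by_contra hcon
    push Not at hcon
    apply hfaith
    have h1 : n ^ p ^ (r - 1) = 0 := by
      have : p ^ (r - 1) = m + (p ^ (r - 1) - m) := by omega
      rw [this, pow_add, hm0, zero_mul]
    rw [hn, sub_pow_char_pow_of_commute _ _ (Commute.one_right _), one_pow, ← map_pow] at h1
    exact sub_eq_zero.1 h1
  -- conjugation by y
  let Ad : Module.End K (Module.End K V) :=
    { toFun := fun X => ρ y * X * ρ y⁻¹
      map_add' := fun X Y => by rw [mul_add, add_mul]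
      map_smul' := fun c X => by rw [mul_smul_comm, smul_mul_assoc]; rfl }
  have hAd : ∀ (i : ℕ) (X : Module.End K V), (Ad ^ i) X = ρ (y ^ i) * X * ρ (y ^ i)⁻¹ := by
    intro i X
    induction i with
    | zero => simp
    | succ i ih =>
      rw [pow_succ', Module.End.mul_apply, ih]
      change ρ y * (ρ (y ^ i) * X * ρ (y ^ i)⁻¹) * ρ y⁻¹ = _
      rw [pow_succ' y, map_mul ρ y, mul_inv_rev, map_mul ρ (y ^ i)⁻¹]
      simp only [mul_assoc]
  haveI : Nontrivial (Module.End K V) := inferInstance
  haveI : CharP (Module.End K (Module.End K V)) p :=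
    charP_of_injective_algebraMap (FaithfulSMul.algebraMap_injective K (Module.End K (Module.End K V))) p
  have hAdN : (Ad - 1) ^ N = 0 := by
    rw [hN, sub_pow_char_pow_of_commute _ _ (Commute.one_right _), one_pow, sub_eq_zero]
    apply LinearMap.ext
    intro X
    rw [hAd, ← hN, ← hy, pow_orderOf_eq_one, inv_one, map_one, one_mul, mul_one]; rfl
  have hTr : ∀ Y : Module.End K V, ∑ i ∈ Finset.range N, ρ (y ^ i) * Y * ρ (y ^ i)⁻¹ = ((Ad - 1) ^ (N - 1)) Y := by
    intro Y
    rw [hN, ← geom_eq_pow, LinearMap.sum_apply]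
    apply Finset.sum_congr rfl
    intro i _
    rw [hAd]
  set R := LinearMap.range ((Ad - 1) ^ (N - 1)) with hR
  have hrank : N * finrank K R ≤ d * d := by
    have h1 := mul_finrank_range_pow_le (Ad - 1) hAdN
    have h2 : finrank K (Module.End K V) = d * d := Module.finrank_linearMap K K V V
    rwa [h2] at h1
  have hm1 : m ≤ 1 + finrank K R := by
    have h1 := index_le_finrank n hm0 hmmin (Submodule.span K {(1 : Module.End K V)} ⊔ R) (by
      intro k
      obtain ⟨a, Y, hXY⟩ := hA (n ^ k) (by rw [← pow_succ, ← pow_succ'])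
      rw [hXY, hTr]
      exact Submodule.add_mem_sup (Submodule.smul_mem _ _ (Submodule.mem_span_singleton_self _)) ⟨Y, rfl⟩)
    calc m ≤ _ := h1
      _ ≤ finrank K (Submodule.span K {(1 : Module.End K V)}) + finrank K R :=
          Submodule.finrank_add_le_finrank_add_finrank _ _
      _ ≤ 1 + finrank K R := by
          have : finrank K (Submodule.span K {(1 : Module.End K V)}) ≤ 1 :=
            (finrank_span_le_card ({(1 : Module.End K V)} : Set _)).trans (by simp)
          omega
  have hfinal : d = N - 1 := by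
    by_contra hne
    have hd2 : d + 2 ≤ N := by omega
    have h1 : N * (d - 1) ≤ d * d := by
      calc N * (d - 1) ≤ N * finrank K R := Nat.mul_le_mul_left _ (by omega)
        _ ≤ _ := hrank
    have hd1 : 1 < d := by
      have : 1 ≤ p ^ (r - 1) := Nat.one_le_iff_ne_zero.2 (pow_pos hp.pos _).ne'
      omega
    obtain ⟨e, he⟩ : ∃ e, d = e + 1 := ⟨d - 1, by omega⟩
    rw [he] at h1 hd2 hd1
    simp only [Nat.add_sub_cancel] at h1
    have he1 : e = 1 := by
      have h3 : (e + 3) * e ≤ (e + 1) * (e + 1) := (Nat.mul_le_mul_right e (by omega)).trans h1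
      nlinarith
    subst he1
    have hN4 : N = 4 := by omega
    have hr1 : p ^ (r - 1) < 2 := by omega
    have hr2 : r = 1 := by
      by_contra hr'
      have : 2 ≤ r := by omega
      have h4 : p ^ 1 ≤ p ^ (r - 1) := Nat.pow_le_pow_right hp.pos (by omega)
      rw [pow_one] at h4
      have := hp.two_le
      omega
    rw [hN, hr2, pow_one] at hN4
    rw [hN4] at hp
    norm_num at hp
  refine ⟨hfinal, ?_⟩
  apply hmmin
  omega

end Cfsg.Agent.HH
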