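import Mathlib
import Cfsg.Agent.HH.Cas

set_option autoImplicit false

/-!
Clifford theory in the form of systems of imprimitivity, and degrees of irreducible representations of
`q`-groups in characteristic not `q`.
-/

namespace Cfsg.Agent.HH

open Module
open scoped BigOperators

variable {K : Type*} [Field K] {V : Type*} [AddCommGroup V] [Module K V]
variable {G : Type*} [Group G] {ρ : Representation K G V} {P : Subgroup G}

/-- The sum of the translates of a subspace. -/
def transl (ρ : Representation K G V) (P : Subgroup G) (W : Submodule K V) : Submodule K V :=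
  ⨆ g : P, W.map (ρ g)

theorem transl_invariant (W : Submodule K V) : ∀ g ∈ P, ∀ w ∈ transl ρ P W, ρ g w ∈ transl ρ P W := by
  intro g hg w hw
  have h1 : (transl ρ P W).map (ρ g) ≤ transl ρ P W := by
    rw [transl, Submodule.map_iSup]
    apply iSup_le
    intro k
    have h2 : (W.map (ρ k)).map (ρ g) = W.map (ρ (((⟨g, hg⟩ : P) * k : P) : G)) := by
      rw [← Submodule.map_comp]
      congr 1
      exact (map_mul ρ g k).symm
    rw [h2]
    exact le_iSup (fun k : P => W.map (ρ k)) ((⟨g, hg⟩ : P) * k)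
  exact h1 ⟨w, hw, rfl⟩

theorem le_transl (W : Submodule K V) : W ≤ transl ρ P W := by
  intro w hw
  refine (le_iSup (fun k : P => W.map (ρ k)) 1) ⟨w, hw, ?_⟩
  rw [Subgroup.coe_one, map_one]; rfl

theorem Irr.transl_eq_top (h : Irr ρ P) {W : Submodule K V} (hW : W ≠ ⊥) : transl ρ P W = ⊤ := by
  rcases h.irr (transl ρ P W) (transl_invariant W) with h1 | h1
  · exact absurd (eq_bot_iff.2 ((le_transl W).trans h1.le)) hW
  · exact h1

section Imprimitivity

variable {ι : Type*} [MulAction P ι] {E : ι → Submodule K V}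

/-- The stabilizer of a block acts irreducibly on it. -/
theorem Irr.block_irr (h : Irr ρ P) (hE : iSupIndep E)
    (hact : ∀ (g : P) (i : ι), ∀ w ∈ E i, ρ g w ∈ E (g • i)) (i₀ : ι)
    {W : Submodule K V} (hW : W ≠ ⊥) (hWE : W ≤ E i₀)
    (hinv : ∀ g : P, g • i₀ = i₀ → ∀ w ∈ W, ρ g w ∈ W) : W = E i₀ := by
  apply le_antisymm hWE
  intro v hv
  have h1 : v ∈ transl ρ P W := by rw [h.transl_eq_top hW]; exact Submodule.mem_top
  -- transl ≤ W ⊔ ⨆ j ≠ i₀, E j
  have h2 : transl ρ P W ≤ W ⊔ ⨆ j, ⨆ (_ : j ≠ i₀), E j := by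
    apply iSup_le
    intro g
    by_cases hg : g • i₀ = i₀
    · refine le_trans ?_ le_sup_left
      rintro _ ⟨w, hw, rfl⟩
      exact hinv g hg w hw
    · refine le_trans ?_ le_sup_right
      refine le_trans ?_ (le_iSup_of_le (g • i₀) (le_iSup_of_le hg le_rfl))
      rintro _ ⟨w, hw, rfl⟩
      exact hact g i₀ w (hWE hw)
  obtain ⟨w, hw, u, hu, hwu⟩ := Submodule.mem_sup.1 (h2 h1)
  have h3 : u ∈ E i₀ := by
    have : u = v - w := by rw [← hwu]; abel
    rw [this]; exact Submodule.sub_mem _ hv (hWE hw)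
  have h4 : u ∈ E i₀ ⊓ ⨆ j, ⨆ (_ : j ≠ i₀), E j := ⟨h3, hu⟩
  rw [(hE i₀).eq_bot, Submodule.mem_bot] at h4
  rw [← hwu, h4, add_zero]
  exact hw

/-- The dimension is the number of blocks times the dimension of a block. -/
theorem Irr.finrank_eq [FiniteDimensional K V] (h : Irr ρ P) (hE : iSupIndep E)
    (hact : ∀ (g : P) (i : ι), ∀ w ∈ E i, ρ g w ∈ E (g • i)) (i₀ : ι) (hi₀ : E i₀ ≠ ⊥) [Finite P] :
    finrank K V = Nat.card (MulAction.orbit P i₀) * finrank K (E i₀) := by
  classical
  haveI : Finite (MulAction.orbit P i₀) := Finite.Set.finite_range _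
  haveI := Fintype.ofFinite (MulAction.orbit P i₀)
  have hex : ∀ o : MulAction.orbit P i₀, ∃ g : P, g • i₀ = o := fun o => o.2
  choose gg hgg using hex
  let Φ : (MulAction.orbit P i₀ → E i₀) →ₗ[K] V :=
    ∑ o : MulAction.orbit P i₀, (ρ (gg o)) ∘ₗ (E i₀).subtype ∘ₗ LinearMap.proj o
  have hΦ : ∀ f, Φ f = ∑ o, ρ (gg o) (f o) := by
    intro f
    simp only [Φ, LinearMap.sum_apply, LinearMap.comp_apply, LinearMap.proj_apply, Submodule.subtype_apply]
  have hinj : Function.Injective Φ := by
    rw [injective_iff_map_eq_zero]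
    intro f hf
    rw [hΦ] at hf
    have hE' : iSupIndep (fun o : MulAction.orbit P i₀ => E o) := hE.comp Subtype.val_injective
    have h1 := (iSupIndep_iff_finsetSum_eq_zero_imp_eq_zero _).1 hE' Finset.univ (fun o => ρ (gg o) (f o))
      (fun o _ => by
        have := hact (gg o) i₀ (f o) (f o).2
        rwa [hgg o] at this) hf
    funext o
    apply Subtype.ext
    have h2 := h1 o (Finset.mem_univ o)
    have h3 : ρ (gg o : G)⁻¹ (ρ (gg o) (f o)) = 0 := by rw [h2, map_zero]
    rw [rho_inv_apply] at h3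
    exact h3
  have hsurj : Function.Surjective Φ := by
    rw [← LinearMap.range_eq_top, eq_top_iff, ← h.transl_eq_top hi₀]
    apply iSup_le
    intro g
    rintro _ ⟨w, hw, rfl⟩
    set o : MulAction.orbit P i₀ := ⟨g • i₀, g, rfl⟩ with ho
    have h1 : ρ (((gg o)⁻¹ * g : P) : G) w ∈ E i₀ := by
      have h2 := hact ((gg o)⁻¹ * g) i₀ w hw
      have h3 : ((gg o)⁻¹ * g) • i₀ = i₀ := by
        rw [mul_smul, inv_smul_eq_iff, hgg o]
      rwa [h3] at h2
    refine ⟨Pi.single o ⟨_, h1⟩, ?_⟩
    rw [hΦ, Finset.sum_eq_single o]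
    · rw [Pi.single_eq_same, ← rho_mul]
      congr 2
      push_cast; group
    · intro o' _ ho'
      rw [Pi.single_eq_of_ne ho']
      simp
    · intro hcon; exact absurd (Finset.mem_univ o) hcon
  have h1 := (LinearEquiv.ofBijective Φ ⟨hinj, hsurj⟩).finrank_eq
  rw [← h1, Module.finrank_pi_fintype, Finset.sum_const, Finset.card_univ, smul_eq_mul,
    Nat.card_eq_fintype_card]

end Imprimitivity

/-- Restriction of a representation to an invariant subspace and a subgroup. -/
def restr (ρ : Representation K G V) (H : Subgroup G) (W : Submodule K V)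
    (hW : ∀ g ∈ H, ∀ w ∈ W, ρ g w ∈ W) : Representation K H W where
  toFun g := (ρ g).restrict (hW g g.2)
  map_one' := by
    apply LinearMap.ext; intro w; apply Subtype.ext
    change ρ ((1 : H) : G) w = w
    rw [Subgroup.coe_one, map_one]; rfl
  map_mul' a b := by
    apply LinearMap.ext; intro w; apply Subtype.ext
    change ρ ((a * b : H) : G) w = ρ a (ρ b w)
    rw [Subgroup.coe_mul, rho_mul]

@[simp] theorem restr_apply (ρ : Representation K G V) (H : Subgroup G) (W : Submodule K V)
    (hW : ∀ g ∈ H, ∀ w ∈ W, ρ g w ∈ W) (g : H) (w : W) : ((restr ρ H W hW g w : W) : V) = ρ g w := rfl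

theorem isScal_inj [Nontrivial V] {a b : K} (h : a • (1 : Module.End K V) = b • 1) : a = b := by
  obtain ⟨v, hv⟩ := exists_ne (0 : V)
  have h1 := congrArg (fun f : Module.End K V => f v) h
  simp only [LinearMap.smul_apply, Module.End.one_apply] at h1
  have h2 : (a - b) • v = 0 := by rw [sub_smul, h1, sub_self]
  rcases smul_eq_zero.1 h2 with h3 | h3
  · exact sub_eq_zero.1 h3
  · exact absurd h3 hv

end Cfsg.Agent.HH
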