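import Mathlib
import Cfsg.Agent.HH.Cliff

set_option autoImplicit false

/-!
Degrees of irreducible representations of `q`-groups over algebraically closed fields.
-/

namespace Cfsg.Agent.HH

open Module
open scoped BigOperators

universe u v w

variable {K : Type w} [Field K]

theorem finrank_eq_one_of_scal {V : Type v} [AddCommGroup V] [Module K V] {Q : Type u} [Group Q]
    {ρ : Representation K Q V} (h : Irr ρ ⊤) (hs : ∀ g : Q, ∃ c : K, ρ g = c • (1 : Module.End K V)) :
    finrank K V = 1 := by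
  haveI := h.nt
  obtain ⟨v, hv⟩ := exists_ne (0 : V)
  have h1 := h.irr (Submodule.span K {v}) (by
    intro g _ w hw
    obtain ⟨c, hc⟩ := hs g
    rw [hc]
    exact Submodule.smul_mem _ _ hw)
  rcases h1 with h1 | h1
  · rw [Submodule.span_singleton_eq_bot] at h1
    exact absurd h1 hv
  · rw [← finrank_top K V, ← h1, finrank_span_singleton hv]

/-- The degree of an irreducible representation of a `q`-group is a power of `q`. -/
theorem degree_of_qgroup [IsAlgClosed K] {q : ℕ} [hq : Fact q.Prime] (n : ℕ) :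
    ∀ (Q : Type u) [Group Q] [Finite Q], Nat.card Q = n → IsPGroup q Q →
    ∀ (V : Type v) [AddCommGroup V] [Module K V] [FiniteDimensional K V] (ρ : Representation K Q V),
      Irr ρ ⊤ → ∃ b : ℕ, finrank K V = q ^ b := by
  induction n using Nat.strong_induction_on with
  | _ n ih =>
  intro Q _ _ hn hQ V _ _ _ ρ h
  classical
  haveI := h.nt
  set R := scal ρ (⊤ : Subgroup Q) with hR
  have hRmem : ∀ g : Q, g ∈ R ↔ ∃ c : K, ρ g = c • (1 : Module.End K V) := fun g =>
    ⟨fun hg => hg.2, fun hg => ⟨Subgroup.mem_top g, hg⟩⟩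
  by_cases hRtop : R = ⊤
  · refine ⟨0, ?_⟩
    rw [pow_zero]
    apply finrank_eq_one_of_scal h
    intro g
    exact (hRmem g).1 (by rw [hRtop]; exact Subgroup.mem_top g)
  haveI hRn : R.Normal := by
    constructor
    intro g hg k
    rw [hRmem] at hg ⊢
    obtain ⟨c, hc⟩ := hg
    exact ⟨c, by rw [map_mul, map_mul, hc, mul_smul_comm, mul_one, smul_mul_assoc, rho_mul_inv]⟩
  haveI : Nontrivial (Q ⧸ R) := by
    by_contra hcon
    rw [not_nontrivial_iff_subsingleton] at hcon
    exact hRtop (QuotientGroup.subsingleton_iff.1 hcon)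
  have hQR : IsPGroup q (Q ⧸ R) := hQ.to_quotient R
  haveI := hQR.center_nontrivial
  obtain ⟨⟨abar, hab⟩, hab1⟩ := exists_ne (1 : Subgroup.center (Q ⧸ R))
  obtain ⟨a, rfl⟩ := QuotientGroup.mk'_surjective R abar
  have haR : a ∉ R := by
    intro haR
    apply hab1
    apply Subtype.ext
    exact (QuotientGroup.eq_one_iff a).2 haR
  have hga : ∀ g : Q, g * a * g⁻¹ * a⁻¹ ∈ R := by
    intro g
    rw [← QuotientGroup.eq_one_iff]
    have h1 := Subgroup.mem_center_iff.1 hab (QuotientGroup.mk' R g)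
    have h2 : QuotientGroup.mk' R g * QuotientGroup.mk' R a * (QuotientGroup.mk' R g)⁻¹ *
      (QuotientGroup.mk' R a)⁻¹ = 1 := by rw [h1]; group
    exact h2
  have hex : ∀ g : Q, ∃ c : K, ρ (g * a * g⁻¹) = c • ρ a := by
    intro g
    obtain ⟨c, hc⟩ := (hRmem _).1 (hga g)
    refine ⟨c, ?_⟩
    have h1 : g * a * g⁻¹ = (g * a * g⁻¹ * a⁻¹) * a := by group
    rw [h1, map_mul, hc, smul_mul_assoc, one_mul]
  have hane : ρ a ≠ 0 := by
    intro h0
    have := rho_mul_inv ρ a
    rw [h0, zero_mul] at this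
    exact zero_ne_one this
  choose c hc using hex
  have huniq : ∀ x y : K, x • ρ a = y • ρ a → x = y := by
    intro x y hxy
    have : (x - y) • ρ a = 0 := by rw [sub_smul, hxy, sub_self]
    rcases smul_eq_zero.1 this with h1 | h1
    · exact sub_eq_zero.1 h1
    · exact absurd h1 hane
  have hc1 : c 1 = 1 := by
    apply huniq
    rw [← hc 1, one_smul]; congr 1; group
  have hcm : ∀ g k : Q, c (g * k) = c g * c k := by
    intro g k
    apply huniq
    rw [← hc (g * k)]
    have h1 : g * k * a * (g * k)⁻¹ = g * (k * a * k⁻¹) * g⁻¹ := by group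
    rw [h1, map_mul, map_mul, hc k, mul_smul_comm, smul_mul_assoc, ← map_mul, ← map_mul, hc g, smul_smul,
      mul_comm]
  have hcne : ∀ g : Q, c g ≠ 0 := by
    intro g h0
    have := hcm g g⁻¹
    rw [mul_inv_cancel, hc1, h0, zero_mul] at this
    exact one_ne_zero this
  have hcinv : ∀ g : Q, c g⁻¹ = (c g)⁻¹ := by
    intro g
    apply eq_inv_of_mul_eq_one_left
    rw [← hcm, inv_mul_cancel, hc1]
  -- action on K
  letI act : MulAction (⊤ : Subgroup Q) K :=
    { smul := fun g x => (c g)⁻¹ * x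
      one_smul := fun x => by
        change (c ((1 : (⊤ : Subgroup Q)) : Q))⁻¹ * x = x
        rw [Subgroup.coe_one, hc1]; simp
      mul_smul := fun g k x => by
        change (c ((g * k : (⊤ : Subgroup Q)) : Q))⁻¹ * x = (c g)⁻¹ * ((c k)⁻¹ * x)
        rw [Subgroup.coe_mul, hcm, mul_inv, mul_assoc] }
  have hsmul : ∀ (g : (⊤ : Subgroup Q)) (x : K), g • x = (c g)⁻¹ * x := fun _ _ => rfl
  set E : K → Submodule K V := fun x => Module.End.eigenspace (ρ a) x with hE
  have hindep : iSupIndep E := Module.End.eigenspaces_iSupIndep (ρ a)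
  have hact : ∀ (g : (⊤ : Subgroup Q)) (x : K), ∀ w ∈ E x, ρ g w ∈ E (g • x) := by
    intro g x w hw
    simp only [hE, Module.End.mem_eigenspace_iff] at hw ⊢
    rw [hsmul]
    have h1 : ρ a (ρ g w) = ρ g (ρ ((g : Q)⁻¹ * a * (g : Q)⁻¹⁻¹) w) := by
      rw [← rho_mul, ← rho_mul]; congr 2; group
    rw [h1, hc, LinearMap.smul_apply, hw, map_smul, map_smul, smul_smul, hcinv]
  obtain ⟨x₀, hx₀⟩ := Module.End.exists_eigenvalue (ρ a)
  have hEx₀ : E x₀ ≠ ⊥ := hx₀
  have hx₀ne : x₀ ≠ 0 := by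
    intro h0
    obtain ⟨w, hw, hw0⟩ := (Submodule.ne_bot_iff _).1 hEx₀
    simp only [hE, Module.End.mem_eigenspace_iff] at hw
    rw [h0, zero_smul] at hw
    apply hw0
    rw [← rho_inv_apply ρ a w, hw, map_zero]
  have hfr := h.finrank_eq hindep hact x₀ hEx₀
  -- the stabilizer
  let M : Subgroup Q :=
    { carrier := {g | c g = 1}
      one_mem' := hc1
      mul_mem' := fun {g k} hg hk => by
        change c (g * k) = 1
        rw [hcm, show c g = 1 from hg, show c k = 1 from hk, mul_one]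
      inv_mem' := fun {g} hg => by
        change c g⁻¹ = 1
        rw [hcinv, show c g = 1 from hg, inv_one] }
  have hMmem : ∀ g : Q, g ∈ M ↔ c g = 1 := fun _ => Iff.rfl
  have hMtop : M ≠ ⊤ := by
    intro hM
    apply haR
    rw [hRmem]
    apply h.schur
    intro g _
    have h1 : c g = 1 := by rw [← hMmem, hM]; exact Subgroup.mem_top g
    have h2 := hc g
    rw [h1, one_smul] at h2
    have h3 : g * a = (g * a * g⁻¹) * g := by group
    rw [← map_mul, ← map_mul, h3, map_mul ρ (g * a * g⁻¹) g, h2, map_mul]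
  have hMcard : Nat.card M < n := by
    rw [← hn]
    exact lt_of_le_of_ne (Subgroup.card_le_card_group M) (fun h => hMtop (Subgroup.eq_top_of_card_eq M h))
  have hMinv : ∀ g ∈ M, ∀ w ∈ E x₀, ρ g w ∈ E x₀ := by
    intro g hg w hw
    have h1 := hact ⟨g, Subgroup.mem_top g⟩ x₀ w hw
    rw [hsmul] at h1
    have h2 : c ((⟨g, Subgroup.mem_top g⟩ : (⊤ : Subgroup Q)) : Q) = 1 := hg
    rwa [h2, inv_one, one_mul] at h1
  have hMirr : Irr (restr ρ M (E x₀) hMinv) ⊤ := by
    refine ⟨(Submodule.nontrivial_iff_ne_bot).2 hEx₀, ?_⟩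
    intro W hW
    by_cases hWb : W = ⊥
    · left; exact hWb
    right
    have h1 := h.block_irr hindep hact x₀ (W := W.map (E x₀).subtype) (by
        intro h0
        apply hWb
        rw [eq_bot_iff]
        intro x hx
        have h2 : (x : V) ∈ W.map (E x₀).subtype := ⟨x, hx, rfl⟩
        rw [h0, Submodule.mem_bot] at h2
        exact Subtype.ext h2)
      (Submodule.map_subtype_le _ _) (by
        rintro ⟨g, hg'⟩ hg w ⟨⟨w', hw'⟩, hwW, rfl⟩
        rw [hsmul] at hg
        have hgM : c g = 1 := by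
          have h2 : ((c g)⁻¹ - 1) * x₀ = 0 := by rw [sub_mul, one_mul, hg, sub_self]
          rcases mul_eq_zero.1 h2 with h3 | h3
          · rw [sub_eq_zero, inv_eq_one] at h3; exact h3
          · exact absurd h3 hx₀ne
        exact ⟨_, hW ⟨g, hgM⟩ (Subgroup.mem_top _) ⟨w', hw'⟩ hwW, rfl⟩)
    rw [eq_top_iff]
    rintro ⟨w, hw⟩ -
    rw [← h1] at hw
    obtain ⟨w', hw', hww'⟩ := hw
    have : w' = ⟨w, (h1 ▸ hw : w ∈ E x₀)⟩ := Subtype.ext hww'
    rw [← this]; exact hw'
  obtain ⟨b, hb⟩ := ih _ hMcard M rfl (hQ.to_subgroup M) (E x₀) _ hMirr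
  have horb : Nat.card (MulAction.orbit (⊤ : Subgroup Q) x₀) ∣ Nat.card (⊤ : Subgroup Q) := by
    rw [← Nat.card_congr (MulAction.orbitProdStabilizerEquivGroup (⊤ : Subgroup Q) x₀), Nat.card_prod]
    exact dvd_mul_right _ _
  obtain ⟨k, hk⟩ := IsPGroup.iff_card.1 hQ
  rw [Subgroup.card_top, hk] at horb
  obtain ⟨j, -, hj⟩ := (Nat.dvd_prime_pow hq.out).1 horb
  exact ⟨j + b, by rw [hfr, hj, hb, pow_add]⟩

end Cfsg.Agent.HH
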