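import Mathlib
import Cfsg.Agent.HH.Cliff

set_option autoImplicit false

/-!
Weight spaces and cyclic imprimitivity.
-/

namespace Cfsg.Agent.HH

open Module
open scoped BigOperators

variable {K : Type*} [Field K] {V : Type*} [AddCommGroup V] [Module K V]
variable {G : Type*} [Group G] {ρ : Representation K G V}

/-- `U` is irreducible under `Q` and `y`. -/
structure IrrOn (ρ : Representation K G V) (Q : Subgroup G) (y : G) (U : Submodule K V) : Prop where
  ne : U ≠ ⊥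
  invQ : ∀ g ∈ Q, ∀ w ∈ U, ρ g w ∈ U
  invy : ∀ w ∈ U, ρ y w ∈ U
  irr : ∀ W ≤ U, (∀ g ∈ Q, ∀ w ∈ W, ρ g w ∈ W) → (∀ w ∈ W, ρ y w ∈ W) → W = ⊥ ∨ W = U

theorem indep_weights {ι A : Type*} (T : A → Module.End K V) (c : ι → A → K) (S : Finset ι) :
    ∀ (w : ι → V) (_ : ∀ i ∈ S, ∀ j ∈ S, i ≠ j → c i ≠ c j)
      (_ : ∀ i ∈ S, ∀ a, T a (w i) = c i a • w i) (_ : ∑ i ∈ S, w i = 0), ∀ i ∈ S, w i = 0 := by
  classical
  induction S using Finset.induction_on with
  | empty => intro w _ _ _ i hi; exact absurd hi (Finset.notMem_empty i)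
  | insert i₀ S hi₀ ih =>
    intro w hc hw hs
    have h1 : ∀ i ∈ S, w i = 0 := by
      intro i hi
      have hne : c i₀ ≠ c i := hc i₀ (Finset.mem_insert_self _ _) i (Finset.mem_insert_of_mem hi)
        (fun h => hi₀ (h ▸ hi))
      obtain ⟨a, ha⟩ := Function.ne_iff.1 hne
      have h2 := ih (fun j => (c j a - c i₀ a) • w j)
        (fun j hj k hk => hc j (Finset.mem_insert_of_mem hj) k (Finset.mem_insert_of_mem hk))
        (fun j hj b => by
          rw [map_smul, hw j (Finset.mem_insert_of_mem hj), smul_comm]) (by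
          have h3 := congrArg (fun v => T a v - c i₀ a • v) hs
          simp only [map_zero, smul_zero, sub_zero] at h3
          rw [Finset.sum_insert hi₀, map_add, smul_add, hw i₀ (Finset.mem_insert_self _ _) a,
            add_sub_add_left_eq_sub, map_sum, Finset.smul_sum, ← Finset.sum_sub_distrib] at h3
          rw [← h3]
          apply Finset.sum_congr rfl
          intro j hj
          rw [hw j (Finset.mem_insert_of_mem hj), sub_smul])
      have h4 := h2 i hi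
      rcases smul_eq_zero.1 h4 with h5 | h5
      · exact absurd (sub_eq_zero.1 h5).symm ha
      · exact h5
    intro i hi
    rcases Finset.mem_insert.1 hi with rfl | hi
    · rw [Finset.sum_insert hi₀, Finset.sum_eq_zero h1, add_zero] at hs
      exact hs
    · exact h1 i hi

theorem exists_min_inv [FiniteDimensional K V] (ρ : Representation K G V) (Q : Subgroup G)
    {U : Submodule K V} (hU : U ≠ ⊥) (hQ : ∀ g ∈ Q, ∀ w ∈ U, ρ g w ∈ U) :
    ∃ W ≤ U, W ≠ ⊥ ∧ (∀ g ∈ Q, ∀ w ∈ W, ρ g w ∈ W) ∧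
      ∀ W' ≤ W, (∀ g ∈ Q, ∀ w ∈ W', ρ g w ∈ W') → W' = ⊥ ∨ W' = W := by
  obtain ⟨W, hW, hmin⟩ := (wellFounded_lt (α := Submodule K V)).has_min
    {W | W ≤ U ∧ W ≠ ⊥ ∧ (∀ g ∈ Q, ∀ w ∈ W, ρ g w ∈ W)} ⟨U, le_rfl, hU, hQ⟩
  refine ⟨W, hW.1, hW.2.1, hW.2.2, ?_⟩
  intro W' hW' hinv
  by_cases h0 : W' = ⊥
  · exact Or.inl h0
  right
  by_contra hne
  exact hmin W' ⟨hW'.trans hW.1, h0, hinv⟩ (lt_of_le_of_ne hW' hne)

/-- Schur's lemma on a minimal invariant subspace. -/
theorem schur_min [IsAlgClosed K] [FiniteDimensional K V] {Q : Subgroup G} {W : Submodule K V}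
    (hW : W ≠ ⊥) (hinv : ∀ g ∈ Q, ∀ w ∈ W, ρ g w ∈ W)
    (hmin : ∀ W' ≤ W, (∀ g ∈ Q, ∀ w ∈ W', ρ g w ∈ W') → W' = ⊥ ∨ W' = W)
    (T : Module.End K V) (hT : ∀ w ∈ W, T w ∈ W) (hcomm : ∀ g ∈ Q, ∀ w ∈ W, T (ρ g w) = ρ g (T w)) :
    ∃ c : K, ∀ w ∈ W, T w = c • w := by
  have : Nontrivial W := (Submodule.nontrivial_iff_ne_bot).2 hW
  obtain ⟨c, hc⟩ := Module.End.exists_eigenvalue (T.restrict hT)
  obtain ⟨v, hv⟩ := hc.exists_hasEigenvector
  refine ⟨c, ?_⟩
  have hv1 : T v = c • (v : V) := by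
    have := congrArg Subtype.val hv.apply_eq_smul
    exact this
  have hv0 : (v : V) ≠ 0 := fun h => hv.2 (Subtype.ext h)
  have h1 := hmin (W ⊓ Module.End.eigenspace T c) inf_le_left (by
    rintro g hg w ⟨hw, hw'⟩
    refine ⟨hinv g hg w hw, ?_⟩
    rw [SetLike.mem_coe, Module.End.mem_eigenspace_iff] at hw' ⊢
    rw [hcomm g hg w hw, hw', map_smul])
  rcases h1 with h1 | h1
  · exfalso
    have : (v : V) ∈ W ⊓ Module.End.eigenspace T c := ⟨v.2, by
      rw [SetLike.mem_coe, Module.End.mem_eigenspace_iff]; exact hv1⟩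
    rw [h1] at this
    exact hv0 this
  · intro w hw
    have : w ∈ W ⊓ Module.End.eigenspace T c := by rw [h1]; exact hw
    exact Module.End.mem_eigenspace_iff.1 this.2

/-- The weight step. -/
theorem IrrOn.weight_step [IsAlgClosed K] [FiniteDimensional K V] {p : ℕ} [hp : Fact p.Prime]
    {U : Submodule K V} {Q A : Subgroup G} {y : G} {n : ℕ} (h : IrrOn ρ Q y U) (hy : y ^ p ^ n = 1)
    (hyQ : ∀ g ∈ Q, y⁻¹ * g * y ∈ Q) (hAQ : A ≤ Q) (hyA : ∀ a ∈ A, y⁻¹ * a * y ∈ A)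
    (hcomm : ∀ a ∈ A, ∀ g ∈ Q, ∀ w ∈ U, ρ a (ρ g w) = ρ g (ρ a w)) :
    ∃ k ≤ n, ∃ U' ≤ U, IrrOn ρ Q (y ^ p ^ k) U' ∧ (∀ a ∈ A, ∃ c : K, ∀ w ∈ U', ρ a w = c • w) ∧
      (∀ u ∈ U', u ≠ 0 → ∑ j ∈ Finset.range (p ^ k), ρ (y ^ j) u ≠ 0) := by
  classical
  obtain ⟨W₀, hW₀U, hW₀, hW₀inv, hW₀min⟩ := exists_min_inv ρ Q h.ne h.invQ
  have hχ : ∀ a : A, ∃ c : K, ∀ w ∈ W₀, ρ a w = c • w := fun a =>
    schur_min hW₀ hW₀inv hW₀min (ρ a) (fun w hw => hW₀inv a (hAQ a.2) w hw)
      (fun g hg w hw => hcomm a a.2 g hg w (hW₀U hw))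
  choose χ hχ using hχ
  let f : (A → K) → (A → K) := fun χ a => χ ⟨y⁻¹ * a * y, hyA a a.2⟩
  -- iterates of conjugation
  have hyAj : ∀ (j : ℕ) (a : A), (y ^ j)⁻¹ * a * y ^ j ∈ A := by
    intro j
    induction j with
    | zero => intro a; simp
    | succ j ih =>
      intro a
      have h1 := ih ⟨y⁻¹ * a * y, hyA a a.2⟩
      have h2 : (y ^ (j + 1))⁻¹ * (a : G) * y ^ (j + 1) = (y ^ j)⁻¹ * (y⁻¹ * a * y) * y ^ j := by
        rw [pow_succ']; group
      rw [h2]; exact h1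
  have hfj : ∀ (j : ℕ) (ψ : A → K) (a : A), (f^[j] ψ) a = ψ ⟨(y ^ j)⁻¹ * a * y ^ j, hyAj j a⟩ := by
    intro j
    induction j with
    | zero => intro ψ a; simp
    | succ j ih =>
      intro ψ a
      rw [Function.iterate_succ_apply, ih]
      change ψ _ = ψ _
      congr 1
      apply Subtype.ext
      change y⁻¹ * ((y ^ j)⁻¹ * (a : G) * y ^ j) * y = (y ^ (j + 1))⁻¹ * a * y ^ (j + 1)
      rw [pow_succ]; group
  have hyQj : ∀ (j : ℕ), ∀ g ∈ Q, (y ^ j)⁻¹ * g * y ^ j ∈ Q := by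
    intro j
    induction j with
    | zero => intro a ha; simpa using ha
    | succ j ih =>
      intro a ha
      have h1 := ih _ (hyQ a ha)
      have h2 : (y ^ (j + 1))⁻¹ * (a : G) * y ^ (j + 1) = (y ^ j)⁻¹ * (y⁻¹ * a * y) * y ^ j := by
        rw [pow_succ']; group
      rw [h2]; exact h1
  have hper : Function.IsPeriodicPt f (p ^ n) χ := by
    change f^[p ^ n] χ = χ
    funext a
    rw [hfj]
    congr 1
    apply Subtype.ext
    change (y ^ p ^ n)⁻¹ * (a : G) * y ^ p ^ n = a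
    rw [hy]; simp
  set d := Function.minimalPeriod f χ with hd
  obtain ⟨k, hk, hdk⟩ := (Nat.dvd_prime_pow hp.out).1 hper.minimalPeriod_dvd
  rw [← hd] at hdk
  have hdpos : 0 < d := by rw [hdk]; exact pow_pos hp.out.pos k
  -- the weight spaces
  let E : ℕ → Submodule K V := fun j =>
    { carrier := {w | w ∈ U ∧ ∀ a : A, ρ a w = (f^[j] χ) a • w}
      add_mem' := by
        rintro v w ⟨hv, hv'⟩ ⟨hw, hw'⟩
        exact ⟨U.add_mem hv hw, fun a => by rw [map_add, hv', hw', smul_add]⟩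
      zero_mem' := ⟨U.zero_mem, fun a => by rw [map_zero, smul_zero]⟩
      smul_mem' := by
        rintro c v ⟨hv, hv'⟩
        exact ⟨U.smul_mem c hv, fun a => by rw [map_smul, hv', smul_comm]⟩ }
  have hEmem : ∀ (j : ℕ) (w : V), w ∈ E j ↔ w ∈ U ∧ ∀ a : A, ρ a w = (f^[j] χ) a • w := fun _ _ => Iff.rfl
  have hEy : ∀ j w, w ∈ E j → ρ y w ∈ E (j + 1) := by
    rintro j w ⟨hw, hw'⟩
    refine ⟨h.invy w hw, fun a => ?_⟩
    rw [Function.iterate_succ_apply']
    change _ = (f^[j] χ) ⟨y⁻¹ * a * y, hyA a a.2⟩ • _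
    have h1 : ρ a (ρ y w) = ρ y (ρ (y⁻¹ * a * y) w) := by
      rw [← rho_mul, ← rho_mul]; congr 2; group
    have h2 := hw' ⟨y⁻¹ * a * y, hyA a a.2⟩
    change ρ (y⁻¹ * a * y) w = _ at h2
    rw [h1, h2, map_smul]
  have hEyj : ∀ j w, w ∈ E 0 → ρ (y ^ j) w ∈ E j := by
    intro j w hw
    induction j with
    | zero => rw [pow_zero, map_one]; exact hw
    | succ j ih => rw [pow_succ', rho_mul]; exact hEy j _ ih
  have hEd : E d = E 0 := by
    have : f^[d] χ = f^[0] χ := by rw [Function.iterate_minimalPeriod]; rfl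
    ext w
    rw [hEmem, hEmem, this]
  have hE0Q : ∀ g ∈ Q, ∀ w ∈ E 0, ρ g w ∈ E 0 := by
    rintro g hg w ⟨hw, hw'⟩
    refine ⟨h.invQ g hg w hw, fun a => ?_⟩
    rw [hcomm a a.2 g hg w hw, hw' a, map_smul]
  have hE0 : E 0 ≠ ⊥ := by
    intro h0
    apply hW₀
    rw [eq_bot_iff, ← h0]
    intro w hw
    exact ⟨hW₀U hw, fun a => hχ a w hw⟩
  -- independence
  have hind : ∀ w : ℕ → V, (∀ j, w j ∈ E 0) → ∑ j ∈ Finset.range d, ρ (y ^ j) (w j) = 0 →
      ∀ j ∈ Finset.range d, w j = 0 := by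
    intro w hw hs j hj
    have h1 := indep_weights (fun a : A => ρ (a : G)) (fun j => f^[j] χ) (Finset.range d)
      (fun j => ρ (y ^ j) (w j)) (by
        intro i hi j hj hij heq
        apply hij
        rw [Finset.mem_range] at hi hj
        exact Function.iterate_injOn_Iio_minimalPeriod hi hj heq) (by
        intro i _ a
        exact (hEyj i _ (hw i)).2 a) hs j hj
    rw [← rho_inv_apply ρ (y ^ j) (w j), h1, map_zero]
  refine ⟨k, hk, E 0, fun w hw => hw.1, ⟨hE0, hE0Q, ?_, ?_⟩, ?_, ?_⟩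
  · intro w hw
    have := hEyj d w hw
    rw [hEd, hdk] at this
    exact this
  · -- irreducibility
    intro W hWE hWQ hWy
    by_cases hW : W = ⊥
    · exact Or.inl hW
    right
    apply le_antisymm hWE
    let M : Submodule K V :=
      { carrier := {v | ∃ w : ℕ → V, (∀ j, w j ∈ W) ∧ v = ∑ j ∈ Finset.range d, ρ (y ^ j) (w j)}
        add_mem' := by
          rintro _ _ ⟨w, hw, rfl⟩ ⟨w', hw', rfl⟩
          refine ⟨fun j => w j + w' j, fun j => W.add_mem (hw j) (hw' j), ?_⟩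
          rw [← Finset.sum_add_distrib]
          exact Finset.sum_congr rfl (fun j _ => (map_add _ _ _).symm)
        zero_mem' := ⟨fun _ => 0, fun _ => W.zero_mem, by simp⟩
        smul_mem' := by
          rintro c _ ⟨w, hw, rfl⟩
          refine ⟨fun j => c • w j, fun j => W.smul_mem c (hw j), ?_⟩
          rw [Finset.smul_sum]
          exact Finset.sum_congr rfl (fun j _ => (map_smul _ _ _).symm) }
    have hMmem : ∀ v, v ∈ M ↔ ∃ w : ℕ → V, (∀ j, w j ∈ W) ∧ v = ∑ j ∈ Finset.range d, ρ (y ^ j) (w j) :=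
      fun _ => Iff.rfl
    have hyjU : ∀ j, ∀ w ∈ U, ρ (y ^ j) w ∈ U := by
      intro j w hw
      induction j with
      | zero => rw [pow_zero, map_one]; exact hw
      | succ j ih => rw [pow_succ', rho_mul]; exact h.invy _ ih
    have hMU : M ≤ U := by
      rintro v ⟨w, hw, rfl⟩
      exact U.sum_mem (fun j _ => hyjU j _ (hWE (hw j)).1)
    have hWM : W ≤ M := by
      intro w hw
      refine ⟨fun j => if j = 0 then w else 0, fun j => by dsimp only; split_ifs; exacts [hw, W.zero_mem], ?_⟩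
      rw [Finset.sum_eq_single 0]
      · simp
      · intro j _ hj; simp [hj]
      · intro h0; exact absurd (Finset.mem_range.2 hdpos) h0
    have hMtop : M = U := by
      rcases h.irr M hMU (by
        rintro g hg v ⟨w, hw, rfl⟩
        refine ⟨fun j => ρ ((y ^ j)⁻¹ * g * y ^ j) (w j), fun j => hWQ _ (hyQj j g hg) _ (hw j), ?_⟩
        rw [map_sum]
        apply Finset.sum_congr rfl
        intro j _
        rw [← rho_mul, ← rho_mul]; congr 2; group) (by
        rintro v ⟨w, hw, rfl⟩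
        refine ⟨fun j => if j = 0 then ρ (y ^ d) (w (d - 1)) else w (j - 1), fun j => by
          dsimp only
          split_ifs
          · rw [hdk]; exact hWy _ (hw _)
          · exact hw _, ?_⟩
        obtain ⟨d', hd'⟩ : ∃ d', d = d' + 1 := ⟨d - 1, by omega⟩
        rw [hd', map_sum, Finset.sum_range_succ, Finset.sum_range_succ']
        simp only [Nat.add_sub_cancel, if_true, pow_zero, map_one, Module.End.one_apply, Nat.succ_ne_zero,
          if_false]
        rw [← rho_mul, ← pow_succ']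
        congr 1
        apply Finset.sum_congr rfl
        intro j _
        rw [← rho_mul, ← pow_succ']) with h1 | h1
      · exact absurd (eq_bot_iff.2 (hWM.trans h1.le)) hW
      · exact h1
    intro e he
    have heM : e ∈ M := by rw [hMtop]; exact he.1
    obtain ⟨w, hw, hew⟩ := heM
    have h1 := hind (fun j => if j = 0 then w 0 - e else w j) (by
      intro j
      split_ifs
      · exact (E 0).sub_mem (hWE (hw 0)) he
      · exact hWE (hw j)) (by
      obtain ⟨d', hd'⟩ : ∃ d', d = d' + 1 := ⟨d - 1, by omega⟩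
      rw [hd', Finset.sum_range_succ'] at hew ⊢
      simp only [if_true, pow_zero, map_one, Module.End.one_apply, Nat.succ_ne_zero, if_false] at hew ⊢
      rw [← add_sub_assoc, ← hew, sub_self]) 0 (Finset.mem_range.2 hdpos)
    simp only [if_true, sub_eq_zero] at h1
    rw [← h1]; exact hw 0
  · intro a ha
    exact ⟨χ ⟨a, ha⟩, fun w hw => hw.2 ⟨a, ha⟩⟩
  · intro u hu hu0 hs
    apply hu0
    rw [← hdk] at hs
    exact hind (fun _ => u) (fun _ => hu) hs 0 (Finset.mem_range.2 hdpos)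

end Cfsg.Agent.HH
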