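import Mathlib
import Cfsg.Agent.HH.Wt

set_option autoImplicit false

/-!
A homogeneous component stabilized by a cyclic group is irreducible.
-/

namespace Cfsg.Agent.HH

open Module
open scoped BigOperators

variable {K : Type*} [Field K] {V : Type*} [AddCommGroup V] [Module K V]
variable {G : Type*} [Group G] {ρ : Representation K G V}

theorem IrrOn.schur [IsAlgClosed K] [FiniteDimensional K V] {Q : Subgroup G} {y : G}
    {U : Submodule K V} (h : IrrOn ρ Q y U) (T : Module.End K V) (hT : ∀ w ∈ U, T w ∈ U)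
    (hcommQ : ∀ g ∈ Q, ∀ w ∈ U, T (ρ g w) = ρ g (T w)) (hcommy : ∀ w ∈ U, T (ρ y w) = ρ y (T w)) :
    ∃ c : K, ∀ w ∈ U, T w = c • w := by
  have : Nontrivial U := (Submodule.nontrivial_iff_ne_bot).2 h.ne
  obtain ⟨c, hc⟩ := Module.End.exists_eigenvalue (T.restrict hT)
  obtain ⟨v, hv⟩ := hc.exists_hasEigenvector
  refine ⟨c, ?_⟩
  have hv1 : T v = c • (v : V) := by
    have := congrArg Subtype.val hv.apply_eq_smul
    exact this
  have hv0 : (v : V) ≠ 0 := fun h => hv.2 (Subtype.ext h)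
  have h1 := h.irr (U ⊓ Module.End.eigenspace T c) inf_le_left (by
    rintro g hg w ⟨hw, hw'⟩
    refine ⟨h.invQ g hg w hw, ?_⟩
    rw [SetLike.mem_coe, Module.End.mem_eigenspace_iff] at hw' ⊢
    rw [hcommQ g hg w hw, hw', map_smul]) (by
    rintro w ⟨hw, hw'⟩
    refine ⟨h.invy w hw, ?_⟩
    rw [SetLike.mem_coe, Module.End.mem_eigenspace_iff] at hw' ⊢
    rw [hcommy w hw, hw', map_smul])
  rcases h1 with h1 | h1
  · exfalso
    have : (v : V) ∈ U ⊓ Module.End.eigenspace T c := ⟨v.2, by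
      rw [SetLike.mem_coe, Module.End.mem_eigenspace_iff]; exact hv1⟩
    rw [h1] at this
    exact hv0 this
  · intro w hw
    have : w ∈ U ⊓ Module.End.eigenspace T c := by rw [h1]; exact hw
    exact Module.End.mem_eigenspace_iff.1 this.2

theorem stable_zpowers {y : G} (hfin : IsOfFinOrder y) {W : Submodule K V}
    (hW : ∀ w ∈ W, ρ y w ∈ W) : ∀ c ∈ Subgroup.zpowers y, ∀ w ∈ W, ρ c w ∈ W := by
  intro c hc w hw
  obtain ⟨k, hk⟩ := (Submonoid.mem_powers_iff c y).1 (hfin.mem_powers_iff_mem_zpowers.2 hc)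
  rw [← hk]
  clear hk hc
  induction k with
  | zero => rw [pow_zero, map_one]; exact hw
  | succ j ih => rw [pow_succ', rho_mul]; exact hW _ ih

theorem IrrOn.irr_of_stab [IsAlgClosed K] [FiniteDimensional K V] {Q R : Subgroup G} [Finite Q]
    {y : G} {U : Submodule K V} (h : IrrOn ρ Q y U) (hfin : IsOfFinOrder y)
    (hQK : (Nat.card Q : K) ≠ 0) (hyQ : ∀ g ∈ Q, y * g * y⁻¹ ∈ Q) (hyQ' : ∀ g ∈ Q, y⁻¹ * g * y ∈ Q)
    (r1 : ∀ g ∈ R, ∃ c : K, ∀ w ∈ U, ρ g w = c • w)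
    (r2 : ∀ g ∈ Q, g ∉ R → ∃ h ∈ Q, ∃ c : K, c ≠ 1 ∧ ∀ w ∈ U, ρ (h * g * h⁻¹) w = c • ρ g w)
    (r4 : ∀ g ∈ Q, g * y * g⁻¹ * y⁻¹ ∈ R → g ∈ R) :
    ∀ W ≤ U, (∀ g ∈ Q, ∀ w ∈ W, ρ g w ∈ W) → W = ⊥ ∨ W = U := by
  classical
  haveI := Fintype.ofFinite Q
  have hyinvU : ∀ w ∈ U, ρ y⁻¹ w ∈ U :=
    fun w hw => stable_zpowers hfin h.invy _ (Subgroup.inv_mem _ (Subgroup.mem_zpowers y)) w hw
  set T : Module.End K V := ∑ g : Q, ρ ((g : G) * y * (g : G)⁻¹) with hT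
  have hTU : ∀ w ∈ U, T w ∈ U := by
    intro w hw
    rw [hT, LinearMap.sum_apply]
    apply U.sum_mem
    intro g _
    rw [rho_mul, rho_mul]
    exact h.invQ g g.2 _ (h.invy _ (h.invQ _ (Q.inv_mem g.2) w hw))
  have hTQ : ∀ k ∈ Q, T * ρ k = ρ k * T := by
    intro k hk
    rw [hT, Finset.sum_mul, Finset.mul_sum, ← Equiv.sum_comp (Equiv.mulLeft (⟨k, hk⟩ : Q))]
    apply Finset.sum_congr rfl
    intro g _
    rw [← map_mul, ← map_mul]
    congr 1
    change (k * g) * y * (k * (g : G))⁻¹ * k = k * (g * y * (g : G)⁻¹)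
    group
  have hTy : T * ρ y = ρ y * T := by
    let e : Q ≃ Q :=
      { toFun := fun g => ⟨y * g * y⁻¹, hyQ g g.2⟩
        invFun := fun g => ⟨y⁻¹ * g * y, hyQ' g g.2⟩
        left_inv := fun g => Subtype.ext (by change y⁻¹ * (y * (g : G) * y⁻¹) * y = g; group)
        right_inv := fun g => Subtype.ext (by change y * (y⁻¹ * (g : G) * y) * y⁻¹ = g; group) }
    rw [hT, Finset.sum_mul, Finset.mul_sum, ← Equiv.sum_comp e]
    apply Finset.sum_congr rfl
    intro g _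
    rw [← map_mul, ← map_mul]
    congr 1
    change (y * g * y⁻¹) * y * (y * (g : G) * y⁻¹)⁻¹ * y = y * (g * y * (g : G)⁻¹)
    group
  obtain ⟨c, hc⟩ := h.schur T hTU (fun g hg w _ => by
      rw [← Module.End.mul_apply, hTQ g hg]; rfl) (fun w _ => by
      rw [← Module.End.mul_apply, hTy]; rfl)
  set τ : Module.End K V := ∑ g : Q, ρ ((g : G) * y * (g : G)⁻¹ * y⁻¹) with hτ
  have hτT : ∀ w, τ w = T (ρ y⁻¹ w) := by
    intro w
    rw [hτ, hT, LinearMap.sum_apply, LinearMap.sum_apply]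
    exact Finset.sum_congr rfl (fun g _ => rho_mul ρ _ _ w)
  have hτU : ∀ w ∈ U, τ w = c • ρ y⁻¹ w := fun w hw => by rw [hτT, hc _ (hyinvU w hw)]
  -- class sums
  have hS1 : ∀ k ∈ Q, k ∉ R → ∀ w ∈ U, ∑ g : Q, ρ ((g : G) * k * (g : G)⁻¹) w = 0 := by
    intro k hk hkR w hw
    obtain ⟨h₀, hh₀, a, ha, haU⟩ := r2 k hk hkR
    have h1 : ∑ g : Q, ρ ((g : G) * k * (g : G)⁻¹) w = a • ∑ g : Q, ρ ((g : G) * k * (g : G)⁻¹) w := by
      conv_lhs => rw [← Equiv.sum_comp (Equiv.mulRight (⟨h₀, hh₀⟩ : Q))]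
      rw [Finset.smul_sum]
      apply Finset.sum_congr rfl
      intro g _
      change ρ ((g * h₀) * k * ((g : G) * h₀)⁻¹) w = _
      have h2 : (g * h₀) * k * ((g : G) * h₀)⁻¹ = g * ((h₀ * k * h₀⁻¹) * (g : G)⁻¹) := by group
      rw [h2, rho_mul, rho_mul, haU _ (h.invQ _ (Q.inv_mem g.2) w hw), map_smul, mul_assoc, rho_mul ρ (g : G),
        rho_mul ρ k]
    have h2 : (1 - a) • ∑ g : Q, ρ ((g : G) * k * (g : G)⁻¹) w = 0 := by
      rw [sub_smul, one_smul, ← h1, sub_self]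
    rcases smul_eq_zero.1 h2 with h3 | h3
    · exact absurd (sub_eq_zero.1 h3).symm ha
    · exact h3
  have hS2 : ∀ k ∈ R, ∀ w ∈ U, ∑ g : Q, ρ ((g : G) * k * (g : G)⁻¹) w = (Nat.card Q : K) • ρ k w := by
    intro k hk w hw
    obtain ⟨a, ha⟩ := r1 k hk
    have h1 : ∀ g : Q, ρ ((g : G) * k * (g : G)⁻¹) w = ρ k w := by
      intro g
      rw [rho_mul, rho_mul, ha _ (h.invQ _ (Q.inv_mem g.2) w hw), map_smul, rho_apply_inv, ha w hw]
    rw [Finset.sum_congr rfl (fun g _ => h1 g), Finset.sum_const, Finset.card_univ,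
      Nat.card_eq_fintype_card, Nat.cast_smul_eq_nsmul]
  have hR1 : ∀ g ∈ R, ∀ w ∈ U, ρ (g * y * g⁻¹ * y⁻¹) w = w := by
    intro g hg w hw
    obtain ⟨a, ha⟩ := r1 g hg
    have h0 : ∀ w ∈ U, w = a • ρ g⁻¹ w := by
      intro w hw
      rw [← map_smul, ← ha w hw, rho_inv_apply]
    rw [rho_mul, rho_mul, rho_mul]
    have h1 := h0 (ρ y⁻¹ w) (hyinvU w hw)
    have h2 : ρ y (ρ g⁻¹ (ρ y⁻¹ w)) ∈ U := by
      have h4 : ρ g (ρ g⁻¹ (ρ y⁻¹ w)) ∈ U := by rw [rho_apply_inv]; exact hyinvU w hw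
      have h3 : a ≠ 0 ∨ w = 0 := by
        by_cases ha0 : a = 0
        · right
          rw [ha0, zero_smul] at h1
          rw [← rho_apply_inv ρ y w, h1, map_zero]
        · exact Or.inl ha0
      rcases h3 with h3 | h3
      · have h5 : ρ g⁻¹ (ρ y⁻¹ w) = a⁻¹ • ρ y⁻¹ w := by
          conv_rhs => rw [h1]
          rw [smul_smul, inv_mul_cancel₀ h3, one_smul]
        rw [h5, map_smul, rho_apply_inv]
        exact U.smul_mem _ hw
      · rw [h3, map_zero, map_zero, map_zero]; exact U.zero_mem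
    rw [ha _ h2, ← map_smul, ← h1, rho_apply_inv]
  have hcne : c ≠ 0 := by
    intro hc0
    obtain ⟨w, hw, hw0⟩ := (Submodule.ne_bot_iff _).1 h.ne
    have h1 : ∀ v ∈ U, τ v = 0 := fun v hv => by rw [hτU v hv, hc0, zero_smul]
    have h2 : ∑ k : Q, ρ (k : G) (τ (ρ (k : G)⁻¹ w)) = 0 := by
      apply Finset.sum_eq_zero
      intro k _
      rw [h1 _ (h.invQ _ (Q.inv_mem k.2) w hw), map_zero]
    have h3 : ∑ k : Q, ρ (k : G) (τ (ρ (k : G)⁻¹ w)) =
        ∑ g : Q, ∑ k : Q, ρ ((k : G) * ((g : G) * y * (g : G)⁻¹ * y⁻¹) * (k : G)⁻¹) w := by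
      rw [Finset.sum_comm]
      apply Finset.sum_congr rfl
      intro k _
      rw [hτ, LinearMap.sum_apply, map_sum]
      apply Finset.sum_congr rfl
      intro g _
      rw [← rho_mul, ← rho_mul, mul_assoc]
    have h4 : ∀ g : Q, ∑ k : Q, ρ ((k : G) * ((g : G) * y * (g : G)⁻¹ * y⁻¹) * (k : G)⁻¹) w =
        if (g : G) ∈ R then (Nat.card Q : K) • w else 0 := by
      intro g
      have hgQ : (g : G) * y * (g : G)⁻¹ * y⁻¹ ∈ Q := by
        have h5 : (g : G) * y * (g : G)⁻¹ * y⁻¹ = g * (y * (g : G)⁻¹ * y⁻¹) := by group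
        rw [h5]
        exact Q.mul_mem g.2 (hyQ _ (Q.inv_mem g.2))
      split_ifs with hg
      · by_cases h6 : (g : G) * y * (g : G)⁻¹ * y⁻¹ ∈ R
        · rw [hS2 _ h6 w hw, hR1 g hg w hw]
        · exfalso
          obtain ⟨h₀, hh₀, a, ha, haU⟩ := r2 _ hgQ h6
          apply ha
          have h7 := haU w hw
          rw [rho_mul, rho_mul, hR1 g hg _ (h.invQ _ (Q.inv_mem hh₀) w hw), rho_apply_inv, hR1 g hg w hw] at h7
          have h8 : (1 - a) • w = 0 := by rw [sub_smul, one_smul, ← h7, sub_self]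
          rcases smul_eq_zero.1 h8 with h9 | h9
          · exact (sub_eq_zero.1 h9).symm
          · exact absurd h9 hw0
      · exact hS1 _ hgQ (fun h6 => hg (r4 g g.2 h6)) w hw
    rw [h3, Finset.sum_congr rfl (fun g _ => h4 g), Finset.sum_ite, Finset.sum_const_zero, add_zero,
      Finset.sum_const, ← Nat.cast_smul_eq_nsmul K, smul_smul] at h2
    have h5 : (Finset.univ.filter (fun g : Q => (g : G) ∈ R)).card = Nat.card (R.subgroupOf Q) := by
      rw [Nat.card_eq_fintype_card, Fintype.card_subtype]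
      rfl
    rw [h5] at h2
    rcases smul_eq_zero.1 h2 with h6 | h6
    · rcases mul_eq_zero.1 h6 with h7 | h7
      · obtain ⟨m, hm⟩ := Subgroup.card_subgroup_dvd_card (R.subgroupOf Q)
        apply hQK
        rw [hm, Nat.cast_mul, h7, zero_mul]
      · exact hQK h7
    · exact hw0 h6
  intro W hWU hWQ
  apply h.irr W hWU hWQ
  have hWy' : ∀ w ∈ W, ρ y⁻¹ w ∈ W := by
    intro w hw
    have h1 : ρ y⁻¹ w = c⁻¹ • τ w := by
      rw [hτU w (hWU hw), smul_smul, inv_mul_cancel₀ hcne, one_smul]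
    rw [h1]
    apply W.smul_mem
    rw [hτ, LinearMap.sum_apply]
    apply W.sum_mem
    intro g _
    have h5 : (g : G) * y * (g : G)⁻¹ * y⁻¹ = g * (y * (g : G)⁻¹ * y⁻¹) := by group
    rw [h5]
    exact hWQ _ (Q.mul_mem g.2 (hyQ _ (Q.inv_mem g.2))) w hw
  intro w hw
  exact stable_zpowers hfin.inv hWy' y (by rw [Subgroup.zpowers_inv]; exact Subgroup.mem_zpowers y) w hw

end Cfsg.Agent.HH
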