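import Mathlib
import Cfsg.Agent.HH.TArg
import Cfsg.Agent.HH.CritP
import Cfsg.Agent.HH.Deg
import Cfsg.Agent.Cop.Basic

set_option autoImplicit false

/-!
The core of Theorem B of Hall and Higman.
-/

namespace Cfsg.Agent.HH

open Module
open scoped BigOperators commutatorElement

universe u v w

variable {K : Type w} [Field K] {V : Type v} [AddCommGroup V] [Module K V]
variable {G : Type u} [Group G] {ρ : Representation K G V}

theorem exists_irrOn [FiniteDimensional K V] (ρ : Representation K G V) (Q : Subgroup G) (y : G)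
    {U : Submodule K V} (hU : U ≠ ⊥) (hQ : ∀ g ∈ Q, ∀ w ∈ U, ρ g w ∈ U) (hy : ∀ w ∈ U, ρ y w ∈ U) :
    ∃ W ≤ U, IrrOn ρ Q y W := by
  obtain ⟨W, hW, hmin⟩ := (wellFounded_lt (α := Submodule K V)).has_min
    {W | W ≤ U ∧ W ≠ ⊥ ∧ (∀ g ∈ Q, ∀ w ∈ W, ρ g w ∈ W) ∧ ∀ w ∈ W, ρ y w ∈ W} ⟨U, le_rfl, hU, hQ, hy⟩
  refine ⟨W, hW.1, hW.2.1, hW.2.2.1, hW.2.2.2, ?_⟩
  intro W' hW' hinv hinv'
  by_cases h0 : W' = ⊥
  · exact Or.inl h0
  right
  by_contra hne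
  exact hmin W' ⟨hW'.trans hW.1, h0, hinv, hinv'⟩ (lt_of_le_of_ne hW' hne)

/-- The subspace on which `Q` has no fixed vectors. -/
theorem exists_nofix [FiniteDimensional K V] (ρ : Representation K G V) (Q : Subgroup G) [Finite Q]
    (hQK : (Nat.card Q : K) ≠ 0) (y : G) (hyQ : ∀ g ∈ Q, y * g * y⁻¹ ∈ Q) (hyQ' : ∀ g ∈ Q, y⁻¹ * g * y ∈ Q)
    (hnt : ∃ g ∈ Q, ρ g ≠ 1) :
    ∃ W : Submodule K V, W ≠ ⊥ ∧ (∀ g ∈ Q, ∀ w ∈ W, ρ g w ∈ W) ∧ (∀ w ∈ W, ρ y w ∈ W) ∧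
      ∀ w ∈ W, (∀ g ∈ Q, ρ g w = w) → w = 0 := by
  classical
  haveI := Fintype.ofFinite Q
  set e : Module.End K V := ∑ g : Q, ρ (g : G) with he
  have heQ : ∀ k ∈ Q, e * ρ k = e := by
    intro k hk
    rw [he, Finset.sum_mul]
    conv_rhs => rw [← Equiv.sum_comp (Equiv.mulRight (⟨k, hk⟩ : Q))]
    apply Finset.sum_congr rfl
    intro g _
    rw [← map_mul]; rfl
  have hey : e * ρ y = ρ y * e := by
    let f : Q ≃ Q :=
      { toFun := fun g => ⟨y * g * y⁻¹, hyQ g g.2⟩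
        invFun := fun g => ⟨y⁻¹ * g * y, hyQ' g g.2⟩
        left_inv := fun g => Subtype.ext (by change y⁻¹ * (y * (g : G) * y⁻¹) * y = g; group)
        right_inv := fun g => Subtype.ext (by change y * (y⁻¹ * (g : G) * y) * y⁻¹ = g; group) }
    rw [he, Finset.sum_mul, Finset.mul_sum, ← Equiv.sum_comp f]
    apply Finset.sum_congr rfl
    intro g _
    rw [← map_mul, ← map_mul]
    congr 1
    change (y * g * y⁻¹) * y = y * (g : G)
    group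
  refine ⟨LinearMap.ker e, ?_, ?_, ?_, ?_⟩
  · intro h0
    obtain ⟨g, hg, hg1⟩ := hnt
    apply hg1
    apply LinearMap.ext
    intro v
    have h1 : ρ g v - v ∈ LinearMap.ker e := by
      rw [LinearMap.mem_ker, map_sub, ← Module.End.mul_apply, heQ g hg, sub_self]
    rw [h0, Submodule.mem_bot, sub_eq_zero] at h1
    exact h1
  · intro g hg w hw
    rw [LinearMap.mem_ker] at hw ⊢
    rw [← Module.End.mul_apply, heQ g hg, hw]
  · intro w hw
    rw [LinearMap.mem_ker] at hw ⊢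
    rw [← Module.End.mul_apply, hey, Module.End.mul_apply, hw, map_zero]
  · intro w hw hfix
    rw [LinearMap.mem_ker, he, LinearMap.sum_apply,
      Finset.sum_congr rfl (fun (g : Q) _ => hfix g g.2), Finset.sum_const, Finset.card_univ,
      ← Nat.cast_smul_eq_nsmul K, ← Nat.card_eq_fintype_card] at hw
    rcases smul_eq_zero.1 hw with h1 | h1
    · exact absurd h1 hQK
    · exact h1

theorem nz_lift {p : ℕ} [Fact p.Prime] [CharP K p] [Nontrivial V] {y : G} {k : ℕ} {u : V}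
    (h : ∑ j ∈ Finset.range (p ^ k), ρ (y ^ j) u ≠ 0) : ((ρ y - 1) ^ (p ^ k - 1)) u ≠ 0 := by
  haveI : CharP (Module.End K V) p :=
    charP_of_injective_algebraMap (FaithfulSMul.algebraMap_injective K (Module.End K V)) p
  rw [← geom_eq_pow, LinearMap.sum_apply]
  intro h0
  apply h
  rw [← h0]
  apply Finset.sum_congr rfl
  intro j _
  rw [map_pow]

theorem mem_zpowers_of_ne_one {p : ℕ} [hp : Fact p.Prime] {x c : G} {n : ℕ} (hx : orderOf x = p ^ n)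
    (hc : c ∈ Subgroup.zpowers x) (hc1 : c ≠ 1) : x ^ p ^ (n - 1) ∈ Subgroup.zpowers c := by
  have hfin : IsOfFinOrder x := by
    rw [← orderOf_pos_iff, hx]; exact pow_pos hp.out.pos n
  obtain ⟨i, hi⟩ := (Submonoid.mem_powers_iff c x).1 (hfin.mem_powers_iff_mem_zpowers.2 hc)
  have h1 : ¬ p ^ n ∣ i := by
    intro hdvd
    apply hc1
    rw [← hi, ← orderOf_dvd_iff_pow_eq_one, hx]
    exact hdvd
  obtain ⟨l, hl, hgl⟩ := (Nat.dvd_prime_pow hp.out).1 (Nat.gcd_dvd_right i (p ^ n))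
  have hln : l < n := by
    by_contra hcon
    apply h1
    have : l = n := by omega
    rw [← this, ← hgl]
    exact Nat.gcd_dvd_left _ _
  have h2 : ((i.gcd (p ^ n) : ℕ) : ℤ) ∣ ((p ^ (n - 1) : ℕ) : ℤ) := by
    rw [hgl]
    exact Int.natCast_dvd_natCast.2 (pow_dvd_pow p (by omega))
  obtain ⟨t, ht⟩ := h2
  rw [Nat.gcd_eq_gcd_ab] at ht
  rw [Subgroup.mem_zpowers_iff]
  refine ⟨i.gcdA (p ^ n) * t, ?_⟩
  rw [← hi, ← zpow_natCast, ← zpow_natCast, ht, ← zpow_mul, add_mul, zpow_add, mul_assoc ((p ^ n : ℕ) : ℤ),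
    zpow_mul x ((p ^ n : ℕ) : ℤ), zpow_natCast x (p ^ n), ← hx, pow_orderOf_eq_one, one_zpow, mul_one,
    mul_assoc]

/-- **Core of Theorem B**. -/
theorem core_B [IsAlgClosed K] [FiniteDimensional K V] {p q : ℕ} [hp : Fact p.Prime] [hq : Fact q.Prime]
    (hpq : p ≠ q) [CharP K p] [Finite G] {Q : Subgroup G} (hQ : IsPGroup q Q) {x : G} {n : ℕ}
    (hx : orderOf x = p ^ n) (hxQ : x ∈ Subgroup.normalizer (Q : Set G))
    (h1 : ⁅Q, Subgroup.zpowers (x ^ p ^ (n - 1))⁆ = Q)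
    (h2 : ∀ g ∈ Q, Commute (x ^ p ^ (n - 1)) g → ∀ h ∈ Q, g * h = h * g)
    (h3 : ∀ g ∈ Q, ∀ h ∈ Q, ∀ k ∈ Q, ⁅g, h⁆ * k = k * ⁅g, h⁆)
    (hnt : ∃ g ∈ Q, ρ g ≠ 1) :
    (ρ x - 1) ^ (p ^ n - 1) ≠ 0 ∨ ∃ n₀ b : ℕ, 1 ≤ n₀ ∧ n₀ ≤ n ∧ 1 ≤ b ∧ p ^ n₀ - 1 = q ^ b ∧
      (∃ g ∈ Q, ∃ h ∈ Q, g * h ≠ h * g) ∧ (ρ x - 1) ^ (p ^ (n - n₀) * (p ^ n₀ - 1) - 1) ≠ 0 := by
  classical
  set x₀ := x ^ p ^ (n - 1) with hx₀
  have hpp : p.Prime := hp.out
  have hQK : (Nat.card Q : K) ≠ 0 := by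
    obtain ⟨k, hk⟩ := IsPGroup.iff_card.1 hQ
    rw [hk, Nat.cast_pow]
    apply pow_ne_zero
    intro h0
    rw [CharP.cast_eq_zero_iff K p] at h0
    exact hpq ((Nat.prime_dvd_prime_iff_eq hpp hq.out).1 h0)
  -- normalization
  have hxN : Subgroup.zpowers x ≤ Subgroup.normalizer (Q : Set G) := by
    rw [Subgroup.zpowers_le]; exact hxQ
  have hcQ : ∀ c ∈ Subgroup.zpowers x, ∀ g ∈ Q, c * g * c⁻¹ ∈ Q := fun c hc g hg =>
    (Subgroup.mem_normalizer_iff.1 (hxN hc) g).1 hg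
  have hcQ' : ∀ c ∈ Subgroup.zpowers x, ∀ g ∈ Q, c⁻¹ * g * c ∈ Q := fun c hc g hg =>
    (Subgroup.mem_normalizer_iff''.1 (hxN hc) g).1 hg
  have hxz : x ∈ Subgroup.zpowers x := Subgroup.mem_zpowers x
  -- the subspace W
  obtain ⟨V', hV'0, hV'Q, hV'x, hV'fix⟩ := exists_nofix ρ Q hQK x (hcQ x hxz) (hcQ' x hxz) hnt
  obtain ⟨W, hWV', hW⟩ := exists_irrOn ρ Q x hV'0 hV'Q hV'x
  have hV : Nontrivial V := by
    obtain ⟨w, -, hw⟩ := (Submodule.ne_bot_iff _).1 hV'0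
    exact ⟨w, 0, hw⟩
  haveI : CharP (Module.End K V) p :=
    charP_of_injective_algebraMap (FaithfulSMul.algebraMap_injective K (Module.End K V)) p
  -- weight step for the center
  set Z : Subgroup G := Q ⊓ Subgroup.centralizer (Q : Set G) with hZ
  have hZmem : ∀ g, g ∈ Z ↔ g ∈ Q ∧ ∀ h ∈ Q, g * h = h * g := by
    intro g
    rw [hZ, Subgroup.mem_inf, Subgroup.mem_centralizer_iff]
    exact and_congr_right (fun _ => ⟨fun h k hk => (h k hk).symm, fun h k hk => (h k hk).symm⟩)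
  obtain ⟨k₁, hk₁, U₁, hU₁W, hU₁, hU₁Z, hU₁ind⟩ := hW.weight_step (A := Z) (n := n)
    (by rw [← hx, pow_orderOf_eq_one]) (hcQ' x hxz) inf_le_left (by
      intro a ha
      rw [hZmem] at ha ⊢
      refine ⟨hcQ' x hxz a ha.1, fun h hh => ?_⟩
      have h4 := ha.2 _ (hcQ x hxz h hh)
      calc x⁻¹ * a * x * h = x⁻¹ * (a * (x * h * x⁻¹)) * x := by group
        _ = x⁻¹ * ((x * h * x⁻¹) * a) * x := by rw [h4]
        _ = _ := by group) (by
      intro a ha g hg w _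
      rw [hZmem] at ha
      rw [← rho_mul, ← rho_mul, ha.2 g hg])
  set y₁ := x ^ p ^ k₁ with hy₁
  have hy₁z : Subgroup.zpowers y₁ ≤ Subgroup.zpowers x := by
    rw [Subgroup.zpowers_le]; exact Subgroup.pow_mem _ hxz _
  have hfin : ∀ g : G, IsOfFinOrder g := fun g => isOfFinOrder_of_finite g
  have hU₁y : ∀ c ∈ Subgroup.zpowers y₁, ∀ w ∈ U₁, ρ c w ∈ U₁ := stable_zpowers (hfin _) hU₁.invy
  -- the subgroup R
  let R : Subgroup G :=
    { carrier := {g | g ∈ Q ∧ ∀ h ∈ Q, ∀ w ∈ U₁, ρ g (ρ h w) = ρ h (ρ g w)}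
      one_mem' := ⟨Q.one_mem, fun h _ w _ => by rw [map_one]; rfl⟩
      mul_mem' := by
        rintro a b ⟨ha, ha'⟩ ⟨hb, hb'⟩
        refine ⟨Q.mul_mem ha hb, fun h hh w hw => ?_⟩
        rw [rho_mul, rho_mul, hb' h hh w hw, ha' h hh _ (hU₁.invQ b hb w hw)]
      inv_mem' := by
        rintro a ⟨ha, ha'⟩
        refine ⟨Q.inv_mem ha, fun h hh w hw => ?_⟩
        have h4 := ha' h hh _ (hU₁.invQ _ (Q.inv_mem ha) w hw)
        rw [rho_apply_inv] at h4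
        rw [← h4, rho_inv_apply] }
  have hRmem : ∀ g, g ∈ R ↔ g ∈ Q ∧ ∀ h ∈ Q, ∀ w ∈ U₁, ρ g (ρ h w) = ρ h (ρ g w) := fun _ => Iff.rfl
  have hRc : ∀ c ∈ Subgroup.zpowers y₁, ∀ g ∈ R, c * g * c⁻¹ ∈ R := by
    intro c hc g hg
    rw [hRmem] at hg ⊢
    refine ⟨hcQ c (hy₁z hc) g hg.1, fun h hh w hw => ?_⟩
    have h4 := hg.2 _ (hcQ' c (hy₁z hc) h hh) _ (hU₁y _ (Subgroup.inv_mem _ hc) w hw)
    have h5 : ρ (c * g * c⁻¹) (ρ h w) = ρ c (ρ g (ρ (c⁻¹ * h * c) (ρ c⁻¹ w))) := by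
      simp only [← rho_mul]; congr 2; group
    have h6 : ρ h (ρ (c * g * c⁻¹) w) = ρ c (ρ (c⁻¹ * h * c) (ρ g (ρ c⁻¹ w))) := by
      simp only [← rho_mul]; congr 2; group
    rw [h5, h6, h4]
  obtain ⟨k₂, hk₂, U₂, hU₂U₁, hU₂, hU₂R, hU₂ind⟩ := hU₁.weight_step (A := R) (n := n - k₁)
    (by rw [← pow_mul, ← pow_add, Nat.add_sub_of_le hk₁, ← hx, pow_orderOf_eq_one])
    (hcQ' y₁ (hy₁z (Subgroup.mem_zpowers _))) (fun g hg => hg.1) (by
      intro a ha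
      have := hRc y₁⁻¹ (Subgroup.inv_mem _ (Subgroup.mem_zpowers _)) a ha
      rwa [inv_inv] at this) (by
      intro a ha g hg w hw
      exact ha.2 g hg w hw)
  set y₂ := y₁ ^ p ^ k₂ with hy₂
  have hy₂z₁ : Subgroup.zpowers y₂ ≤ Subgroup.zpowers y₁ := by
    rw [Subgroup.zpowers_le]; exact Subgroup.pow_mem _ (Subgroup.mem_zpowers _) _
  have hy₂z : Subgroup.zpowers y₂ ≤ Subgroup.zpowers x := hy₂z₁.trans hy₁z
  have hy₂x : y₂ = x ^ p ^ (k₁ + k₂) := by rw [hy₂, hy₁, ← pow_mul, ← pow_add]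
  -- lifting
  have hpy : ∀ (k : ℕ), ρ (x ^ p ^ k) - 1 = (ρ x - 1) ^ p ^ k := by
    intro k
    rw [sub_pow_char_pow_of_commute _ _ (Commute.one_right _), one_pow, ← map_pow]
  have hpowU : ∀ (c : G) (U : Submodule K V), (∀ w ∈ U, ρ c w ∈ U) → ∀ (m : ℕ), ∀ u ∈ U,
      ((ρ c - 1) ^ m) u ∈ U := by
    intro c U hU m
    induction m with
    | zero => intro u hu; exact hu
    | succ m ih =>
      intro u hu
      rw [pow_succ', Module.End.mul_apply, LinearMap.sub_apply, Module.End.one_apply]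
      exact U.sub_mem (hU _ (ih u hu)) (ih u hu)
  have hlift : ∀ m : ℕ, ∀ u ∈ U₂, ((ρ y₂ - 1) ^ m) u ≠ 0 →
      (ρ x - 1) ^ (p ^ (k₁ + k₂) * (m + 1) - 1) ≠ 0 := by
    intro m u hu hmu h0
    have h4 : ((ρ y₂ - 1) ^ m) u ∈ U₂ := hpowU y₂ U₂ hU₂.invy m u hu
    have h5 := nz_lift (hU₂ind _ h4 hmu)
    have h6 : ((ρ y₁ - 1) ^ (p ^ k₂ - 1)) (((ρ y₂ - 1) ^ m) u) ∈ U₁ :=
      hpowU y₁ U₁ hU₁.invy _ _ (hU₂U₁ h4)
    have h7 := nz_lift (hU₁ind _ h6 h5)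
    apply h7
    rw [← Module.End.mul_apply, ← Module.End.mul_apply, hy₂x, hy₁, hpy, hpy, ← pow_mul, ← pow_mul,
      ← pow_add, ← pow_add]
    have h8 : p ^ k₁ - 1 + p ^ k₁ * (p ^ k₂ - 1) + p ^ (k₁ + k₂) * m = p ^ (k₁ + k₂) * (m + 1) - 1 := by
      obtain ⟨a, ha⟩ : ∃ a, p ^ k₁ = a + 1 := ⟨p ^ k₁ - 1, by
        have : 0 < p ^ k₁ := pow_pos hpp.pos _
        omega⟩
      obtain ⟨b, hb⟩ : ∃ b, p ^ k₂ = b + 1 := ⟨p ^ k₂ - 1, by
        have : 0 < p ^ k₂ := pow_pos hpp.pos _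
        omega⟩
      rw [pow_add, ha, hb, Nat.add_sub_cancel, Nat.add_sub_cancel]
      have : (a + 1) * (b + 1) * (m + 1) = (a + (a + 1) * b + (a + 1) * (b + 1) * m) + 1 := by ring
      rw [this, Nat.add_sub_cancel]
    rw [h8, h0]; rfl
  obtain ⟨u₀, hu₀, hu₀0⟩ := (Submodule.ne_bot_iff _).1 hU₂.ne
  rcases Nat.lt_or_ge (k₁ + k₂) n with hkn | hkn
  swap
  · left
    have hkn' : k₁ + k₂ = n := by omega
    have := hlift 0 u₀ hu₀ (by rw [pow_zero]; exact hu₀0)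
    rwa [hkn', zero_add, mul_one] at this
  -- x₀ acts
  have hx₀y₂ : x₀ ∈ Subgroup.zpowers y₂ := by
    have h4 : x₀ = y₂ ^ p ^ (n - 1 - (k₁ + k₂)) := by
      rw [hy₂x, ← pow_mul, ← pow_add, Nat.add_sub_of_le (by omega)]
    rw [h4]
    exact Subgroup.pow_mem _ (Subgroup.mem_zpowers _) _
  -- fixer
  let F : Subgroup G :=
    { carrier := {g | ∀ w ∈ U₂, ρ g w = w}
      one_mem' := fun w _ => by rw [map_one]; rfl
      mul_mem' := by
        intro a b ha hb w hw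
        rw [rho_mul, hb w hw, ha w hw]
      inv_mem' := by
        intro a ha w hw
        have h4 := ha w hw
        calc ρ a⁻¹ w = ρ a⁻¹ (ρ a w) := by rw [h4]
          _ = w := rho_inv_apply _ _ _ }
  have hFcon : ¬ (⁅Q, Subgroup.zpowers x₀⁆ ≤ F) := by
    intro hF
    rw [h1] at hF
    exact hu₀0 (hV'fix u₀ (hWV' (hU₁W (hU₂U₁ hu₀))) (fun g hg => hF hg u₀ hu₀))
  have hx₀U : ∀ c ∈ Subgroup.zpowers x₀, ∀ w ∈ U₂, ρ c w ∈ U₂ := by
    intro c hc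
    exact stable_zpowers (hfin _) hU₂.invy c (by
      have : Subgroup.zpowers x₀ ≤ Subgroup.zpowers y₂ := by rw [Subgroup.zpowers_le]; exact hx₀y₂
      exact this hc)
  obtain ⟨g₀, hg₀, hg₀R⟩ : ∃ g ∈ Q, g ∉ R := by
    by_contra hcon
    push Not at hcon
    apply hFcon
    rw [Subgroup.commutator_le]
    intro g hg c hc w hw
    obtain ⟨a, ha⟩ := hU₂R g (hcon g hg)
    rw [commutatorElement_def, rho_mul, rho_mul, rho_mul]
    have h4 : ρ g⁻¹ (ρ c⁻¹ w) ∈ U₂ := hU₂.invQ _ (Q.inv_mem hg) _ (hx₀U _ (Subgroup.inv_mem _ hc) w hw)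
    rw [ha _ (hx₀U c hc _ h4), ← map_smul, ← ha _ h4, rho_apply_inv, rho_apply_inv]
  -- noncentral elements
  have hr2 : ∀ g ∈ Q, g ∉ R → ∃ h ∈ Q, ∃ c : K, c ≠ 1 ∧ ∀ w ∈ U₂, ρ (h * g * h⁻¹) w = c • ρ g w := by
    intro g hg hgR
    rw [hRmem] at hgR
    push Not at hgR
    obtain ⟨h, hh, w, hw, hne⟩ := hgR hg
    obtain ⟨c, hc⟩ := hU₁Z ⁅h, g⁆ ((hZmem _).2 ⟨by
      rw [commutatorElement_def]
      exact Q.mul_mem (Q.mul_mem (Q.mul_mem hh hg) (Q.inv_mem hh)) (Q.inv_mem hg), h3 h hh g hg⟩)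
    have h4 : ∀ w ∈ U₁, ρ (h * g * h⁻¹) w = c • ρ g w := by
      intro w hw
      rw [← hc _ (hU₁.invQ g hg w hw), ← rho_mul]
      congr 2
      rw [commutatorElement_def]; group
    refine ⟨h, hh, c, ?_, fun w hw => h4 w (hU₂U₁ hw)⟩
    rintro rfl
    apply hne
    have h5 := h4 _ (hU₁.invQ h hh w hw)
    rw [one_smul] at h5
    rw [← h5, ← rho_mul, ← rho_mul]
    congr 2; group
  have hcopn : (Nat.card (Subgroup.zpowers y₂)).Coprime (Nat.card Q) := by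
    obtain ⟨k, hk⟩ := IsPGroup.iff_card.1 hQ
    have h4 : Nat.card (Subgroup.zpowers y₂) ∣ p ^ n := by
      rw [← hx, ← Nat.card_zpowers]
      exact Subgroup.card_dvd_of_le hy₂z
    rw [hk]
    exact Nat.Coprime.coprime_dvd_left h4 (Nat.Coprime.pow _ _ ((Nat.coprime_primes hpp hq.out).2 hpq))
  have hr4 : ∀ g ∈ Q, g * y₂ * g⁻¹ * y₂⁻¹ ∈ R → g ∈ R := by
    intro g hg hgR
    have hstep : ∀ j : ℕ, y₂ ^ j * g * (y₂ ^ j)⁻¹ * g⁻¹ ∈ R := by
      intro j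
      induction j with
      | zero => simp [R.one_mem]
      | succ j ih =>
        have h4 := hRc y₂ (hy₂z₁ (Subgroup.mem_zpowers _)) _ ih
        have h5 := R.inv_mem hgR
        have h6 : y₂ ^ (j + 1) * g * (y₂ ^ (j + 1))⁻¹ * g⁻¹ =
            (y₂ * (y₂ ^ j * g * (y₂ ^ j)⁻¹ * g⁻¹) * y₂⁻¹) * (g * y₂ * g⁻¹ * y₂⁻¹)⁻¹ := by
          rw [pow_succ']; group
        rw [h6]
        exact R.mul_mem h4 h5
    obtain ⟨c, ⟨hcQ1, hcC⟩, hcR⟩ := Cop.fixed_points_quotient (Subgroup.zpowers y₂) Q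
      (hy₂z.trans hxN) hcopn (Or.inl inferInstance) R (fun g hg => hg.1) (by
        intro k hk
        rw [Subgroup.mem_normalizer_iff]
        have key : ∀ k ∈ Q, ∀ g ∈ R, k * g * k⁻¹ ∈ R := by
          intro k hk g hg
          refine ⟨Q.mul_mem (Q.mul_mem hk hg.1) (Q.inv_mem hk), fun h hh w hw => ?_⟩
          have h4 := hg.2 _ (Q.mul_mem (Q.mul_mem (Q.inv_mem hk) hh) hk) _ (hU₁.invQ _ (Q.inv_mem hk) w hw)
          have h5 : ρ (k * g * k⁻¹) (ρ h w) = ρ k (ρ g (ρ (k⁻¹ * h * k) (ρ k⁻¹ w))) := by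
            simp only [← rho_mul]; congr 2; group
          have h6 : ρ h (ρ (k * g * k⁻¹) w) = ρ k (ρ (k⁻¹ * h * k) (ρ g (ρ k⁻¹ w))) := by
            simp only [← rho_mul]; congr 2; group
          rw [h5, h6, h4]
        intro g
        refine ⟨fun hg => key k hk g hg, fun hg => ?_⟩
        have := key k⁻¹ (Q.inv_mem hk) _ hg
        have h7 : k⁻¹ * (k * g * k⁻¹) * k⁻¹⁻¹ = g := by group
        rwa [h7] at this) (by
        intro k hk
        rw [Subgroup.mem_normalizer_iff]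
        intro g
        refine ⟨fun hg => hRc k (hy₂z₁ hk) g hg, fun hg => ?_⟩
        have := hRc k⁻¹ (Subgroup.inv_mem _ (hy₂z₁ hk)) _ hg
        have h7 : k⁻¹ * (k * g * k⁻¹) * k⁻¹⁻¹ = g := by group
        rwa [h7] at this) g hg (by
        intro a ha
        obtain ⟨j, rfl⟩ := (Submonoid.mem_powers_iff a y₂).1 ((hfin y₂).mem_powers_iff_mem_zpowers.2 ha)
        exact hstep j)
    have hcR' : c ∈ R := by
      refine ⟨hcQ1, fun h hh w _ => ?_⟩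
      have h8 : c * h = h * c := h2 c hcQ1 (Subgroup.mem_centralizer_iff.1 hcC x₀ hx₀y₂) h hh
      rw [← rho_mul, ← rho_mul, h8]
    have h9 : g = c * (g⁻¹ * c)⁻¹ := by group
    rw [h9]
    exact R.mul_mem hcR' (R.inv_mem hcR)
  have hirr := hU₂.irr_of_stab (hfin y₂) hQK (hcQ y₂ (hy₂z (Subgroup.mem_zpowers _)))
    (hcQ' y₂ (hy₂z (Subgroup.mem_zpowers _))) hU₂R hr2 hr4
  -- the representation on U₂
  let S : Subgroup G :=
    { carrier := {g | ∀ w ∈ U₂, ρ g w ∈ U₂}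
      one_mem' := fun w hw => by rw [map_one]; exact hw
      mul_mem' := by
        intro a b ha hb w hw
        rw [rho_mul]; exact ha _ (hb w hw)
      inv_mem' := by
        intro a ha
        exact stable_zpowers (hfin a) ha a⁻¹ (Subgroup.inv_mem _ (Subgroup.mem_zpowers a)) }
  set P : Subgroup G := Q ⊔ Subgroup.zpowers y₂ with hP
  have hPS : P ≤ S := by
    apply sup_le
    · exact hU₂.invQ
    · rw [Subgroup.zpowers_le]; exact hU₂.invy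
  have hPU : ∀ g ∈ P, ∀ w ∈ U₂, ρ g w ∈ U₂ := fun g hg => hPS hg
  set ρ' := restr ρ P U₂ hPU with hρ'
  have hρ'v : ∀ (g : P) (w : U₂), ((ρ' g w : U₂) : V) = ρ g w := fun _ _ => rfl
  set Q' := Q.subgroupOf P with hQ'
  have hQP : Q ≤ P := le_sup_left
  have hy₂P : y₂ ∈ P := (le_sup_right : Subgroup.zpowers y₂ ≤ P) (Subgroup.mem_zpowers _)
  have hyP : Subgroup.zpowers y₂ ≤ P := le_sup_right
  have hmapbot : ∀ W : Submodule K U₂, W.map U₂.subtype = ⊥ → W = ⊥ := by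
    intro W hW
    rw [eq_bot_iff]
    intro w hw
    have : (w : V) ∈ W.map U₂.subtype := ⟨w, hw, rfl⟩
    rw [hW, Submodule.mem_bot] at this
    exact Subtype.ext this
  have hmaptop : ∀ W : Submodule K U₂, W.map U₂.subtype = U₂ → W = ⊤ := by
    intro W hW
    rw [eq_top_iff]
    rintro ⟨w, hw⟩ -
    have h4 := hw
    rw [← hW] at h4
    obtain ⟨w', hw', hww'⟩ := h4
    have : w' = ⟨w, hw⟩ := Subtype.ext hww'
    rw [← this]; exact hw'
  have hIrr : Irr ρ' Q' := by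
    refine ⟨(Submodule.nontrivial_iff_ne_bot).2 hU₂.ne, ?_⟩
    intro W hWinv
    rcases hirr (W.map U₂.subtype) (Submodule.map_subtype_le _ _) (by
      rintro g hg _ ⟨w, hw, rfl⟩
      exact ⟨_, hWinv ⟨g, hQP hg⟩ hg w hw, rfl⟩) with h4 | h4
    · exact Or.inl (hmapbot W h4)
    · exact Or.inr (hmaptop W h4)
  have hQ'card : Nat.card Q' = Nat.card Q := Nat.card_congr (Subgroup.subgroupOfEquivOfLe hQP).toEquiv
  set r := n - (k₁ + k₂) with hr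
  have hr1 : 1 ≤ r := by omega
  have hoy : orderOf (⟨y₂, hy₂P⟩ : P) = p ^ r := by
    rw [Subgroup.orderOf_mk, hy₂x, orderOf_pow_of_dvd (pow_pos hpp.pos _).ne' (by
      rw [hx]; exact pow_dvd_pow p hkn.le), hx, Nat.pow_div hkn.le hpp.pos]
  have hx₀' : x₀ = y₂ ^ p ^ (r - 1) := by
    rw [hy₂x, ← pow_mul, ← pow_add, show k₁ + k₂ + (r - 1) = n - 1 by omega]
  have hfaith : ρ' ((⟨y₂, hy₂P⟩ : P) ^ p ^ (r - 1)) ≠ 1 := by
    intro h4
    apply hFcon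
    have h5 : ∀ w ∈ U₂, ρ x₀ w = w := by
      intro w hw
      have h6 := congrArg (fun f : Module.End K U₂ => ((f ⟨w, hw⟩ : U₂) : V)) h4
      change ρ (((⟨y₂, hy₂P⟩ : P) ^ p ^ (r - 1) : P) : G) w = w at h6
      rwa [Subgroup.coe_pow, ← hx₀'] at h6
    have h6 : ∀ c ∈ Subgroup.zpowers x₀, ∀ w ∈ U₂, ρ c w = w := by
      have h7 : Subgroup.zpowers x₀ ≤ F := by rw [Subgroup.zpowers_le]; exact h5
      exact fun c hc => h7 hc
    rw [Subgroup.commutator_le]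
    intro g hg c hc w hw
    rw [commutatorElement_def, rho_mul, rho_mul, rho_mul,
      h6 c⁻¹ (Subgroup.inv_mem _ hc) w hw, h6 c hc _ (hU₂.invQ _ (Q.inv_mem hg) _ hw), rho_apply_inv]
  have hcz : ∀ c ∈ Subgroup.zpowers (⟨y₂, hy₂P⟩ : P), (c : G) ∈ Subgroup.zpowers y₂ := by
    intro c hc
    obtain ⟨k, rfl⟩ := Subgroup.mem_zpowers_iff.1 hc
    exact Subgroup.mem_zpowers_iff.2 ⟨k, rfl⟩
  have hnorm' : ∀ c ∈ Subgroup.zpowers (⟨y₂, hy₂P⟩ : P), ∀ g ∈ Q', c * g * c⁻¹ ∈ Q' := by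
    intro c hc g hg
    rw [hQ', Subgroup.mem_subgroupOf] at hg ⊢
    exact hcQ c (hy₂z (hcz c hc)) g hg
  have hfree' : ∀ c ∈ Subgroup.zpowers (⟨y₂, hy₂P⟩ : P), c ≠ 1 → ∀ g ∈ Q', c * g * c⁻¹ = g →
      g ∈ scal ρ' Q' := by
    intro c hc hc1 g hg hcg
    refine ⟨hg, ?_⟩
    rw [hQ', Subgroup.mem_subgroupOf] at hg
    have h4 : x₀ ∈ Subgroup.zpowers (c : G) := mem_zpowers_of_ne_one hx (hy₂z (hcz c hc)) (by
      intro h5; exact hc1 (Subtype.ext h5))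
    have h5 : Commute (c : G) (g : G) := by
      have h6 := congrArg Subtype.val (mul_inv_eq_iff_eq_mul.1 hcg)
      exact h6
    have h6 : Commute x₀ (g : G) := by
      obtain ⟨k, hk⟩ := Subgroup.mem_zpowers_iff.1 h4
      rw [← hk]
      exact h5.zpow_left k
    have h7 := h2 g hg h6
    apply hIrr.schur
    intro k hk
    rw [← map_mul, ← map_mul]
    congr 1
    apply Subtype.ext
    exact h7 k hk
  have hcrit := fun hs => crit_charP hIrr (by rw [hQ'card]; exact hQK) hr1 hoy hfaith hnorm' hfree' hs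
  have hpow' : ∀ (m : ℕ) (u : U₂), ((((ρ' ⟨y₂, hy₂P⟩ - 1) ^ m) u : U₂) : V) = ((ρ y₂ - 1) ^ m) u := by
    intro m
    induction m with
    | zero => intro u; rfl
    | succ m ih =>
      intro u
      rw [pow_succ', pow_succ', Module.End.mul_apply, Module.End.mul_apply, LinearMap.sub_apply,
        LinearMap.sub_apply, ← ih u]
      rfl
  have hexu : ∀ m : ℕ, (ρ' ⟨y₂, hy₂P⟩ - 1) ^ m ≠ 0 → (ρ x - 1) ^ (p ^ (k₁ + k₂) * (m + 1) - 1) ≠ 0 := by
    intro m hm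
    obtain ⟨u, hu⟩ : ∃ u, ((ρ' ⟨y₂, hy₂P⟩ - 1) ^ m) u ≠ 0 := by
      by_contra hcon
      push Not at hcon
      exact hm (LinearMap.ext hcon)
    apply hlift m u u.2
    rw [← hpow']
    intro h0
    exact hu (Subtype.ext h0)
  have hpr : 2 ≤ p ^ r := by
    calc 2 ≤ p := hpp.two_le
      _ = p ^ 1 := (pow_one p).symm
      _ ≤ p ^ r := Nat.pow_le_pow_right hpp.pos hr1
  by_cases hs : (ρ' ⟨y₂, hy₂P⟩ - 1) ^ (p ^ r - 1) = 0
  · right
    obtain ⟨hdim, hne⟩ := hcrit hs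
    have hirrQ : Irr (restr ρ Q U₂ (fun g hg => hPU g (hQP hg))) ⊤ := by
      refine ⟨(Submodule.nontrivial_iff_ne_bot).2 hU₂.ne, ?_⟩
      intro W hWinv
      rcases hirr (W.map U₂.subtype) (Submodule.map_subtype_le _ _) (by
        rintro g hg _ ⟨w, hw, rfl⟩
        exact ⟨_, hWinv ⟨g, hg⟩ (Subgroup.mem_top _) w hw, rfl⟩) with h4 | h4
      · exact Or.inl (hmapbot W h4)
      · exact Or.inr (hmaptop W h4)
    obtain ⟨b, hb⟩ := degree_of_qgroup (q := q) (Nat.card Q) Q rfl hQ U₂ _ hirrQ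
    rw [hdim] at hb
    have hb1 : 1 ≤ b := by
      by_contra hb0
      have hb0 : b = 0 := by omega
      rw [hb0, pow_zero] at hb
      rw [hb] at hdim
      obtain ⟨v, hv, hv2⟩ := finrank_eq_one_iff'.1 hdim
      obtain ⟨h, hh, c, hc, hcU⟩ := hr2 g₀ hg₀ hg₀R
      apply hc
      have hscal : ∀ g : P, ∃ a : K, ∀ w : U₂, ρ g w = a • (w : V) := by
        intro g
        obtain ⟨a, ha⟩ := hv2 (ρ' g v)
        refine ⟨a, fun w => ?_⟩
        obtain ⟨d, rfl⟩ := hv2 w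
        have h4 : ρ g (v : V) = a • (v : V) := by
          have := congrArg Subtype.val ha
          exact this.symm
        rw [Submodule.coe_smul, map_smul, h4, smul_comm]
      obtain ⟨a, ha⟩ := hscal ⟨h, hQP hh⟩
      have hvU : (v : V) ≠ 0 := fun h0 => hv (Subtype.ext h0)
      have h5 := hcU v v.2
      have h6 : ρ (h * g₀ * h⁻¹) (v : V) = ρ g₀ v := by
        have h7 : ρ g₀ (ρ h⁻¹ (v : V)) ∈ U₂ := hU₂.invQ _ hg₀ _ (hU₂.invQ _ (Q.inv_mem hh) _ v.2)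
        rw [rho_mul, rho_mul]
        have h8 := ha ⟨_, h7⟩
        change ρ h (ρ g₀ (ρ h⁻¹ (v : V))) = a • ρ g₀ (ρ h⁻¹ (v : V)) at h8
        have h9 := ha ⟨_, hU₂.invQ _ (Q.inv_mem hh) _ v.2⟩
        change ρ h (ρ h⁻¹ (v : V)) = a • ρ h⁻¹ (v : V) at h9
        rw [h8, ← map_smul, ← h9, rho_apply_inv]
      rw [h6] at h5
      have h10 : (1 - c) • ρ g₀ (v : V) = 0 := by rw [sub_smul, one_smul, ← h5, sub_self]
      rcases smul_eq_zero.1 h10 with h11 | h11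
      · exact (sub_eq_zero.1 h11).symm
      · exfalso
        apply hvU
        rw [← rho_inv_apply ρ g₀ (v : V), h11, map_zero]
    refine ⟨r, b, hr1, by omega, hb1, hb, ?_, ?_⟩
    · obtain ⟨h, hh, c, hc, hcU⟩ := hr2 g₀ hg₀ hg₀R
      refine ⟨g₀, hg₀, h, hh, ?_⟩
      intro hcomm
      apply hc
      have h5 := hcU u₀ hu₀
      rw [← hcomm, mul_inv_cancel_right] at h5
      have h10 : (1 - c) • ρ g₀ u₀ = 0 := by rw [sub_smul, one_smul, ← h5, sub_self]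
      rcases smul_eq_zero.1 h10 with h11 | h11
      · exact (sub_eq_zero.1 h11).symm
      · exfalso
        apply hu₀0
        rw [← rho_inv_apply ρ g₀ u₀, h11, map_zero]
    · have h12 := hexu _ hne
      have h13 : p ^ r - 2 + 1 = p ^ r - 1 := by omega
      have h14 : k₁ + k₂ = n - r := by omega
      rwa [h13, h14] at h12
  · left
    have h12 := hexu _ hs
    have h13 : p ^ (k₁ + k₂) * (p ^ r - 1 + 1) - 1 = p ^ n - 1 := by
      rw [Nat.sub_add_cancel (by omega), ← pow_add, show k₁ + k₂ + r = n by omega]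
    rwa [h13] at h12

end Cfsg.Agent.HH
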