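import Mathlib
import Cfsg.Agent.HH.ThmB
import Cfsg.Agent.Cop.MinAct
import Cfsg.Agent.H79.PSolvDual

set_option autoImplicit false

/-!
Group theory for Theorem B of Hall and Higman.
-/

namespace Cfsg.Agent.HH

open scoped commutatorElement
open Subgroup

variable {G : Type*} [Group G] [Finite G]

/-- A minimal configuration inside an `x`-invariant `p'`-subgroup. -/
theorem exists_min_q {p : ℕ} [hp : Fact p.Prime] (L : Subgroup G) (hL : (Nat.card L).Coprime p)
    {x : G} {n : ℕ} (hx : orderOf x = p ^ n) (hxL : x ∈ normalizer (L : Set G))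
    (hnt : ⁅L, zpowers (x ^ p ^ (n - 1))⁆ ≠ ⊥) :
    ∃ (q : ℕ) (_ : Fact q.Prime) (Q : Subgroup G), p ≠ q ∧ IsPGroup q Q ∧ Q ≤ L ∧
      x ∈ normalizer (Q : Set G) ∧ ⁅Q, zpowers (x ^ p ^ (n - 1))⁆ = Q ∧ Q ≠ ⊥ ∧
      (∀ g ∈ Q, Commute (x ^ p ^ (n - 1)) g → ∀ h ∈ Q, g * h = h * g) ∧
      (∀ g ∈ Q, ∀ h ∈ Q, ∀ k ∈ Q, ⁅g, h⁆ * k = k * ⁅g, h⁆) ∧
      (∀ U : Subgroup G, U < Q → x ∈ normalizer (U : Set G) → ⁅U, zpowers (x ^ p ^ (n - 1))⁆ = ⊥) := by
  classical
  set x₀ := x ^ p ^ (n - 1) with hx₀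
  have hpx : IsPGroup p (zpowers x) := IsPGroup.of_card (n := n) (by rw [Nat.card_zpowers, hx])
  have hA : zpowers x ≤ normalizer (L : Set G) := by rw [zpowers_le]; exact hxL
  have hAB : zpowers x₀ ≤ zpowers x := by rw [zpowers_le]; exact pow_mem (mem_zpowers x) _
  have hcardx : Nat.card (zpowers x) = p ^ n := by rw [Nat.card_zpowers, hx]
  have hcop : (Nat.card (zpowers x)).Coprime (Nat.card L) := by
    rw [hcardx]
    exact (Nat.Coprime.pow_right n hL).symm
  -- choose an invariant Sylow subgroup not centralized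
  obtain ⟨q, hq, P, hP, hPnt⟩ : ∃ (q : ℕ) (_ : Fact q.Prime) (P : Sylow q L),
      zpowers x ≤ normalizer ((P : Subgroup L).map L.subtype : Set G) ∧
      ⁅(P : Subgroup L).map L.subtype, zpowers x₀⁆ ≠ ⊥ := by
    by_contra hcon
    push Not at hcon
    apply hnt
    rw [commutator_eq_bot_iff_le_centralizer]
    have h1 : Nat.card L ∣ Nat.card (L ⊓ centralizer (zpowers x₀ : Set G) : Subgroup G) := by
      rw [Nat.dvd_iff_prime_pow_dvd_dvd]
      intro q k hq hqk
      haveI : Fact q.Prime := ⟨hq⟩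
      obtain ⟨P, hP⟩ := Cop.exists_invariant_sylow hA hcop (Or.inl inferInstance) q
      have h2 := hcon q ⟨hq⟩ P hP
      rw [commutator_eq_bot_iff_le_centralizer] at h2
      have h3 : (P : Subgroup L).map L.subtype ≤ L ⊓ centralizer (zpowers x₀ : Set G) :=
        le_inf (Subgroup.map_subtype_le _) h2
      refine dvd_trans ?_ (Subgroup.card_dvd_of_le h3)
      rw [Cop.card_map_subtype, Sylow.card_eq_multiplicity]
      exact (Nat.Prime.pow_dvd_iff_dvd_ordProj hq Nat.card_pos.ne').1 hqk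
    have h2 : L ⊓ centralizer (zpowers x₀ : Set G) = L := by
      apply Subgroup.eq_of_le_of_card_ge inf_le_left
      exact Nat.le_of_dvd Nat.card_pos h1
    exact inf_eq_left.1 h2
  have hPq : IsPGroup q ((P : Subgroup L).map L.subtype) := P.isPGroup'.map _
  have hpq : p ≠ q := by
    rintro rfl
    apply hPnt
    have h1 : Nat.card ((P : Subgroup L).map L.subtype) = 1 := by
      obtain ⟨k, hk⟩ := IsPGroup.iff_card.1 hPq
      have h2 : Nat.card ((P : Subgroup L).map L.subtype) ∣ Nat.card L :=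
        Subgroup.card_dvd_of_le (Subgroup.map_subtype_le _)
      have h3 := Nat.Coprime.coprime_dvd_left h2 hL
      rw [hk] at h3
      by_cases hk0 : k = 0
      · rw [hk, hk0, pow_zero]
      · rw [Nat.coprime_pow_left_iff (by omega)] at h3
        have := (Nat.coprime_self _).1 h3
        exact absurd this hp.out.one_lt.ne'
    rw [Subgroup.card_eq_one.1 h1, commutator_bot_left]
  obtain ⟨Q, hQP, hBQ, hQnt, hQmin⟩ := Cop.exists_min hP hPnt
  have hQq : IsPGroup q Q := hPq.to_le hQP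
  have hAn : zpowers x ≤ normalizer ((zpowers x₀ : Subgroup G) : Set G) := by
    have h1 : zpowers x ≤ centralizer (zpowers x₀ : Set G) := by
      rw [zpowers_le, mem_centralizer_iff]
      intro h hh
      obtain ⟨k, rfl⟩ := mem_zpowers_iff.1 hh
      rw [hx₀]
      exact ((Commute.refl x).pow_left _).zpow_left k
    exact h1.trans (centralizer_le_normalizer _)
  have hAp : (Nat.card (zpowers x₀)).Coprime q := by
    have h1 : Nat.card (zpowers x₀) ∣ p ^ n := by rw [← hcardx]; exact Subgroup.card_dvd_of_le hAB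
    exact Nat.Coprime.coprime_dvd_left h1 (Nat.Coprime.pow_left _ ((Nat.coprime_primes hp.out hq.out).2 hpq))
  have hcomm := Cop.min_commutator_eq hQq hBQ hAB hAn hAp hQnt hQmin
  have hstr := Cop.min_structure hQq hBQ hAB hAn hAp hQnt hQmin
  have hcent : ∀ g ∈ Q, Commute x₀ g → g ∈ Q ⊓ centralizer (zpowers x₀ : Set G) := by
    intro g hg hc
    refine ⟨hg, mem_centralizer_iff.2 ?_⟩
    intro h hh
    obtain ⟨k, rfl⟩ := mem_zpowers_iff.1 hh
    exact hc.zpow_left k
  refine ⟨q, hq, Q, hpq, hQq, hQP.trans (Subgroup.map_subtype_le _), hBQ (mem_zpowers x), hcomm, ?_, ?_, ?_, ?_⟩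
  · rintro rfl
    exact hQnt (commutator_bot_left _)
  · intro g hg hc h hh
    have h1 := hcent g hg hc
    rcases hstr with ⟨_, h2⟩ | ⟨_, _, h2⟩
    · rw [h2, mem_bot] at h1
      rw [h1, one_mul, mul_one]
    · rw [← h2] at h1
      obtain ⟨z, hz, rfl⟩ := h1
      have := congrArg Subtype.val (mem_center_iff.1 hz ⟨h, hh⟩)
      exact this.symm
  · intro g hg h hh k hk
    rcases hstr with ⟨h2, _⟩ | ⟨h2, _, _⟩
    · have h3 : g * h = h * g := congrArg Subtype.val (h2.1.1.1 ⟨g, hg⟩ ⟨h, hh⟩)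
      rw [(commutatorElement_eq_one_iff_mul_comm).2 h3, one_mul, mul_one]
    · have h4 : ⁅(⟨g, hg⟩ : Q), (⟨h, hh⟩ : Q)⁆ ∈ center Q := by
        rw [← h2.2.2, _root_.commutator_def]
        exact commutator_mem_commutator (mem_top _) (mem_top _)
      have := congrArg Subtype.val (mem_center_iff.1 h4 ⟨k, hk⟩)
      exact this.symm
  · intro U hU hxU
    exact hQmin U hU (by rw [zpowers_le]; exact hxU)

end Cfsg.Agent.HH
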