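import Mathlib
import Cfsg.Agent.HH.GroupB
import Cfsg.Agent.BG3.Section
import Cfsg.Agent.S0633

set_option autoImplicit false

/-!
The action of a `p`-solvable group on `O_p(G)/Φ(O_p(G))`, and Theorem B for it.
-/

namespace Cfsg.Agent.HH

open Subgroup

universe u

variable {G : Type u} [Group G]

/-- The module `O_p(G)/Φ(O_p(G))`. -/
structure FMod (p : ℕ) (G : Type u) [Group G] (V : Type*) [AddCommGroup V] [Module (ZMod p) V] where
  π : pCore p G →* Multiplicative V
  ρ : G →* Module.End (ZMod p) V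
  surj : Function.Surjective π
  ker : ∀ x : pCore p G, π x = 1 ↔ x ∈ frattini (pCore p G)
  equiv : ∀ (g : G) (x y : pCore p G), (y : G) = g * x * g⁻¹ → (π y).toAdd = ρ g (π x).toAdd
  faithful : ∀ g, ρ g = 1 ↔ g ∈ pCore p G

theorem exists_fmod [Finite G] {p : ℕ} [hp : Fact p.Prime] (hG : IsPSolvable p G)
    (hcore : pPrimeCore p G = ⊥) :
    ∃ (V : Type u) (_ : AddCommGroup V) (_ : Module (ZMod p) V) (_ : Finite V), Nonempty (FMod p G V) := by
  classical
  set M := pCore p G with hM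
  haveI hMn : M.Normal := Solv.pCore_normal p
  have hMp : IsPGroup p M := Solv.pCore_isPGroup p
  set M1 := (frattini M).map M.subtype with hM1
  haveI hM1n : M1.Normal := by
    have h1 : normalizer (M : Set G) ≤ normalizer (M1 : Set G) := H49.normalizer_le_normalizer_map_of_char M (frattini M)
    rw [normalizer_eq_top] at h1
    exact normalizer_eq_top_iff.1 (top_le_iff.1 h1)
  have hYM : (⊤ : Subgroup G) ≤ normalizer (M : Set G) := by rw [normalizer_eq_top]
  have hYM1 : (⊤ : Subgroup G) ≤ normalizer (M1 : Set G) := by rw [normalizer_eq_top]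
  have hcomm : ∀ x ∈ M, ∀ y ∈ M, x * y * x⁻¹ * y⁻¹ ∈ M1 := by
    intro x hx y hy
    refine ⟨⟨x, hx⟩ * ⟨y, hy⟩ * (⟨x, hx⟩ : M)⁻¹ * (⟨y, hy⟩ : M)⁻¹, ?_, rfl⟩
    apply Solv.commutator_le_frattini_of_pGroup hMp
    rw [_root_.commutator_def]
    exact commutator_mem_commutator (mem_top _) (mem_top _)
  obtain ⟨V, hV1, hV2, ⟨S⟩⟩ := BG3.exists_secMod (ℓ := p) (M := M) (M1 := M1) (Y := ⊤)
    (le_top.trans hYM1) hYM hYM1 (by
      intro x hx
      exact ⟨⟨x, hx⟩ ^ p, Solv.pow_mem_frattini_of_pGroup hMp ⟨x, hx⟩, rfl⟩) hcomm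
  have hker : ∀ x : M, S.π x = 1 ↔ x ∈ frattini M := by
    intro x
    rw [S.ker]
    constructor
    · rintro ⟨y, hy, hyx⟩
      have : y = x := Subtype.ext hyx
      rwa [← this]
    · intro h; exact ⟨x, h, rfl⟩
  refine ⟨V, hV1, hV2, S.finite, ⟨{
    π := S.π
    ρ := S.ρ.comp (Subgroup.topEquiv.symm.toMonoidHom)
    surj := S.surj
    ker := hker
    equiv := ?_
    faithful := ?_ }⟩⟩
  · intro g x y hy
    have h1 := S.equiv ⟨g, mem_top g⟩ x
    have h2 : BG3.cjHom hYM ⟨g, mem_top g⟩ x = y := Subtype.ext hy.symm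
    rw [h2] at h1
    exact h1
  · have hρ : ∀ g : G, (S.ρ.comp (Subgroup.topEquiv.symm.toMonoidHom)) g = 1 ↔
        ∀ x ∈ M, g * x * g⁻¹ * x⁻¹ ∈ M1 := by
      intro g
      rw [← S.rho_eq_iff (⟨g, mem_top g⟩ : (⊤ : Subgroup G))]
      constructor
      · intro h v
        have h1 : S.ρ ⟨g, mem_top g⟩ = 1 := h
        rw [h1]; rfl
      · intro h
        apply LinearMap.ext
        exact h
    -- the kernel
    let C : Subgroup G := (S.ρ.comp (Subgroup.topEquiv.symm.toMonoidHom)).ker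
    have hCmem : ∀ g, g ∈ C ↔ ∀ x ∈ M, g * x * g⁻¹ * x⁻¹ ∈ M1 := hρ
    haveI hCn : C.Normal := MonoidHom.normal_ker _
    have hCp : IsPGroup p C := by
      rw [IsPGroup.iff_card]
      have h1 : ∀ r : ℕ, r.Prime → r ∣ Nat.card C → r = p := by
        intro r hr hrC
        by_contra hrp
        haveI : Fact r.Prime := ⟨hr⟩
        obtain ⟨y, hy⟩ := exists_prime_orderOf_dvd_card' (G := C) r hrC
        have hoy : orderOf (y : G) = r := by rw [Subgroup.orderOf_coe, hy]
        have h2 := Cop.le_centralizer_of_frattini (A := zpowers (y : G)) (K := M)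
          (le_top.trans hYM) (by
            rw [Nat.card_zpowers, hoy]
            obtain ⟨k, hk⟩ := IsPGroup.iff_card.1 hMp
            have h3 : Nat.card (frattini M) ∣ p ^ k := by rw [← hk]; exact Subgroup.card_subgroup_dvd_card _
            exact Nat.Coprime.coprime_dvd_right h3 (Nat.Coprime.pow_right _ ((Nat.coprime_primes hr hp.out).2 hrp)))
          (by
            intro a ha
            exact (hCmem a).1 ((zpowers_le.2 y.2) ha))
        have h3 : (y : G) ∈ M := H76.centralizer_pCore_le hG hcore (h2 (mem_zpowers _))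
        have h4 : orderOf (⟨y, h3⟩ : M) = r := by rw [Subgroup.orderOf_mk, hoy]
        obtain ⟨k, hk⟩ := hMp ⟨(y : G), h3⟩
        have h5 : r ∣ p ^ k := by rw [← h4]; exact orderOf_dvd_of_pow_eq_one hk
        exact hrp ((Nat.prime_dvd_prime_iff_eq hr hp.out).1 (hr.dvd_of_dvd_pow h5))
      obtain ⟨k, hk⟩ : ∃ k, Nat.card C = p ^ k :=
        ⟨_, Nat.eq_prime_pow_of_unique_prime_dvd Nat.card_pos.ne' (fun {r} hr hrC => h1 r hr hrC)⟩
      exact ⟨k, hk⟩
    intro g
    constructor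
    · intro h
      exact Solv.le_pCore hCn hCp h
    · intro h
      rw [hρ]
      intro x hx
      exact hcomm g h x hx

/-- The linear group attached to a representation. -/
def toEquiv {F V : Type*} [Field F] [AddCommGroup V] [Module F V] (ρ : G →* Module.End F V) :
    G →* (V ≃ₗ[F] V) where
  toFun g := LinearEquiv.ofLinear (ρ g) (ρ g⁻¹)
    (by rw [← Module.End.mul_eq_comp, ← map_mul, mul_inv_cancel, map_one]; rfl)
    (by rw [← Module.End.mul_eq_comp, ← map_mul, inv_mul_cancel, map_one]; rfl)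
  map_one' := by
    apply LinearEquiv.ext
    intro v
    change ρ 1 v = v
    rw [map_one]; rfl
  map_mul' a b := by
    apply LinearEquiv.ext
    intro v
    change ρ (a * b) v = ρ a (ρ b v)
    rw [map_mul]; rfl

theorem toEquiv_coe {F V : Type*} [Field F] [AddCommGroup V] [Module F V] (ρ : G →* Module.End F V)
    (g : G) : ((toEquiv ρ g : V ≃ₗ[F] V) : Module.End F V) = ρ g := rfl

theorem toEquiv_eq_one {F V : Type*} [Field F] [AddCommGroup V] [Module F V] (ρ : G →* Module.End F V)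
    (g : G) : toEquiv ρ g = 1 ↔ ρ g = 1 := by
  constructor
  · intro h
    rw [← toEquiv_coe, h]; rfl
  · intro h
    apply LinearEquiv.ext
    intro v
    change ρ g v = v
    rw [h]; rfl

/-- Theorem B for a representation. -/
theorem thmB_rep [Finite G] {p : ℕ} [hp : Fact p.Prime] {F V : Type*} [Field F] [CharP F p] [AddCommGroup V]
    [Module F V] [FiniteDimensional F V] (ρ : G →* Module.End F V) (hG : IsPSolvable p G)
    (hker : ∀ N : Subgroup G, N.Normal → ρ.ker ≤ N → IsPGroup p (N.map (QuotientGroup.mk' ρ.ker)) → N ≤ ρ.ker)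
    {x : G} {n : ℕ} (hn : 1 ≤ n) (hx : ρ x ^ p ^ n = 1) (hx' : ρ x ^ p ^ (n - 1) ≠ 1) :
    (ρ x - 1) ^ (p ^ n - 1) ≠ 0 ∨ ∃ n₀ q m : ℕ, 1 ≤ n₀ ∧ n₀ ≤ n ∧ q.Prime ∧ 1 ≤ m ∧ p ^ n₀ - 1 = q ^ m ∧
      (∀ Q : Sylow q G, ¬ IsMulCommutative Q) ∧ (ρ x - 1) ^ (p ^ (n - n₀) * (p ^ n₀ - 1) - 1) ≠ 0 := by
  classical
  have hpp : p.Prime := hp.out
  have hVnt : Nontrivial V := by
    by_contra hcon
    rw [not_nontrivial_iff_subsingleton] at hcon
    apply hx'
    apply LinearMap.ext
    intro v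
    exact Subsingleton.elim _ _
  haveI : CharP (Module.End F V) p :=
    charP_of_injective_algebraMap (FaithfulSMul.algebraMap_injective F (Module.End F V)) p
  set e := toEquiv ρ with he
  set H := e.range with hH
  let e' : G →* H := e.rangeRestrict
  have he's : Function.Surjective e' := e.rangeRestrict_surjective
  haveI : Finite H := Finite.of_surjective e' he's
  have hsol : IsPSolvable p H := H76.isPSolvable_of_surjective e' he's hG
  have hkere : ∀ g, e' g = 1 ↔ g ∈ ρ.ker := by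
    intro g
    rw [MonoidHom.mem_ker, ← toEquiv_eq_one ρ g, ← he]
    constructor
    · intro h; exact congrArg Subtype.val h
    · intro h; exact Subtype.ext h
  have hOp : pCore p H = ⊥ := by
    have h1 : IsPGroup p (pCore p H) := Solv.pCore_isPGroup p
    haveI h2 : (pCore p H).Normal := Solv.pCore_normal p
    have h3 := hker ((pCore p H).comap e') inferInstance (by
      intro g hg
      rw [mem_comap, (hkere g).2 hg]
      exact one_mem _) (by
      rintro ⟨_, g, hg, rfl⟩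
      obtain ⟨k, hk⟩ := h1 ⟨e' g, hg⟩
      refine ⟨k, ?_⟩
      apply Subtype.ext
      change (QuotientGroup.mk' ρ.ker g) ^ p ^ k = 1
      rw [← map_pow]
      apply (QuotientGroup.eq_one_iff _).2
      rw [← hkere, map_pow]
      exact congrArg Subtype.val hk)
    rw [eq_bot_iff]
    intro h hh
    obtain ⟨g, rfl⟩ := he's h
    rw [mem_bot, hkere]
    exact h3 hh
  have hpow : ∀ k, e x ^ k = 1 ↔ ρ x ^ k = 1 := by
    intro k
    rw [← map_pow, ← map_pow, ← toEquiv_eq_one ρ]
  have hord : orderOf (e x) = p ^ n := by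
    obtain ⟨n', rfl⟩ : ∃ n', n = n' + 1 := ⟨n - 1, by omega⟩
    apply orderOf_eq_prime_pow
    · rw [hpow]
      simpa using hx'
    · rw [hpow]; exact hx
  set T : Module.End F V := ρ x with hT
  have hTn : (T - 1) ^ p ^ n = 0 := by
    rw [sub_pow_char_pow_of_commute _ _ (Commute.one_right _), one_pow, hx, sub_self]
  have hX : (Polynomial.X : Polynomial F) - 1 ≠ 0 := by
    have := Polynomial.X_sub_C_ne_zero (1 : F)
    rwa [Polynomial.C_1] at this
  have hXm : ((Polynomial.X : Polynomial F) - 1).Monic := by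
    have := Polynomial.monic_X_sub_C (1 : F)
    rwa [Polynomial.C_1] at this
  have hXp : Prime ((Polynomial.X : Polynomial F) - 1) := by
    have := Polynomial.prime_X_sub_C (1 : F)
    rwa [Polynomial.C_1] at this
  have hX1 : ((Polynomial.X : Polynomial F) - 1).natDegree = 1 := by
    have := Polynomial.natDegree_X_sub_C (1 : F)
    rwa [Polynomial.C_1] at this
  obtain ⟨r, hr⟩ : ∃ r, minpoly F T = (Polynomial.X - 1) ^ r := by
    have h1 : minpoly F T ∣ (Polynomial.X - 1) ^ (p ^ n) := minpoly.dvd F T (by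
      rw [map_pow, map_sub, Polynomial.aeval_X, map_one, hTn])
    obtain ⟨r, -, hr⟩ := (dvd_prime_pow hXp _).1 h1
    refine ⟨r, Polynomial.eq_of_monic_of_associated (minpoly.monic (Algebra.IsIntegral.isIntegral T))
      (hXm.pow r) hr⟩
  have hle : ∀ m, (T - 1) ^ m = 0 → r ≤ m := by
    intro m hm
    have h1 : minpoly F T ∣ (Polynomial.X - 1) ^ m := minpoly.dvd F T (by
      rw [map_pow, map_sub, Polynomial.aeval_X, map_one, hm])
    rw [hr] at h1
    have h2 := Polynomial.natDegree_le_of_dvd h1 (pow_ne_zero m hX)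
    rw [Polynomial.natDegree_pow, Polynomial.natDegree_pow, hX1, mul_one, mul_one] at h2
    exact h2
  have hp0 : 0 < p ^ n := pow_pos hpp.pos n
  rcases Cfsg.Agent.S0633.result H hsol hOp (e x) ⟨x, rfl⟩ n hord r hr with h1 | ⟨n₀, q, m, hn₀, hn₀n, hq, hm, hpq, hSyl, hr'⟩
  · left
    intro h0
    have := hle _ h0
    omega
  · right
    refine ⟨n₀, q, m, hn₀, hn₀n, hq, hm, hpq, ?_, ?_⟩
    · intro Q hQ
      haveI : Fact q.Prime := ⟨hq⟩
      apply hSyl (Q.mapSurjective he's)
      constructor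
      constructor
      rintro ⟨_, a, ha, rfl⟩ ⟨_, b, hb, rfl⟩
      apply Subtype.ext
      change e' a * e' b = e' b * e' a
      rw [← map_mul, ← map_mul]
      congr 1
      exact congrArg Subtype.val (hQ.is_comm.comm (⟨a, ha⟩ : (Q : Subgroup G)) ⟨b, hb⟩)
    · intro h0
      have := hle _ h0
      have h2 : 0 < p ^ (n - n₀) * (p ^ n₀ - 1) := by
        apply Nat.mul_pos (pow_pos hpp.pos _)
        have : 2 ≤ p ^ n₀ := by
          calc 2 ≤ p := hpp.two_le
            _ = p ^ 1 := (pow_one p).symm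
            _ ≤ p ^ n₀ := Nat.pow_le_pow_right hpp.pos hn₀
        omega
      omega

variable {p : ℕ} [hp : Fact p.Prime] {V : Type*} [AddCommGroup V] [Module (ZMod p) V] [Finite V]

theorem FMod.ker_eq (F : FMod p G V) : F.ρ.ker = pCore p G := by
  ext g
  rw [MonoidHom.mem_ker, F.faithful]

theorem FMod.thmB [Finite G] (F : FMod p G V) (hG : IsPSolvable p G) {x : G} {n : ℕ} (hn : 1 ≤ n)
    (hx : x ^ p ^ n ∈ pCore p G) (hx' : x ^ p ^ (n - 1) ∉ pCore p G) :
    (F.ρ x - 1) ^ (p ^ n - 1) ≠ 0 ∨ ∃ n₀ q m : ℕ, 1 ≤ n₀ ∧ n₀ ≤ n ∧ q.Prime ∧ 1 ≤ m ∧ p ^ n₀ - 1 = q ^ m ∧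
      (∀ Q : Sylow q G, ¬ IsMulCommutative Q) ∧ (F.ρ x - 1) ^ (p ^ (n - n₀) * (p ^ n₀ - 1) - 1) ≠ 0 := by
  have : FiniteDimensional (ZMod p) V := Module.Finite.of_finite
  apply thmB_rep F.ρ hG ?_ hn ?_ ?_
  · intro N hN hle hNp
    rw [F.ker_eq] at hle ⊢
    apply Solv.le_pCore hN
    have h1 : IsPGroup p (F.ρ.ker) := by rw [F.ker_eq]; exact Solv.pCore_isPGroup p
    intro g
    obtain ⟨k, hk⟩ := hNp ⟨QuotientGroup.mk' F.ρ.ker g, ⟨g, g.2, rfl⟩⟩
    have h2 : (g : G) ^ p ^ k ∈ F.ρ.ker := by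
      rw [← QuotientGroup.eq_one_iff]
      have := congrArg Subtype.val hk
      exact this
    obtain ⟨l, hl⟩ := h1 ⟨_, h2⟩
    refine ⟨k + l, ?_⟩
    apply Subtype.ext
    have h3 := congrArg Subtype.val hl
    change ((g : G) ^ p ^ k) ^ p ^ l = 1 at h3
    change (g : G) ^ p ^ (k + l) = 1
    rw [pow_add, pow_mul, h3]
  · rw [← map_pow, F.faithful]; exact hx
  · rw [← map_pow]
    intro h
    exact hx' ((F.faithful _).1 h)

end Cfsg.Agent.HH
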