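import Mathlib

set_option autoImplicit false

/-!
Eigenspaces of an operator of finite order prime to the characteristic.
-/

namespace Cfsg.Agent.HH

open Module
open scoped BigOperators

variable {K : Type*} [Field K] {V : Type*} [AddCommGroup V] [Module K V]

section
variable (T : Module.End K V) {N : ℕ} {ζ : K}

/-- the projection to an eigenspace -/
noncomputable def eproj (T : Module.End K V) (N : ℕ) (z : K) : Module.End K V :=
  (N : K)⁻¹ • ∑ j ∈ Finset.range N, z⁻¹ ^ j • T ^ j

theorem T_mul_eproj (hT : T ^ N = 1) (hN : 0 < N) {z : K} (hz : z ^ N = 1) :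
    T * eproj T N z = z • eproj T N z := by
  have hz0 : z ≠ 0 := by
    rintro rfl
    rw [zero_pow hN.ne'] at hz
    exact zero_ne_one hz
  have hzi : z⁻¹ ^ N = 1 := by rw [inv_pow, hz, inv_one]
  rw [eproj, mul_smul_comm, smul_comm z]
  congr 1
  obtain ⟨M, rfl⟩ : ∃ M, N = M + 1 := ⟨N - 1, by omega⟩
  rw [Finset.mul_sum, Finset.smul_sum, Finset.sum_range_succ, Finset.sum_range_succ']
  congr 1
  · apply Finset.sum_congr rfl
    intro j _
    rw [mul_smul_comm, ← pow_succ', smul_smul, pow_succ' z⁻¹, ← mul_assoc, mul_inv_cancel₀ hz0, one_mul]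
  · rw [mul_smul_comm, ← pow_succ', hT, pow_zero, pow_zero, one_smul]
    have : z = z⁻¹ ^ M := by
      have h1 : z⁻¹ ^ M * z⁻¹ = 1 := by rw [← pow_succ]; exact hzi
      have := eq_inv_of_mul_eq_one_left h1
      rw [this, inv_inv]
    rw [← this]

theorem eproj_apply_of_eig (hNK : (N : K) ≠ 0) {z : K} (hz0 : z ≠ 0) {v : V} (hv : T v = z • v) :
    eproj T N z v = v := by
  have h1 : ∀ j : ℕ, (T ^ j) v = z ^ j • v := by
    intro j
    induction j with
    | zero => simp
    | succ j ih => rw [pow_succ', Module.End.mul_apply, ih, map_smul, hv, smul_smul, pow_succ]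
  rw [eproj, LinearMap.smul_apply, LinearMap.sum_apply]
  have h2 : ∀ j ∈ Finset.range N, (z⁻¹ ^ j • T ^ j) v = v := by
    intro j _
    rw [LinearMap.smul_apply, h1, smul_smul, ← mul_pow, inv_mul_cancel₀ hz0, one_pow, one_smul]
  rw [Finset.sum_congr rfl h2, Finset.sum_const, Finset.card_range, ← Nat.cast_smul_eq_nsmul K, smul_smul,
    inv_mul_cancel₀ hNK, one_smul]

theorem eproj_apply_of_eig_ne (hN : 0 < N) {z w : K} (hz : z ^ N = 1) (hw : w ^ N = 1) (hzw : z ≠ w) {v : V}
    (hv : T v = w • v) : eproj T N z v = 0 := by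
  have hz0 : z ≠ 0 := by
    rintro rfl
    rw [zero_pow hN.ne'] at hz
    exact zero_ne_one hz
  have h1 : ∀ j : ℕ, (T ^ j) v = w ^ j • v := by
    intro j
    induction j with
    | zero => simp
    | succ j ih => rw [pow_succ', Module.End.mul_apply, ih, map_smul, hv, smul_smul, pow_succ]
  rw [eproj, LinearMap.smul_apply, LinearMap.sum_apply]
  have h2 : ∀ j ∈ Finset.range N, (z⁻¹ ^ j • T ^ j) v = (z⁻¹ * w) ^ j • v := by
    intro j _
    rw [LinearMap.smul_apply, h1, smul_smul, ← mul_pow]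
  rw [Finset.sum_congr rfl h2, ← Finset.sum_smul]
  have h3 : (z⁻¹ * w - 1) * ∑ j ∈ Finset.range N, (z⁻¹ * w) ^ j = 0 := by
    rw [mul_geom_sum, mul_pow, inv_pow, hz, hw, inv_one, one_mul, sub_self]
  have h4 : z⁻¹ * w - 1 ≠ 0 := by
    intro h
    apply hzw
    rw [sub_eq_zero] at h
    exact (inv_mul_eq_one₀ hz0).1 h
  rcases mul_eq_zero.1 h3 with h5 | h5
  · exact absurd h5 h4
  · rw [h5, zero_smul, smul_zero]

theorem sum_eproj (hN : 0 < N) (hNK : (N : K) ≠ 0) (hζ : IsPrimitiveRoot ζ N) :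
    ∑ i : Fin N, eproj T N (ζ ^ (i : ℕ)) = 1 := by
  have h0 : ∀ j ∈ Finset.range N, ∑ i : Fin N, (ζ ^ (i : ℕ))⁻¹ ^ j = if j = 0 then (N : K) else 0 := by
    intro j hj
    rw [Finset.mem_range] at hj
    split_ifs with h
    · subst h; simp
    · have h1 : ∀ i : Fin N, (ζ ^ (i : ℕ))⁻¹ ^ j = (ζ⁻¹ ^ j) ^ (i : ℕ) := by
        intro i
        rw [← inv_pow, ← pow_mul, ← pow_mul, mul_comm]
      rw [Finset.sum_congr rfl (fun i _ => h1 i), Fin.sum_univ_eq_sum_range (fun i => (ζ⁻¹ ^ j) ^ i) N]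
      have h2 : (ζ⁻¹ ^ j - 1) * ∑ i ∈ Finset.range N, (ζ⁻¹ ^ j) ^ i = 0 := by
        rw [mul_geom_sum, ← pow_mul, mul_comm j N, pow_mul, inv_pow, hζ.pow_eq_one, inv_one, one_pow, sub_self]
      rcases mul_eq_zero.1 h2 with h3 | h3
      · exfalso
        rw [sub_eq_zero, inv_pow, inv_eq_one] at h3
        exact hζ.pow_ne_one_of_pos_of_lt h hj h3
      · exact h3
  simp only [eproj]
  rw [← Finset.smul_sum, Finset.sum_comm]
  have h1 : ∀ j ∈ Finset.range N, ∑ i : Fin N, (ζ ^ (i : ℕ))⁻¹ ^ j • T ^ j =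
      if j = 0 then (N : K) • (1 : Module.End K V) else 0 := by
    intro j hj
    rw [← Finset.sum_smul, h0 j hj]
    split_ifs with h
    · subst h; rw [pow_zero]
    · rw [zero_smul]
  rw [Finset.sum_congr rfl h1, Finset.sum_ite_eq' (Finset.range N) 0, if_pos (Finset.mem_range.2 hN), smul_smul,
    inv_mul_cancel₀ hNK, one_smul]

end

section
variable [FiniteDimensional K V] (T : Module.End K V) {N : ℕ} {ζ : K}

/-- the eigenspaces -/
abbrev eigs (T : Module.End K V) (ζ : K) (i : ℕ) : Submodule K V := Module.End.eigenspace T (ζ ^ i)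

theorem mem_eigs {T : Module.End K V} {ζ : K} {i : ℕ} {v : V} : v ∈ eigs T ζ i ↔ T v = ζ ^ i • v :=
  Module.End.mem_eigenspace_iff

theorem eigs_internal (hT : T ^ N = 1) (hN : 0 < N) (hNK : (N : K) ≠ 0) (hζ : IsPrimitiveRoot ζ N) :
    DirectSum.IsInternal (fun i : Fin N => eigs T ζ i) := by
  classical
  apply (DirectSum.isInternal_submodule_iff_iSupIndep_and_iSup_eq_top _).2
  constructor
  · have h1 := Module.End.eigenspaces_iSupIndep T
    exact h1.comp (f := fun i : Fin N => ζ ^ (i : ℕ)) (by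
      intro i j hij
      exact Fin.ext (hζ.pow_inj i.2 j.2 hij))
  · rw [eq_top_iff]
    intro v _
    have h1 := congrArg (fun f : Module.End K V => f v) (sum_eproj T hN hNK hζ)
    simp only [LinearMap.sum_apply, Module.End.one_apply] at h1
    rw [← h1]
    apply Submodule.sum_mem
    intro i _
    apply (le_iSup (fun i : Fin N => eigs T ζ i) i)
    rw [mem_eigs, ← Module.End.mul_apply, T_mul_eproj T hT hN (by
      rw [← pow_mul, mul_comm, pow_mul, hζ.pow_eq_one, one_pow]), LinearMap.smul_apply]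

theorem sum_finrank_eigs (hT : T ^ N = 1) (hN : 0 < N) (hNK : (N : K) ≠ 0) (hζ : IsPrimitiveRoot ζ N) :
    ∑ i : Fin N, finrank K (eigs T ζ i) = finrank K V := by
  classical
  have h := eigs_internal T hT hN hNK hζ
  have e := (LinearEquiv.ofBijective (DirectSum.coeLinearMap _) h).finrank_eq
  rw [← e, Module.finrank_directSum]

/-- The commutant of an operator has dimension at least the sum of the squares of the multiplicities. -/
theorem sum_sq_le_commutant (hT : T ^ N = 1) (hN : 0 < N) (hNK : (N : K) ≠ 0) (hζ : IsPrimitiveRoot ζ N)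
    (C : Submodule K (Module.End K V)) (hC : ∀ X : Module.End K V, T * X = X * T → X ∈ C) :
    ∑ i : Fin N, finrank K (eigs T ζ i) ^ 2 ≤ finrank K C := by
  classical
  have hroot : ∀ i : ℕ, (ζ ^ i) ^ N = 1 := fun i => by
    rw [← pow_mul, mul_comm, pow_mul, hζ.pow_eq_one, one_pow]
  have hroot0 : ∀ i : ℕ, ζ ^ i ≠ 0 := fun i => pow_ne_zero _ (hζ.ne_zero hN.ne')
  let π : ∀ i : Fin N, V →ₗ[K] eigs T ζ i := fun i =>
    LinearMap.codRestrict (eigs T ζ i) (eproj T N (ζ ^ (i : ℕ))) (fun v => by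
      rw [mem_eigs, ← Module.End.mul_apply, T_mul_eproj T hT hN (hroot i), LinearMap.smul_apply])
  have hπ1 : ∀ (i : Fin N) (v : eigs T ζ i), π i v = v := by
    intro i v
    apply Subtype.ext
    exact eproj_apply_of_eig T hNK (hroot0 i) (mem_eigs.1 v.2)
  have hπ0 : ∀ (i j : Fin N), i ≠ j → ∀ v : eigs T ζ j, π i v = 0 := by
    intro i j hij v
    apply Subtype.ext
    exact eproj_apply_of_eig_ne T hN (hroot i) (hroot j) (fun h => hij (Fin.ext (hζ.pow_inj i.2 j.2 h)))
      (mem_eigs.1 v.2)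
  let Φ : ((i : Fin N) → Module.End K (eigs T ζ i)) →ₗ[K] Module.End K V :=
    { toFun := fun X => ∑ i : Fin N, (eigs T ζ i).subtype ∘ₗ (X i) ∘ₗ (π i)
      map_add' := by
        intro X Y
        rw [← Finset.sum_add_distrib]
        apply Finset.sum_congr rfl
        intro i _
        apply LinearMap.ext
        intro v
        simp
      map_smul' := by
        intro c X
        rw [RingHom.id_apply, Finset.smul_sum]
        apply Finset.sum_congr rfl
        intro i _
        apply LinearMap.ext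
        intro v
        simp }
  have hΦ : ∀ X v, Φ X v = ∑ i : Fin N, ((X i (π i v) : eigs T ζ i) : V) := by
    intro X v
    change (∑ i : Fin N, (eigs T ζ i).subtype ∘ₗ (X i) ∘ₗ (π i)) v = _
    rw [LinearMap.sum_apply]; rfl
  have hΦe : ∀ X (j : Fin N) (v : eigs T ζ j), Φ X v = (X j v : eigs T ζ j) := by
    intro X j v
    rw [hΦ, Finset.sum_eq_single j]
    · rw [hπ1]
    · intro i _ hij
      rw [hπ0 i j hij, map_zero]; rfl
    · intro h; exact absurd (Finset.mem_univ _) h
  have hΦinj : Function.Injective Φ := by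
    rw [injective_iff_map_eq_zero]
    intro X hX
    funext j
    apply LinearMap.ext
    intro v
    apply Subtype.ext
    rw [← hΦe X j v, hX]; rfl
  have hcomm : ∀ X, T * Φ X = Φ X * T := by
    intro X
    apply LinearMap.ext
    intro v
    have h1 := congrArg (fun f : Module.End K V => f v) (sum_eproj T hN hNK hζ)
    simp only [LinearMap.sum_apply, Module.End.one_apply] at h1
    rw [← h1, map_sum, map_sum]
    apply Finset.sum_congr rfl
    intro i _
    have h2 : eproj T N (ζ ^ (i : ℕ)) v = ((π i v : eigs T ζ i) : V) := rfl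
    rw [h2, Module.End.mul_apply, Module.End.mul_apply, hΦe, mem_eigs.1 (π i v).2, map_smul, hΦe,
      mem_eigs.1 (X i (π i v)).2]
  have h1 : LinearMap.range Φ ≤ C := by
    rintro _ ⟨X, rfl⟩
    exact hC _ (hcomm X)
  have h2 := LinearMap.finrank_range_of_inj hΦinj
  have h3 := Submodule.finrank_mono h1
  rw [h2, Module.finrank_pi_fintype] at h3
  refine le_trans (le_of_eq ?_) h3
  apply Finset.sum_congr rfl
  intro i _
  rw [Module.finrank_linearMap, sq]

end

end Cfsg.Agent.HH
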