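import Mathlib
import Cfsg.Agent.HH.Wt
import Cfsg.Agent.HH.Eig

set_option autoImplicit false

/-!
Irreducible representations whose commutators are scalars, and cyclic groups acting freely.
-/

namespace Cfsg.Agent.HH

open Module
open scoped BigOperators

variable {K : Type*} [Field K] {V : Type*} [AddCommGroup V] [Module K V]
variable {G : Type*} [Group G] {ρ : Representation K G V} {Q : Subgroup G}

theorem rho_ne_zero [Nontrivial V] (ρ : Representation K G V) (g : G) : ρ g ≠ 0 := by
  intro h0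
  have := rho_mul_inv ρ g
  rw [h0, zero_mul] at this
  exact zero_ne_one this

/-- elements in different cosets of the scalars are linearly independent -/
theorem Irr.indep [IsAlgClosed K] [FiniteDimensional K V] (h : Irr ρ Q)
    (hcl : ∀ g ∈ Q, ∀ k ∈ Q, ∃ c : K, ρ (k * g * k⁻¹) = c • ρ g)
    {ι : Type*} (S : Finset ι) (f : ι → G) (hf : ∀ i ∈ S, f i ∈ Q)
    (hne : ∀ i ∈ S, ∀ j ∈ S, i ≠ j → (f i)⁻¹ * f j ∉ scal ρ Q) (a : ι → K)
    (hs : ∑ i ∈ S, a i • ρ (f i) = 0) : ∀ i ∈ S, a i = 0 := by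
  classical
  haveI := h.nt
  -- the weights
  have hex : ∀ i : ι, ∃ c : Q → K, i ∈ S → ∀ k : Q, ρ (k * f i * (k : G)⁻¹) = c k • ρ (f i) := by
    intro i
    by_cases hi : i ∈ S
    · choose c hc using fun k : Q => hcl (f i) (hf i hi) k k.2
      exact ⟨c, fun _ => hc⟩
    · exact ⟨fun _ => 0, fun h => absurd h hi⟩
  choose c hc using hex
  let T : Q → Module.End K (Module.End K V) := fun k =>
    { toFun := fun X => ρ k * X * ρ (k : G)⁻¹
      map_add' := fun X Y => by rw [mul_add, add_mul]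
      map_smul' := fun c X => by rw [mul_smul_comm, smul_mul_assoc]; rfl }
  have hT : ∀ k X, T k X = ρ k * X * ρ (k : G)⁻¹ := fun _ _ => rfl
  have key := indep_weights T c S (fun i => a i • ρ (f i)) (by
    intro i hi j hj hij heq
    apply hne i hi j hj hij
    refine ⟨Q.mul_mem (Q.inv_mem (hf i hi)) (hf j hj), ?_⟩
    apply h.schur
    intro k hk
    have h1 := hc i hi ⟨k, hk⟩
    have h2 := hc j hj ⟨k, hk⟩
    rw [heq] at h1
    simp only at h1 h2
    set z := c j ⟨k, hk⟩
    -- ρ k commutes with ρ (f i)⁻¹ * ρ (f j)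
    have hz : z ≠ 0 := by
      intro h0
      rw [h0, zero_smul] at h1
      exact rho_ne_zero ρ _ h1
    have h3 : ρ (k * ((f i)⁻¹ * f j) * k⁻¹) = ρ ((f i)⁻¹ * f j) := by
      have h4 : k * ((f i)⁻¹ * f j) * k⁻¹ = (k * f i * k⁻¹)⁻¹ * (k * f j * k⁻¹) := by group
      have h5 : ρ (k * f i * k⁻¹)⁻¹ = z⁻¹ • ρ (f i)⁻¹ := by
        have h6 : ρ (k * f i * k⁻¹) * ρ (k * f i * k⁻¹)⁻¹ = 1 := rho_mul_inv _ _
        rw [h1, smul_mul_assoc] at h6
        have h7 : ρ (f i) * ρ (k * f i * k⁻¹)⁻¹ = z⁻¹ • 1 := by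
          rw [← h6, smul_smul, inv_mul_cancel₀ hz, one_smul]
        have h8 : ρ (k * f i * k⁻¹)⁻¹ = ρ (f i)⁻¹ * (ρ (f i) * ρ (k * f i * k⁻¹)⁻¹) := by
          rw [← mul_assoc, rho_inv_mul, one_mul]
        rw [h8, h7, mul_smul_comm, mul_one]
      rw [h4, map_mul, h5, h2, smul_mul_smul_comm, inv_mul_cancel₀ hz, one_smul, ← map_mul]
    have h4 : k * ((f i)⁻¹ * f j) = (k * ((f i)⁻¹ * f j) * k⁻¹) * k := by group
    rw [← map_mul ρ k, h4, map_mul ρ (k * ((f i)⁻¹ * f j) * k⁻¹), h3])
    (by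
      intro i hi k
      rw [hT, mul_smul_comm, smul_mul_assoc, ← map_mul, ← map_mul, hc i hi k, smul_comm]) hs
  intro i hi
  rcases smul_eq_zero.1 (key i hi) with h1 | h1
  · exact h1
  · exact absurd h1 (rho_ne_zero ρ _)

/-- scalars inside `Q` -/
abbrev scalQ (ρ : Representation K G V) (Q : Subgroup G) : Subgroup Q := (scal ρ Q).subgroupOf Q

theorem scal_le : scal ρ Q ≤ Q := fun _ hg => hg.1

theorem scal_normal' {y : G} (hy : ∀ g ∈ Q, y * g * y⁻¹ ∈ Q) : ∀ g ∈ scal ρ Q, y * g * y⁻¹ ∈ scal ρ Q := by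
  rintro g ⟨hg, c, hc⟩
  exact ⟨hy g hg, c, by rw [map_mul, map_mul, hc, mul_smul_comm, mul_one, smul_mul_assoc, rho_mul_inv]⟩

/-- `|Q : scal| = d²` -/
theorem Irr.card_quot [IsAlgClosed K] [FiniteDimensional K V] [Finite Q] (h : Irr ρ Q)
    (hQ : (Nat.card Q : K) ≠ 0)
    (hcl : ∀ g ∈ Q, ∀ k ∈ Q, ∃ c : K, ρ (k * g * k⁻¹) = c • ρ g) :
    Nat.card (Q ⧸ scalQ ρ Q) = finrank K V ^ 2 := by
  classical
  haveI := Fintype.ofFinite Q
  haveI : Finite (Q ⧸ scalQ ρ Q) := inferInstance
  haveI := Fintype.ofFinite (Q ⧸ scalQ ρ Q)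
  let f : (Q ⧸ scalQ ρ Q) → G := fun c => ((Quotient.out c : Q) : G)
  have hf : ∀ g : Q, ((f (QuotientGroup.mk g))⁻¹ * (g : G)) ∈ scal ρ Q := by
    intro g
    have h1 : (Quotient.out (QuotientGroup.mk g : Q ⧸ scalQ ρ Q))⁻¹ * g ∈ scalQ ρ Q :=
      QuotientGroup.eq.1 (Quotient.out_eq _)
    exact h1
  let b : (Q ⧸ scalQ ρ Q) → Module.End K V := fun c => ρ (f c)
  have hli : LinearIndependent K b := by
    rw [linearIndependent_iff']
    intro S a ha i hi
    apply h.indep hcl S f (fun i _ => (Quotient.out i : Q).2) ?_ a ha i hi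
    intro i _ j _ hij hmem
    apply hij
    have h1 : (Quotient.out i : Q)⁻¹ * Quotient.out j ∈ scalQ ρ Q := hmem
    have h2 := QuotientGroup.eq.2 h1
    rw [← Quotient.out_eq i, ← Quotient.out_eq j]
    exact h2
  have hspan : ⊤ ≤ Submodule.span K (Set.range b) := by
    have hg : ∀ g : Q, ρ (g : G) ∈ Submodule.span K (Set.range b) := by
      intro g
      obtain ⟨_, c, hc⟩ := hf g
      have h1 : ρ (g : G) = c • b (QuotientGroup.mk g) := by
        have h2 : (g : G) = f (QuotientGroup.mk g) * ((f (QuotientGroup.mk g))⁻¹ * g) := by group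
        conv_lhs => rw [h2]
        rw [map_mul, hc, mul_smul_comm, mul_one]
      rw [h1]
      exact Submodule.smul_mem _ _ (Submodule.subset_span ⟨_, rfl⟩)
    intro X _
    have h1 := h.expand hQ X
    have hd := h.degree_ne_zero hQ
    have h2 : X = ((Nat.card Q : K) / (finrank K V : K))⁻¹ •
        ∑ g : Q, LinearMap.trace K V (X * ρ (g : G)⁻¹) • ρ (g : G) := by
      rw [h1, smul_smul, inv_mul_cancel₀ (div_ne_zero hQ hd), one_smul]
    rw [h2]
    apply Submodule.smul_mem
    apply Submodule.sum_mem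
    intro g _
    exact Submodule.smul_mem _ _ (hg g)
  have hb := Module.finrank_eq_card_basis (Basis.mk hli hspan)
  rw [Module.finrank_linearMap] at hb
  rw [Nat.card_eq_fintype_card, ← hb, sq]

/-- The commutant of a cyclic group acting freely has dimension at most `(d² + N - 1)/N`. -/
theorem Irr.commutant_le [IsAlgClosed K] [FiniteDimensional K V] [Finite Q] (h : Irr ρ Q)
    (hQ : (Nat.card Q : K) ≠ 0)
    (hcl : ∀ g ∈ Q, ∀ k ∈ Q, ∃ c : K, ρ (k * g * k⁻¹) = c • ρ g)
    (C : Subgroup G) [Finite C] (hNK : (Nat.card C : K) ≠ 0)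
    (hC : ∀ c ∈ C, ∀ g ∈ Q, c * g * c⁻¹ ∈ Q)
    (hfree : ∀ c ∈ C, c ≠ 1 → ∀ g ∈ Q, g⁻¹ * (c * g * c⁻¹) ∈ scal ρ Q → g ∈ scal ρ Q)
    (M : Submodule K (Module.End K V)) (hM : ∀ X ∈ M, ∀ c ∈ C, ρ c * X = X * ρ c) :
    Nat.card C * finrank K M + 1 ≤ finrank K V ^ 2 + Nat.card C := by
  classical
  haveI := Fintype.ofFinite Q
  haveI := Fintype.ofFinite C
  haveI : Finite (Q ⧸ scalQ ρ Q) := inferInstance
  haveI := Fintype.ofFinite (Q ⧸ scalQ ρ Q)
  -- the action on cosets
  have hsc : ∀ c ∈ C, ∀ g ∈ scal ρ Q, c * g * c⁻¹ ∈ scal ρ Q := fun c hc => scal_normal' (hC c hc)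
  let act : C → Q → Q := fun c g => ⟨(c : G) * g * (c : G)⁻¹, hC c c.2 g g.2⟩
  letI : MulAction C (Q ⧸ scalQ ρ Q) :=
    { smul := fun c => Quotient.map' (act c) (by
        intro a b hab
        rw [QuotientGroup.leftRel_apply] at hab ⊢
        have h1 := hsc c c.2 _ hab
        change ((c : G) * a * (c : G)⁻¹)⁻¹ * ((c : G) * b * (c : G)⁻¹) ∈ scal ρ Q
        have h2 : ((c : G) * a * (c : G)⁻¹)⁻¹ * ((c : G) * b * (c : G)⁻¹) =
            (c : G) * ((a : G)⁻¹ * b) * (c : G)⁻¹ := by group
        rw [h2]; exact h1)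
      one_smul := by
        intro x
        induction x using Quotient.inductionOn' with
        | h g =>
          apply congrArg (Quotient.mk'')
          apply Subtype.ext
          change ((1 : C) : G) * g * ((1 : C) : G)⁻¹ = g
          simp
      mul_smul := by
        intro a b x
        induction x using Quotient.inductionOn' with
        | h g =>
          apply congrArg (Quotient.mk'')
          apply Subtype.ext
          change ((a * b : C) : G) * g * ((a * b : C) : G)⁻¹ = (a : G) * ((b : G) * g * (b : G)⁻¹) * (a : G)⁻¹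
          push_cast; group }
  have hsmul : ∀ (c : C) (g : Q), c • (QuotientGroup.mk g : Q ⧸ scalQ ρ Q) = QuotientGroup.mk (act c g) :=
    fun _ _ => rfl
  -- Burnside
  set Ω := MulAction.orbitRel.Quotient C (Q ⧸ scalQ ρ Q) with hΩ
  haveI : Finite Ω := inferInstance
  haveI := Fintype.ofFinite Ω
  have hburn : Fintype.card Ω * Fintype.card C = Fintype.card (Q ⧸ scalQ ρ Q) + (Fintype.card C - 1) := by
    rw [← MulAction.sum_card_fixedBy_eq_card_orbits_mul_card_group C (Q ⧸ scalQ ρ Q)]
    have h1 : ∀ c : C, Fintype.card (MulAction.fixedBy (Q ⧸ scalQ ρ Q) c) =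
        if c = 1 then Fintype.card (Q ⧸ scalQ ρ Q) else 1 := by
      intro c
      split_ifs with hc
      · subst hc
        apply Fintype.card_congr
        exact Equiv.subtypeUnivEquiv (fun x => one_smul _ x)
      · rw [Fintype.card_eq_one_iff]
        refine ⟨⟨QuotientGroup.mk 1, ?_⟩, ?_⟩
        · change c • (QuotientGroup.mk 1 : Q ⧸ scalQ ρ Q) = QuotientGroup.mk 1
          rw [hsmul]
          congr 1
          apply Subtype.ext
          change (c : G) * 1 * (c : G)⁻¹ = 1
          group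
        · rintro ⟨x, hx⟩
          apply Subtype.ext
          induction x using Quotient.inductionOn' with
          | h g =>
            change c • (QuotientGroup.mk g : Q ⧸ scalQ ρ Q) = QuotientGroup.mk g at hx
            rw [hsmul] at hx
            have h2 := QuotientGroup.eq.1 hx.symm
            have h3 : (g : G)⁻¹ * ((c : G) * g * (c : G)⁻¹) ∈ scal ρ Q := h2
            have h4 := hfree c c.2 (fun h => hc (Subtype.ext h)) g g.2 h3
            change (QuotientGroup.mk g : Q ⧸ scalQ ρ Q) = QuotientGroup.mk 1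
            rw [eq_comm, QuotientGroup.eq]
            change ((1 : Q)⁻¹ * g : Q) ∈ scalQ ρ Q
            rw [inv_one, one_mul]
            exact h4
    rw [Finset.sum_congr rfl (fun c _ => h1 c), Finset.sum_ite, Finset.sum_const, Finset.sum_const,
      smul_eq_mul, smul_eq_mul, mul_one]
    have h2 : (Finset.univ.filter (fun c : C => c = 1)).card = 1 := by
      rw [Finset.filter_eq' Finset.univ (1 : C), if_pos (Finset.mem_univ _), Finset.card_singleton]
    have h3 : (Finset.univ.filter (fun c : C => ¬ c = 1)).card = Fintype.card C - 1 := by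
      have h4 := Finset.card_filter_add_card_filter_not (s := (Finset.univ : Finset C)) (fun c => c = 1)
      rw [h2, Finset.card_univ] at h4
      omega
    rw [h2, h3, one_mul]
  -- the averaging operator
  let E : Module.End K V → Module.End K V := fun X => ∑ c : C, ρ (c : G) * X * ρ (c : G)⁻¹
  have hEadd : ∀ X Y, E (X + Y) = E X + E Y := by
    intro X Y
    simp only [E, mul_add, add_mul, Finset.sum_add_distrib]
  have hEsmul : ∀ (a : K) X, E (a • X) = a • E X := by
    intro a X
    simp only [E, mul_smul_comm, smul_mul_assoc, Finset.smul_sum]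
  have hEM : ∀ X ∈ M, X = (Nat.card C : K)⁻¹ • E X := by
    intro X hX
    have h1 : E X = (Nat.card C : K) • X := by
      have h2 : ∀ c : C, ρ (c : G) * X * ρ (c : G)⁻¹ = X := by
        intro c
        rw [hM X hX c c.2, mul_assoc, rho_mul_inv, mul_one]
      simp only [E]
      rw [Finset.sum_congr rfl (fun c _ => h2 c), Finset.sum_const, Finset.card_univ,
        ← Nat.cast_smul_eq_nsmul K, Nat.card_eq_fintype_card]
    rw [h1, smul_smul, inv_mul_cancel₀ hNK, one_smul]
  have hEconj : ∀ (c : C) X, E (ρ (c : G) * X * ρ (c : G)⁻¹) = E X := by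
    intro c X
    simp only [E]
    conv_rhs => rw [← Equiv.sum_comp (Equiv.mulRight c)]
    apply Finset.sum_congr rfl
    intro d _
    change _ = ρ ((d : G) * c) * X * ρ ((d : G) * c)⁻¹
    rw [mul_inv_rev, map_mul, map_mul]
    simp only [mul_assoc]
  -- spanning by orbit representatives
  let rep : Ω → Q := fun o => Quotient.out (Quotient.out o : Q ⧸ scalQ ρ Q)
  have hspan : M ≤ Submodule.span K (Set.range (fun o : Ω => E (ρ (rep o : G)))) := by
    have hg : ∀ g : Q, E (ρ (g : G)) ∈ Submodule.span K (Set.range (fun o : Ω => E (ρ (rep o : G)))) := by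
      intro g
      let o : Ω := Quotient.mk'' (QuotientGroup.mk g : Q ⧸ scalQ ρ Q)
      have h1 : MulAction.orbitRel C (Q ⧸ scalQ ρ Q) (QuotientGroup.mk g) (Quotient.out o) := by
        apply Quotient.exact
        exact (Quotient.out_eq o).symm
      obtain ⟨c, hc⟩ := h1
      -- c • out o = mk g
      have h2 : c • (QuotientGroup.mk (rep o) : Q ⧸ scalQ ρ Q) = QuotientGroup.mk g := by
        have h3 : (QuotientGroup.mk (rep o) : Q ⧸ scalQ ρ Q) = Quotient.out o := Quotient.out_eq _
        rw [h3]; exact hc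
      rw [hsmul] at h2
      have h3 := QuotientGroup.eq.1 h2
      obtain ⟨_, a, ha⟩ : ((act c (rep o) : Q) : G)⁻¹ * (g : G) ∈ scal ρ Q := h3
      have h4 : ρ (g : G) = a • (ρ (c : G) * ρ (rep o : G) * ρ (c : G)⁻¹) := by
        have h5 : (g : G) = ((act c (rep o) : Q) : G) * (((act c (rep o) : Q) : G)⁻¹ * g) := by group
        conv_lhs => rw [h5]
        rw [map_mul, ha, mul_smul_comm, mul_one]
        change a • ρ ((c : G) * rep o * (c : G)⁻¹) = _
        rw [map_mul, map_mul]
      rw [h4, hEsmul, hEconj]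
      exact Submodule.smul_mem _ _ (Submodule.subset_span ⟨o, rfl⟩)
    intro X hX
    have h1 := h.expand hQ X
    have hd := h.degree_ne_zero hQ
    have h2 : X = ((Nat.card Q : K) / (finrank K V : K))⁻¹ •
        ∑ g : Q, LinearMap.trace K V (X * ρ (g : G)⁻¹) • ρ (g : G) := by
      rw [h1, smul_smul, inv_mul_cancel₀ (div_ne_zero hQ hd), one_smul]
    rw [hEM X hX, h2, hEsmul]
    apply Submodule.smul_mem
    apply Submodule.smul_mem
    let E' : Module.End K V →ₗ[K] Module.End K V := { toFun := E, map_add' := hEadd, map_smul' := hEsmul }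
    have h3 : E (∑ g : Q, LinearMap.trace K V (X * ρ (g : G)⁻¹) • ρ (g : G)) =
        ∑ g : Q, LinearMap.trace K V (X * ρ (g : G)⁻¹) • E (ρ (g : G)) := by
      change E' _ = ∑ g : Q, LinearMap.trace K V (X * ρ (g : G)⁻¹) • E' (ρ (g : G))
      rw [map_sum]
      exact Finset.sum_congr rfl (fun g _ => map_smul _ _ _)
    rw [h3]
    apply Submodule.sum_mem
    intro g _
    exact Submodule.smul_mem _ _ (hg g)
  have h1 : finrank K M ≤ Fintype.card Ω := by
    refine (Submodule.finrank_mono hspan).trans ?_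
    exact finrank_range_le_card _
  have h2 := h.card_quot hQ hcl
  rw [Nat.card_eq_fintype_card] at h2
  rw [h2] at hburn
  rw [Nat.card_eq_fintype_card]
  have h3 : 1 ≤ Fintype.card C := Fintype.card_pos
  have h4 : Fintype.card C * finrank K M ≤ Fintype.card C * Fintype.card Ω := Nat.mul_le_mul_left _ h1
  rw [mul_comm (Fintype.card C) (Fintype.card Ω), hburn] at h4
  omega

end Cfsg.Agent.HH
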