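import Mathlib
import Cfsg.Agent.HH.Ext

set_option autoImplicit false

/-!
The critical case in characteristic prime to the order of the group.
-/

namespace Cfsg.Agent.HH

open Module
open scoped BigOperators

variable {K : Type*} [Field K] {V : Type*} [AddCommGroup V] [Module K V]
variable {G : Type*} [Group G] {ρ : Representation K G V} {Q : Subgroup G}

theorem crit_sum_sq [IsAlgClosed K] [FiniteDimensional K V] [Finite Q] (h : Irr ρ Q)
    (hQ : (Nat.card Q : K) ≠ 0)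
    (hcl : ∀ g ∈ Q, ∀ k ∈ Q, ∃ c : K, ρ (k * g * k⁻¹) = c • ρ g)
    {y : G} {N : ℕ} (hy : orderOf y = N) (hNK : (N : K) ≠ 0)
    (hnorm : ∀ c ∈ Subgroup.zpowers y, ∀ g ∈ Q, c * g * c⁻¹ ∈ Q)
    (hfree : ∀ c ∈ Subgroup.zpowers y, c ≠ 1 → ∀ g ∈ Q, g⁻¹ * (c * g * c⁻¹) ∈ scal ρ Q → g ∈ scal ρ Q)
    {ζ : K} (hζ : IsPrimitiveRoot ζ N) :
    ∑ i : Fin N, finrank K (eigs (ρ y) ζ i) = finrank K V ∧
      N * ∑ i : Fin N, finrank K (eigs (ρ y) ζ i) ^ 2 + 1 ≤ finrank K V ^ 2 + N := by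
  have hN0 : N ≠ 0 := by rintro rfl; exact hNK (by simp)
  have hN : 0 < N := Nat.pos_of_ne_zero hN0
  have hfin : IsOfFinOrder y := by rw [← orderOf_pos_iff, hy]; exact hN
  haveI : Finite (Subgroup.zpowers y) := Set.finite_coe_iff.2 (finite_zpowers.2 hfin)
  have hT : (ρ y) ^ N = 1 := by rw [← map_pow, ← hy, pow_orderOf_eq_one, map_one]
  refine ⟨sum_finrank_eigs (ρ y) hT hN hNK hζ, ?_⟩
  let M : Submodule K (Module.End K V) :=
    { carrier := {X | ρ y * X = X * ρ y}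
      add_mem' := by
        intro a b ha hb
        change ρ y * (a + b) = (a + b) * ρ y
        rw [mul_add, add_mul, show ρ y * a = a * ρ y from ha, show ρ y * b = b * ρ y from hb]
      zero_mem' := by
        change ρ y * 0 = 0 * ρ y
        rw [mul_zero, zero_mul]
      smul_mem' := by
        intro c a ha
        change ρ y * (c • a) = (c • a) * ρ y
        rw [mul_smul_comm, smul_mul_assoc, show ρ y * a = a * ρ y from ha] }
  have h1 := sum_sq_le_commutant (ρ y) hT hN hNK hζ M (fun X hX => hX)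
  have hcard : Nat.card (Subgroup.zpowers y) = N := by rw [Nat.card_zpowers, hy]
  have h2 := h.commutant_le hQ hcl (Subgroup.zpowers y) (by rw [hcard]; exact hNK) hnorm hfree M (by
    intro X hX c hc
    obtain ⟨k, hk⟩ := (Submonoid.mem_powers_iff c y).1 (hfin.mem_powers_iff_mem_zpowers.2 hc)
    rw [← hk, map_pow]
    exact (Commute.pow_left (show Commute (ρ y) X from hX) k).eq)
  rw [hcard] at h2
  have h3 : N * ∑ i : Fin N, finrank K (eigs (ρ y) ζ i) ^ 2 ≤ N * finrank K M := Nat.mul_le_mul_left _ h1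
  omega

theorem crit_missing [IsAlgClosed K] [FiniteDimensional K V] [Finite Q] (h : Irr ρ Q)
    (hQ : (Nat.card Q : K) ≠ 0)
    (hcl : ∀ g ∈ Q, ∀ k ∈ Q, ∃ c : K, ρ (k * g * k⁻¹) = c • ρ g)
    {y : G} {N : ℕ} (hy : orderOf y = N) (hNK : (N : K) ≠ 0)
    (hnorm : ∀ c ∈ Subgroup.zpowers y, ∀ g ∈ Q, c * g * c⁻¹ ∈ Q)
    (hfree : ∀ c ∈ Subgroup.zpowers y, c ≠ 1 → ∀ g ∈ Q, g⁻¹ * (c * g * c⁻¹) ∈ scal ρ Q → g ∈ scal ρ Q)
    (hd : 2 ≤ finrank K V) {z : K} (hz : z ^ N = 1) (hmiss : ∀ v, ρ y v = z • v → v = 0) :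
    finrank K V = N - 1 ∧ ∀ w : K, w ^ N = 1 → w ≠ z → finrank K (Module.End.eigenspace (ρ y) w) = 1 := by
  classical
  have hN0 : N ≠ 0 := by rintro rfl; exact hNK (by simp)
  have hN : 0 < N := Nat.pos_of_ne_zero hN0
  haveI : NeZero (N : K) := ⟨hNK⟩
  haveI : NeZero N := ⟨hN0⟩
  obtain ⟨ζ, hζ⟩ := HasEnoughRootsOfUnity.exists_primitiveRoot K N
  obtain ⟨hsum, hsq⟩ := crit_sum_sq h hQ hcl hy hNK hnorm hfree hζ
  obtain ⟨i₀, hi₀N, hi₀⟩ := hζ.eq_pow_of_pow_eq_one hz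
  set d := finrank K V with hdd
  set m : Fin N → ℕ := fun i => finrank K (eigs (ρ y) ζ i) with hm
  have hm0 : m ⟨i₀, hi₀N⟩ = 0 := by
    simp only [hm, Submodule.finrank_eq_zero]
    rw [eq_bot_iff]
    intro v hv
    rw [mem_eigs] at hv
    simp only [hi₀] at hv
    exact hmiss v hv
  set S := Finset.univ.erase (⟨i₀, hi₀N⟩ : Fin N) with hS
  have hScard : S.card = N - 1 := by
    rw [hS, Finset.card_erase_of_mem (Finset.mem_univ _), Finset.card_univ, Fintype.card_fin]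
  have hsum' : ∑ i ∈ S, m i = d := by
    rw [← hsum, ← Finset.add_sum_erase Finset.univ m (Finset.mem_univ ⟨i₀, hi₀N⟩), hm0, zero_add]
  have hsq' : ∑ i ∈ S, m i ^ 2 = ∑ i : Fin N, m i ^ 2 := by
    rw [← Finset.add_sum_erase Finset.univ (fun i => m i ^ 2) (Finset.mem_univ ⟨i₀, hi₀N⟩), hm0]
    simp [hS]
  have hcs : d ^ 2 ≤ (N - 1) * ∑ i ∈ S, m i ^ 2 := by
    rw [← hsum', ← hScard]
    exact sq_sum_le_card_mul_sum_sq
  rw [← hsq'] at hsq
  set s := ∑ i ∈ S, m i ^ 2 with hs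
  obtain ⟨n, rfl⟩ : ∃ n, N = n + 1 := ⟨N - 1, by omega⟩
  rw [Nat.add_sub_cancel] at hcs ⊢
  -- d ≤ n
  have h1 : d ≤ n := by
    have h2 : (n + 1) * d ^ 2 ≤ n * (d ^ 2 + n) := by
      calc (n + 1) * d ^ 2 ≤ (n + 1) * (n * s) := Nat.mul_le_mul_left _ hcs
        _ = n * ((n + 1) * s) := by ring
        _ ≤ n * (d ^ 2 + n) := Nat.mul_le_mul_left _ (by omega)
    have h3 : d ^ 2 ≤ n ^ 2 := by nlinarith
    exact (Nat.pow_le_pow_iff_left two_ne_zero).1 h3
  have hle : d ≤ s := by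
    rw [← hsum']
    exact Finset.sum_le_sum (fun i _ => Nat.le_self_pow two_ne_zero _)
  have h2 : n ≤ d := by
    have h3 : (n + 1) * d ≤ d ^ 2 + n := by
      have : (n + 1) * d ≤ (n + 1) * s := Nat.mul_le_mul_left _ hle
      omega
    by_contra hcon
    push Not at hcon
    obtain ⟨e, rfl⟩ : ∃ e, n = d + 1 + e := ⟨n - (d + 1), by omega⟩
    nlinarith
  have hdn : d = n := le_antisymm h1 h2
  refine ⟨hdn, ?_⟩
  have hsd : s = d := by
    have h3 : (n + 1) * s ≤ d ^ 2 + n := by omega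
    rw [hdn] at h3 hle ⊢
    have h4 : n ^ 2 + n = (n + 1) * n := by ring
    rw [h4] at h3
    exact le_antisymm (Nat.le_of_mul_le_mul_left h3 (by omega)) hle
  -- every multiplicity is at most one
  have hle1 : ∀ i ∈ S, m i ≤ 1 := by
    intro i hi
    by_contra hcon
    push Not at hcon
    have h3 : ∑ i ∈ S, m i < ∑ i ∈ S, m i ^ 2 := by
      apply Finset.sum_lt_sum (fun i _ => Nat.le_self_pow two_ne_zero _)
      exact ⟨i, hi, by nlinarith⟩
    rw [hsum', ← hs, hsd] at h3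
    exact lt_irrefl _ h3
  have heq1 : ∀ i ∈ S, m i = 1 := by
    intro i hi
    by_contra hcon
    have h3 : ∑ i ∈ S, m i < ∑ i ∈ S, 1 := by
      apply Finset.sum_lt_sum hle1
      exact ⟨i, hi, lt_of_le_of_ne (hle1 i hi) hcon⟩
    rw [hsum', Finset.sum_const, hScard, smul_eq_mul, mul_one, Nat.add_sub_cancel, hdn] at h3
    exact lt_irrefl _ h3
  intro w hw hwz
  obtain ⟨i, hiN, rfl⟩ := hζ.eq_pow_of_pow_eq_one hw
  apply heq1 ⟨i, hiN⟩
  rw [hS, Finset.mem_erase]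
  refine ⟨?_, Finset.mem_univ _⟩
  intro h3
  apply hwz
  rw [← hi₀]
  congr 1
  exact congrArg Fin.val h3

end Cfsg.Agent.HH
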