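import Mathlib
import Cfsg.Agent.HH.Wt

set_option autoImplicit false

/-!
Weight spaces and cyclic imprimitivity, with full independence of the translates.
-/

namespace Cfsg.Agent.HH

open Module
open scoped BigOperators

variable {K : Type*} [Field K] {V : Type*} [AddCommGroup V] [Module K V]
variable {G : Type*} [Group G] {ρ : Representation K G V}

/-- The weight step. -/
theorem IrrOn.weight_step' [IsAlgClosed K] [FiniteDimensional K V] {p : ℕ} [hp : Fact p.Prime]
    {U : Submodule K V} {Q A : Subgroup G} {y : G} {n : ℕ} (h : IrrOn ρ Q y U) (hy : y ^ p ^ n = 1)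
    (hyQ : ∀ g ∈ Q, y⁻¹ * g * y ∈ Q) (hAQ : A ≤ Q) (hyA : ∀ a ∈ A, y⁻¹ * a * y ∈ A)
    (hcomm : ∀ a ∈ A, ∀ g ∈ Q, ∀ w ∈ U, ρ a (ρ g w) = ρ g (ρ a w)) :
    ∃ k ≤ n, ∃ U' ≤ U, IrrOn ρ Q (y ^ p ^ k) U' ∧ (∀ a ∈ A, ∃ c : K, ∀ w ∈ U', ρ a w = c • w) ∧
      (∀ w : ℕ → V, (∀ j, w j ∈ U') → ∑ j ∈ Finset.range (p ^ k), ρ (y ^ j) (w j) = 0 →
        ∀ j ∈ Finset.range (p ^ k), w j = 0) := by
  classical
  obtain ⟨W₀, hW₀U, hW₀, hW₀inv, hW₀min⟩ := exists_min_inv ρ Q h.ne h.invQ
  have hχ : ∀ a : A, ∃ c : K, ∀ w ∈ W₀, ρ a w = c • w := fun a =>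
    schur_min hW₀ hW₀inv hW₀min (ρ a) (fun w hw => hW₀inv a (hAQ a.2) w hw)
      (fun g hg w hw => hcomm a a.2 g hg w (hW₀U hw))
  choose χ hχ using hχ
  let f : (A → K) → (A → K) := fun χ a => χ ⟨y⁻¹ * a * y, hyA a a.2⟩
  -- iterates of conjugation
  have hyAj : ∀ (j : ℕ) (a : A), (y ^ j)⁻¹ * a * y ^ j ∈ A := by
    intro j
    induction j with
    | zero => intro a; simp
    | succ j ih =>
      intro a
      have h1 := ih ⟨y⁻¹ * a * y, hyA a a.2⟩
      have h2 : (y ^ (j + 1))⁻¹ * (a : G) * y ^ (j + 1) = (y ^ j)⁻¹ * (y⁻¹ * a * y) * y ^ j := by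
        rw [pow_succ']; group
      rw [h2]; exact h1
  have hfj : ∀ (j : ℕ) (ψ : A → K) (a : A), (f^[j] ψ) a = ψ ⟨(y ^ j)⁻¹ * a * y ^ j, hyAj j a⟩ := by
    intro j
    induction j with
    | zero => intro ψ a; simp
    | succ j ih =>
      intro ψ a
      rw [Function.iterate_succ_apply, ih]
      change ψ _ = ψ _
      congr 1
      apply Subtype.ext
      change y⁻¹ * ((y ^ j)⁻¹ * (a : G) * y ^ j) * y = (y ^ (j + 1))⁻¹ * a * y ^ (j + 1)
      rw [pow_succ]; group
  have hyQj : ∀ (j : ℕ), ∀ g ∈ Q, (y ^ j)⁻¹ * g * y ^ j ∈ Q := by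
    intro j
    induction j with
    | zero => intro a ha; simpa using ha
    | succ j ih =>
      intro a ha
      have h1 := ih _ (hyQ a ha)
      have h2 : (y ^ (j + 1))⁻¹ * (a : G) * y ^ (j + 1) = (y ^ j)⁻¹ * (y⁻¹ * a * y) * y ^ j := by
        rw [pow_succ']; group
      rw [h2]; exact h1
  have hper : Function.IsPeriodicPt f (p ^ n) χ := by
    change f^[p ^ n] χ = χ
    funext a
    rw [hfj]
    congr 1
    apply Subtype.ext
    change (y ^ p ^ n)⁻¹ * (a : G) * y ^ p ^ n = a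
    rw [hy]; simp
  set d := Function.minimalPeriod f χ with hd
  obtain ⟨k, hk, hdk⟩ := (Nat.dvd_prime_pow hp.out).1 hper.minimalPeriod_dvd
  rw [← hd] at hdk
  have hdpos : 0 < d := by rw [hdk]; exact pow_pos hp.out.pos k
  -- the weight spaces
  let E : ℕ → Submodule K V := fun j =>
    { carrier := {w | w ∈ U ∧ ∀ a : A, ρ a w = (f^[j] χ) a • w}
      add_mem' := by
        rintro v w ⟨hv, hv'⟩ ⟨hw, hw'⟩
        exact ⟨U.add_mem hv hw, fun a => by rw [map_add, hv', hw', smul_add]⟩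
      zero_mem' := ⟨U.zero_mem, fun a => by rw [map_zero, smul_zero]⟩
      smul_mem' := by
        rintro c v ⟨hv, hv'⟩
        exact ⟨U.smul_mem c hv, fun a => by rw [map_smul, hv', smul_comm]⟩ }
  have hEmem : ∀ (j : ℕ) (w : V), w ∈ E j ↔ w ∈ U ∧ ∀ a : A, ρ a w = (f^[j] χ) a • w := fun _ _ => Iff.rfl
  have hEy : ∀ j w, w ∈ E j → ρ y w ∈ E (j + 1) := by
    rintro j w ⟨hw, hw'⟩
    refine ⟨h.invy w hw, fun a => ?_⟩
    rw [Function.iterate_succ_apply']
    change _ = (f^[j] χ) ⟨y⁻¹ * a * y, hyA a a.2⟩ • _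
    have h1 : ρ a (ρ y w) = ρ y (ρ (y⁻¹ * a * y) w) := by
      rw [← rho_mul, ← rho_mul]; congr 2; group
    have h2 := hw' ⟨y⁻¹ * a * y, hyA a a.2⟩
    change ρ (y⁻¹ * a * y) w = _ at h2
    rw [h1, h2, map_smul]
  have hEyj : ∀ j w, w ∈ E 0 → ρ (y ^ j) w ∈ E j := by
    intro j w hw
    induction j with
    | zero => rw [pow_zero, map_one]; exact hw
    | succ j ih => rw [pow_succ', rho_mul]; exact hEy j _ ih
  have hEd : E d = E 0 := by
    have : f^[d] χ = f^[0] χ := by rw [Function.iterate_minimalPeriod]; rfl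
    ext w
    rw [hEmem, hEmem, this]
  have hE0Q : ∀ g ∈ Q, ∀ w ∈ E 0, ρ g w ∈ E 0 := by
    rintro g hg w ⟨hw, hw'⟩
    refine ⟨h.invQ g hg w hw, fun a => ?_⟩
    rw [hcomm a a.2 g hg w hw, hw' a, map_smul]
  have hE0 : E 0 ≠ ⊥ := by
    intro h0
    apply hW₀
    rw [eq_bot_iff, ← h0]
    intro w hw
    exact ⟨hW₀U hw, fun a => hχ a w hw⟩
  -- independence
  have hind : ∀ w : ℕ → V, (∀ j, w j ∈ E 0) → ∑ j ∈ Finset.range d, ρ (y ^ j) (w j) = 0 →
      ∀ j ∈ Finset.range d, w j = 0 := by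
    intro w hw hs j hj
    have h1 := indep_weights (fun a : A => ρ (a : G)) (fun j => f^[j] χ) (Finset.range d)
      (fun j => ρ (y ^ j) (w j)) (by
        intro i hi j hj hij heq
        apply hij
        rw [Finset.mem_range] at hi hj
        exact Function.iterate_injOn_Iio_minimalPeriod hi hj heq) (by
        intro i _ a
        exact (hEyj i _ (hw i)).2 a) hs j hj
    rw [← rho_inv_apply ρ (y ^ j) (w j), h1, map_zero]
  refine ⟨k, hk, E 0, fun w hw => hw.1, ⟨hE0, hE0Q, ?_, ?_⟩, ?_, ?_⟩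
  · intro w hw
    have := hEyj d w hw
    rw [hEd, hdk] at this
    exact this
  · -- irreducibility
    intro W hWE hWQ hWy
    by_cases hW : W = ⊥
    · exact Or.inl hW
    right
    apply le_antisymm hWE
    let M : Submodule K V :=
      { carrier := {v | ∃ w : ℕ → V, (∀ j, w j ∈ W) ∧ v = ∑ j ∈ Finset.range d, ρ (y ^ j) (w j)}
        add_mem' := by
          rintro _ _ ⟨w, hw, rfl⟩ ⟨w', hw', rfl⟩
          refine ⟨fun j => w j + w' j, fun j => W.add_mem (hw j) (hw' j), ?_⟩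
          rw [← Finset.sum_add_distrib]
          exact Finset.sum_congr rfl (fun j _ => (map_add _ _ _).symm)
        zero_mem' := ⟨fun _ => 0, fun _ => W.zero_mem, by simp⟩
        smul_mem' := by
          rintro c _ ⟨w, hw, rfl⟩
          refine ⟨fun j => c • w j, fun j => W.smul_mem c (hw j), ?_⟩
          rw [Finset.smul_sum]
          exact Finset.sum_congr rfl (fun j _ => (map_smul _ _ _).symm) }
    have hMmem : ∀ v, v ∈ M ↔ ∃ w : ℕ → V, (∀ j, w j ∈ W) ∧ v = ∑ j ∈ Finset.range d, ρ (y ^ j) (w j) :=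
      fun _ => Iff.rfl
    have hyjU : ∀ j, ∀ w ∈ U, ρ (y ^ j) w ∈ U := by
      intro j w hw
      induction j with
      | zero => rw [pow_zero, map_one]; exact hw
      | succ j ih => rw [pow_succ', rho_mul]; exact h.invy _ ih
    have hMU : M ≤ U := by
      rintro v ⟨w, hw, rfl⟩
      exact U.sum_mem (fun j _ => hyjU j _ (hWE (hw j)).1)
    have hWM : W ≤ M := by
      intro w hw
      refine ⟨fun j => if j = 0 then w else 0, fun j => by dsimp only; split_ifs; exacts [hw, W.zero_mem], ?_⟩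
      rw [Finset.sum_eq_single 0]
      · simp
      · intro j _ hj; simp [hj]
      · intro h0; exact absurd (Finset.mem_range.2 hdpos) h0
    have hMtop : M = U := by
      rcases h.irr M hMU (by
        rintro g hg v ⟨w, hw, rfl⟩
        refine ⟨fun j => ρ ((y ^ j)⁻¹ * g * y ^ j) (w j), fun j => hWQ _ (hyQj j g hg) _ (hw j), ?_⟩
        rw [map_sum]
        apply Finset.sum_congr rfl
        intro j _
        rw [← rho_mul, ← rho_mul]; congr 2; group) (by
        rintro v ⟨w, hw, rfl⟩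
        refine ⟨fun j => if j = 0 then ρ (y ^ d) (w (d - 1)) else w (j - 1), fun j => by
          dsimp only
          split_ifs
          · rw [hdk]; exact hWy _ (hw _)
          · exact hw _, ?_⟩
        obtain ⟨d', hd'⟩ : ∃ d', d = d' + 1 := ⟨d - 1, by omega⟩
        rw [hd', map_sum, Finset.sum_range_succ, Finset.sum_range_succ']
        simp only [Nat.add_sub_cancel, if_true, pow_zero, map_one, Module.End.one_apply, Nat.succ_ne_zero,
          if_false]
        rw [← rho_mul, ← pow_succ']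
        congr 1
        apply Finset.sum_congr rfl
        intro j _
        rw [← rho_mul, ← pow_succ']) with h1 | h1
      · exact absurd (eq_bot_iff.2 (hWM.trans h1.le)) hW
      · exact h1
    intro e he
    have heM : e ∈ M := by rw [hMtop]; exact he.1
    obtain ⟨w, hw, hew⟩ := heM
    have h1 := hind (fun j => if j = 0 then w 0 - e else w j) (by
      intro j
      split_ifs
      · exact (E 0).sub_mem (hWE (hw 0)) he
      · exact hWE (hw j)) (by
      obtain ⟨d', hd'⟩ : ∃ d', d = d' + 1 := ⟨d - 1, by omega⟩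
      rw [hd', Finset.sum_range_succ'] at hew ⊢
      simp only [if_true, pow_zero, map_one, Module.End.one_apply, Nat.succ_ne_zero, if_false] at hew ⊢
      rw [← add_sub_assoc, ← hew, sub_self]) 0 (Finset.mem_range.2 hdpos)
    simp only [if_true, sub_eq_zero] at h1
    rw [← h1]; exact hw 0
  · intro a ha
    exact ⟨χ ⟨a, ha⟩, fun w hw => hw.2 ⟨a, ha⟩⟩
  · intro w hw hs j hj
    rw [← hdk] at hs hj
    exact hind w hw hs j hj

/-- Lifting an eigenvector through a cyclic system of imprimitivity. -/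
theorem eig_lift {p : ℕ} [hp : Fact p.Prime] {U : Submodule K V} {y : G} {k : ℕ}
    (hind : ∀ w : ℕ → V, (∀ j, w j ∈ U) → ∑ j ∈ Finset.range (p ^ k), ρ (y ^ j) (w j) = 0 →
        ∀ j ∈ Finset.range (p ^ k), w j = 0) {z : K} (hz : z ≠ 0) {u : V} (hu : u ∈ U) (hu0 : u ≠ 0)
    (hyu : ρ (y ^ p ^ k) u = z ^ p ^ k • u) :
    ∑ j ∈ Finset.range (p ^ k), z⁻¹ ^ j • ρ (y ^ j) u ≠ 0 ∧
      ρ y (∑ j ∈ Finset.range (p ^ k), z⁻¹ ^ j • ρ (y ^ j) u) =
        z • ∑ j ∈ Finset.range (p ^ k), z⁻¹ ^ j • ρ (y ^ j) u := by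
  have hpos : 0 < p ^ k := pow_pos hp.out.pos k
  constructor
  · intro h0
    have h1 := hind (fun j => z⁻¹ ^ j • u) (fun j => U.smul_mem _ hu) (by
      rw [← h0]
      exact Finset.sum_congr rfl (fun j _ => map_smul _ _ _)) 0 (Finset.mem_range.2 hpos)
    simp only [pow_zero, one_smul] at h1
    exact hu0 h1
  · obtain ⟨M, hM⟩ : ∃ M, p ^ k = M + 1 := ⟨p ^ k - 1, by omega⟩
    rw [hM] at hyu ⊢
    rw [map_sum, Finset.smul_sum, Finset.sum_range_succ, Finset.sum_range_succ']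
    congr 1
    · apply Finset.sum_congr rfl
      intro j _
      rw [map_smul, ← rho_mul, ← pow_succ', smul_smul, pow_succ' z⁻¹, ← mul_assoc, mul_inv_cancel₀ hz, one_mul]
    · rw [map_smul, ← rho_mul, ← pow_succ', hyu, smul_smul, pow_zero, pow_zero, one_smul, map_one,
        Module.End.one_apply, pow_succ, ← mul_assoc, ← mul_pow, inv_mul_cancel₀ hz, one_pow, one_mul]

end Cfsg.Agent.HH
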