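import Mathlib
import Cfsg.Agent.HH.CoreC
import Cfsg.Agent.HH.GroupB

set_option autoImplicit false

/-!
Group theory for the coprime theorem.
-/

namespace Cfsg.Agent.HH

open Module
open scoped BigOperators commutatorElement TensorProduct

universe u v w

variable {K : Type w} [Field K] {V : Type v} [AddCommGroup V] [Module K V]
variable {G : Type u} [Group G]

/-- A minimal configuration. -/
structure MinQ (x : G) (p n q : ℕ) (L Q : Subgroup G) : Prop where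
  ne : p ≠ q
  isP : IsPGroup q Q
  le : Q ≤ L
  norm : x ∈ Subgroup.normalizer (Q : Set G)
  comm : ⁅Q, Subgroup.zpowers (x ^ p ^ (n - 1))⁆ = Q
  nt : Q ≠ ⊥
  cent : ∀ g ∈ Q, Commute (x ^ p ^ (n - 1)) g → ∀ h ∈ Q, g * h = h * g
  class2 : ∀ g ∈ Q, ∀ h ∈ Q, ∀ k ∈ Q, ⁅g, h⁆ * k = k * ⁅g, h⁆
  min : ∀ U : Subgroup G, U < Q → x ∈ Subgroup.normalizer (U : Set G) →
    ⁅U, Subgroup.zpowers (x ^ p ^ (n - 1))⁆ = ⊥

theorem exists_minQ [Finite G] {p : ℕ} [hp : Fact p.Prime] (L : Subgroup G) (hL : (Nat.card L).Coprime p)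
    {x : G} {n : ℕ} (hx : orderOf x = p ^ n) (hxL : x ∈ Subgroup.normalizer (L : Set G))
    (hnt : ⁅L, Subgroup.zpowers (x ^ p ^ (n - 1))⁆ ≠ ⊥) :
    ∃ (q : ℕ) (_ : Fact q.Prime) (Q : Subgroup G), MinQ x p n q L Q := by
  obtain ⟨q, hq, Q, h1, h2, h3, h4, h5, h6, h7, h8, h9⟩ := exists_min_q L hL hx hxL hnt
  exact ⟨q, hq, Q, h1, h2, h3, h4, h5, h6, h7, h8, h9⟩

/-- all eigenvalues occur or the exceptional case, over an algebraically closed field -/
theorem all_or_exc [Finite G] [IsAlgClosed K] [FiniteDimensional K V] {ρ : Representation K G V}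
    {p q n : ℕ} [hp : Fact p.Prime] [hq : Fact q.Prime] {x : G} {Q : Subgroup G} (hne : p ≠ q)
    (hQ : IsPGroup q Q) (hxQ : x ∈ Subgroup.normalizer (Q : Set G))
    (hcomm : ⁅Q, Subgroup.zpowers (x ^ p ^ (n - 1))⁆ = Q)
    (hcent : ∀ g ∈ Q, Commute (x ^ p ^ (n - 1)) g → ∀ h ∈ Q, g * h = h * g)
    (hcl : ∀ g ∈ Q, ∀ h ∈ Q, ∀ k ∈ Q, ⁅g, h⁆ * k = k * ⁅g, h⁆)
    (hx : orderOf x = p ^ n) (hqK : (q : K) ≠ 0) (hpK : (p : K) ≠ 0)
    (hnt : ∃ g ∈ Q, ρ g ≠ 1) :
    (∀ z : K, z ^ p ^ n = 1 → ∃ v : V, v ≠ 0 ∧ ρ x v = z • v) ∨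
      ∃ (W : Submodule K V) (k₁ n₀ b : ℕ) (U : Submodule K V) (R : Subgroup G), IrrOn ρ Q x W ∧
        (∀ w ∈ W, (∀ g ∈ Q, ρ g w = w) → w = 0) ∧ ExcData ρ Q x p n q W k₁ n₀ b U R := by
  have hQK : (Nat.card Q : K) ≠ 0 := by
    obtain ⟨k, hk⟩ := IsPGroup.iff_card.1 hQ
    rw [hk, Nat.cast_pow]
    exact pow_ne_zero _ hqK
  obtain ⟨V', hV'0, hV'Q, hV'x, hV'fix⟩ := exists_nofix ρ Q hQK x
    (fun g hg => (Subgroup.mem_normalizer_iff.1 hxQ g).1 hg)
    (fun g hg => (Subgroup.mem_normalizer_iff''.1 hxQ g).1 hg) hnt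
  obtain ⟨W, hWV', hW⟩ := exists_irrOn ρ Q x hV'0 hV'Q hV'x
  rcases core_C hne hqK hpK hQ hx hxQ hcomm hcent hcl hW (fun w hw => hV'fix w (hWV' hw)) with h1 | h1
  · left
    intro z hz
    obtain ⟨v, -, hv⟩ := h1 z hz
    exact ⟨v, hv⟩
  · right
    obtain ⟨k₁, n₀, b, U, R, hE⟩ := h1
    exact ⟨W, k₁, n₀, b, U, R, hW, fun w hw => hV'fix w (hWV' hw), hE⟩

theorem exists_ne_of_injective {ρ : Representation K G V} (hinj : Function.Injective ρ) {Q : Subgroup G}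
    (hQ : Q ≠ ⊥) : ∃ g ∈ Q, ρ g ≠ 1 := by
  obtain ⟨g, hg⟩ := Subgroup.ne_bot_iff_exists_ne_one.1 hQ
  refine ⟨g, g.2, ?_⟩
  intro h0
  apply hg
  apply Subtype.ext
  exact hinj (by rw [h0, Subgroup.coe_one, map_one])

theorem MinQ.all_or_exc [Finite G] [IsAlgClosed K] [FiniteDimensional K V] {ρ : Representation K G V}
    {p q n : ℕ} [hp : Fact p.Prime] [hq : Fact q.Prime] {x : G} {L Q : Subgroup G} (h : MinQ x p n q L Q)
    (hx : orderOf x = p ^ n) (hqK : (q : K) ≠ 0) (hpK : (p : K) ≠ 0)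
    (hinj : Function.Injective ρ) :
    (∀ z : K, z ^ p ^ n = 1 → ∃ v : V, v ≠ 0 ∧ ρ x v = z • v) ∨
      ∃ (W : Submodule K V) (k₁ n₀ b : ℕ) (U : Submodule K V) (R : Subgroup G), IrrOn ρ Q x W ∧
        (∀ w ∈ W, (∀ g ∈ Q, ρ g w = w) → w = 0) ∧ ExcData ρ Q x p n q W k₁ n₀ b U R :=
  Cfsg.Agent.HH.all_or_exc h.ne h.isP h.norm h.comm h.cent h.class2 hx hqK hpK
    (exists_ne_of_injective hinj h.nt)

theorem ExcData.noncomm {ρ : Representation K G V} {Q R : Subgroup G} {x : G} {p n q k₁ n₀ b : ℕ}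
    {W U : Submodule K V} (h : ExcData ρ Q x p n q W k₁ n₀ b U R) : ∃ g ∈ Q, ∃ k ∈ Q, g * k ≠ k * g := by
  obtain ⟨g, hg, hgR⟩ := h.neR
  rw [h.memR] at hgR
  push Not at hgR
  obtain ⟨k, hk, w, -, hne⟩ := hgR hg
  refine ⟨g, hg, k, hk, fun hcomm => hne ?_⟩
  rw [← rho_mul, ← rho_mul, hcomm]

/-- in the exceptional case with `p` odd, `q = 2` -/
theorem ExcData.q_eq {ρ : Representation K G V} {Q R : Subgroup G} {x : G} {p n q k₁ n₀ b : ℕ}
    [hp : Fact p.Prime] [hq : Fact q.Prime]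
    {W U : Submodule K V} (h : ExcData ρ Q x p n q W k₁ n₀ b U R) (hp2 : p ≠ 2) : q = 2 := by
  have hodd : Odd (p ^ n₀) := (hp.out.odd_of_ne_two hp2).pow
  have h2 : 2 ∣ q ^ b := by
    rw [← h.eq]
    obtain ⟨c, hc⟩ := hodd
    exact ⟨c, by omega⟩
  exact ((Nat.prime_dvd_prime_iff_eq Nat.prime_two hq.out).1 (Nat.prime_two.dvd_of_dvd_pow h2)).symm

/-- base change of a representation to the algebraic closure -/
noncomputable def bc (F : Type w) [Field F] {V : Type v} [AddCommGroup V] [Module F V]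
    (ρ : Representation F G V) : Representation (AlgebraicClosure F) G (AlgebraicClosure F ⊗[F] V) :=
  ((Module.End.baseChangeHom F (AlgebraicClosure F) V) :
    Module.End F V →* Module.End (AlgebraicClosure F) (AlgebraicClosure F ⊗[F] V)).comp ρ

theorem bc_apply (F : Type w) [Field F] {V : Type v} [AddCommGroup V] [Module F V]
    (ρ : Representation F G V) (g : G) :
    bc F ρ g = Module.End.baseChangeHom F (AlgebraicClosure F) V (ρ g) := rfl

theorem bc_injective (F : Type w) [Field F] {V : Type v} [AddCommGroup V] [Module F V]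
    (ρ : Representation F G V) (h : Function.Injective ρ) : Function.Injective (bc F ρ) := by
  intro a b hab
  apply h
  apply LinearMap.ext
  intro v
  have h1 := congrArg (fun f : Module.End (AlgebraicClosure F) (AlgebraicClosure F ⊗[F] V) => f (1 ⊗ₜ v)) hab
  have h2 : (1 : AlgebraicClosure F) ⊗ₜ[F] (ρ a v) = (1 : AlgebraicClosure F) ⊗ₜ[F] (ρ b v) := h1
  exact (Module.FaithfullyFlat.tensorProduct_mk_injective (A := F) (B := AlgebraicClosure F) V) h2

/-- fixed vectors descend -/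
theorem bc_fixed (F : Type w) [Field F] {V : Type v} [AddCommGroup V] [Module F V] [FiniteDimensional F V]
    (ρ : Representation F G V) (x : G) (z : F) {v : AlgebraicClosure F ⊗[F] V} (hv : v ≠ 0)
    (hxv : bc F ρ x v = (algebraMap F (AlgebraicClosure F) z) • v) : ∃ w : V, w ≠ 0 ∧ ρ x w = z • w := by
  by_contra hcon
  push Not at hcon
  have hinj : Function.Injective (ρ x - z • (1 : Module.End F V)) := by
    rw [injective_iff_map_eq_zero]
    intro w hw
    by_contra hw0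
    apply hcon w hw0
    rw [LinearMap.sub_apply, LinearMap.smul_apply, Module.End.one_apply, sub_eq_zero] at hw
    exact hw
  have hunit : IsUnit (ρ x - z • (1 : Module.End F V)) := by
    rw [Module.End.isUnit_iff]
    exact ⟨hinj, LinearMap.injective_iff_surjective.1 hinj⟩
  have h2 := hunit.map (Module.End.baseChangeHom F (AlgebraicClosure F) V)
  rw [Module.End.isUnit_iff] at h2
  apply hv
  apply h2.1
  rw [map_zero, map_sub, map_smul, map_one, LinearMap.sub_apply, ← bc_apply, hxv, LinearMap.smul_apply,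
    Module.End.one_apply, algebraMap_smul, sub_self]

theorem cast_ne_zero_bc {ℓ q : ℕ} [hl : Fact ℓ.Prime] (hq : q.Prime) (h : ℓ ≠ q) :
    (q : AlgebraicClosure (ZMod ℓ)) ≠ 0 := by
  haveI : CharP (AlgebraicClosure (ZMod ℓ)) ℓ :=
    charP_of_injective_algebraMap (algebraMap (ZMod ℓ) (AlgebraicClosure (ZMod ℓ))).injective ℓ
  intro h0
  rw [CharP.cast_eq_zero_iff (AlgebraicClosure (ZMod ℓ)) ℓ] at h0
  exact h ((Nat.prime_dvd_prime_iff_eq hl.out hq).1 h0)

theorem exists_zpowers_of_card_prime {X : Type*} [Group X] {H : Subgroup X} {r : ℕ} [hr : Fact r.Prime]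
    (h : Nat.card H = r) : ∃ x ∈ H, orderOf x = r ∧ Subgroup.zpowers x = H := by
  haveI : Finite H := Nat.finite_of_card_ne_zero (by rw [h]; exact hr.out.ne_zero)
  obtain ⟨x, hx⟩ := exists_prime_orderOf_dvd_card' (G := H) r (by rw [h])
  refine ⟨x, x.2, by rw [Subgroup.orderOf_coe, hx], ?_⟩
  apply Subgroup.eq_of_le_of_card_ge
  · rw [Subgroup.zpowers_le]; exact x.2
  · rw [Nat.card_zpowers, Subgroup.orderOf_coe, hx, h]

end Cfsg.Agent.HH
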