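import Mathlib
import Cfsg.Agent.BG3.Section

set_option autoImplicit false

/-!
Quadratic elements of order three and quaternion groups.
-/

namespace Cfsg.Agent.HH

open Subgroup

universe u v

/-- A quadratic element of order three permuting the quaternion units cyclically is determined. -/
theorem quat_eq {R : Type*} [Ring R] (h3 : (3 : R) = 0) {I J K a : R}
    (hII : I * I = -1) (hJJ : J * J = -1) (hKK : K * K = -1)
    (hIJ : I * J = -K) (hJI : J * I = K) (hJK : J * K = -I) (hKJ : K * J = I) (hKI : K * I = -J) (hIK : I * K = J)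
    (haI : a * I = J * a) (haJ : a * J = K * a) (haK : a * K = I * a) (ha : (a - 1) * (a - 1) = 0) :
    a = 1 - I - J - K := by
  have h2 : (2 : R) = -1 := by
    have : (2 : R) + 1 = 0 := by rw [← h3]; norm_num
    exact eq_neg_of_add_eq_zero_left this
  set u := 1 - I - J - K with hu
  set w := 1 + I + J + K with hw
  set S := I + J + K with hS
  have hSS : S * S = 0 := by
    have : S * S = -3 := by
      rw [hS]
      simp only [add_mul, mul_add, hII, hJJ, hKK, hIJ, hJI, hJK, hKJ, hKI, hIK]
      have : (3 : R) = 1 + 1 + 1 := by norm_num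
      rw [this]; abel
    rw [this, h3, neg_zero]
  have huS : u = 1 - S := by rw [hu, hS]; abel
  have hwS : w = 1 + S := by rw [hw, hS]; abel
  have huw : u * w = 1 := by
    rw [huS, hwS]
    have : (1 - S) * (1 + S) = 1 - S * S := by noncomm_ring
    rw [this, hSS, sub_zero]
  have hwJ : w * J = I * w := by
    rw [hw]
    simp only [add_mul, mul_add, one_mul, mul_one, hII, hJJ, hKK, hIJ, hJI, hJK, hKJ, hKI, hIK]
    abel
  have hwK : w * K = J * w := by
    rw [hw]
    simp only [add_mul, mul_add, one_mul, mul_one, hII, hJJ, hKK, hIJ, hJI, hJK, hKJ, hKI, hIK]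
    abel
  have hwI : w * I = K * w := by
    rw [hw]
    simp only [add_mul, mul_add, one_mul, mul_one, hII, hJJ, hKK, hIJ, hJI, hJK, hKJ, hKI, hIK]
    abel
  set m := w * a with hm
  have hmI : m * I = I * m := by
    rw [hm, mul_assoc, haI, ← mul_assoc, hwJ, mul_assoc]
  have hmJ : m * J = J * m := by
    rw [hm, mul_assoc, haJ, ← mul_assoc, hwK, mul_assoc]
  have hmK : m * K = K * m := by
    rw [hm, mul_assoc, haK, ← mul_assoc, hwI, mul_assoc]
  have hmS : m * S = S * m := by
    rw [hS, mul_add, mul_add, hmI, hmJ, hmK, add_mul, add_mul]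
  have haum : a = u * m := by rw [hm, ← mul_assoc, huw, one_mul]
  have ha2 : a * a = 2 * a - 1 := by
    have : (a - 1) * (a - 1) = a * a - (2 * a - 1) := by
      have : (2 : R) = 1 + 1 := by norm_num
      rw [this]; noncomm_ring
    rw [this] at ha
    exact sub_eq_zero.1 ha
  -- the main relation
  have hrel : (m * m + m + 1) + S * (m * m - m) = 0 := by
    have h4 : a * a = (1 - S) * (1 - S) * (m * m) := by
      rw [haum, huS]
      have : (1 - S) * m = m * (1 - S) := by rw [sub_mul, mul_sub, one_mul, mul_one, hmS]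
      rw [mul_assoc (1 - S) m, ← mul_assoc m (1 - S) m, ← this, mul_assoc (1 - S) m m, ← mul_assoc]
    have h5 : (1 - S) * (1 - S) = 1 + S := by
      have : (1 - S) * (1 - S) = 1 - 2 * S + S * S := by
        have : (2 : R) = 1 + 1 := by norm_num
        rw [this]; noncomm_ring
      rw [this, hSS, h2]; noncomm_ring
    rw [h5, ha2, h2, haum, huS] at h4
    have h6 : (1 + S) * (m * m) - (-1 * ((1 - S) * m) - 1) = 0 := sub_eq_zero.2 h4.symm
    have h7 : (1 + S) * (m * m) - (-1 * ((1 - S) * m) - 1) = (m * m + m + 1) + S * (m * m - m) := by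
      noncomm_ring
    rw [← h7, h6]
  set X := m * m + m + 1 with hX
  set Y := m * m - m with hY
  have hmmI : m * m * I = I * (m * m) := by rw [mul_assoc, hmI, ← mul_assoc, hmI, mul_assoc]
  have hXI : X * I = I * X := by
    rw [hX, add_mul, add_mul, mul_add, mul_add, hmmI, hmI, one_mul, mul_one]
  have hYI : Y * I = I * Y := by
    rw [hY, sub_mul, mul_sub, hmmI, hmI]
  have h8 : -X + (-I + J + K) * Y = 0 := by
    have h9 : I * (X + S * Y) * I = 0 := by rw [hrel, mul_zero, zero_mul]
    have h10 : I * (X + S * Y) * I = I * I * X + I * S * I * Y := by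
      rw [mul_add, add_mul, mul_assoc I X I, hXI, ← mul_assoc I I X, mul_assoc I (S * Y) I, mul_assoc S Y I, hYI]
      simp only [mul_assoc]
    have h11 : I * S * I = -I + J + K := by
      rw [hS, mul_add, mul_add, hII, hIJ, hIK, add_mul, add_mul, neg_mul, neg_mul, one_mul, hKI, hJI, neg_neg]
    rw [h10, h11, hII, neg_mul, one_mul] at h9
    exact h9
  have h12 : (J + K) * Y = 0 := by
    have h13 : X + S * Y + (-X + (-I + J + K) * Y) = 0 := by rw [hrel, h8, add_zero]
    have h14 : X + S * Y + (-X + (-I + J + K) * Y) = 2 * ((J + K) * Y) := by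
      have : (2 : R) = 1 + 1 := by norm_num
      rw [this, hS]; noncomm_ring
    rw [h14, h2, neg_mul, one_mul, neg_eq_zero] at h13
    exact h13
  have hY0 : Y = 0 := by
    have h15 : (J + K) * (J + K) = 1 := by
      have : (J + K) * (J + K) = -2 := by
        simp only [add_mul, mul_add, hJJ, hKK, hJK, hKJ]
        have : (2 : R) = 1 + 1 := by norm_num
        rw [this]; abel
      rw [this, h2, neg_neg]
    rw [← one_mul Y, ← h15, mul_assoc, h12, mul_zero]
  have h16 : (2 - a) * a = 1 := by rw [sub_mul, ha2]; abel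
  have h17 : m - 1 = 0 := by
    have : m - 1 = (2 - a) * (u * (m * m - m)) := by
      rw [show m * m - m = m * (m - 1) by rw [mul_sub, mul_one], ← mul_assoc u m, ← haum, ← mul_assoc, h16, one_mul]
    rw [this, ← hY, hY0, mul_zero, mul_zero]
  rw [haum, sub_eq_zero.1 h17, mul_one]

/-- a `3`-group acting on a set with at most four elements has trivial commutator action -/
theorem comm_trivial {H : Type*} [Group H] (hH : IsPGroup 3 H) {Ω : Type*} [Finite Ω] (hΩ : Nat.card Ω ≤ 4)
    (ψ : H →* Equiv.Perm Ω) {a : H} (ha : a ∈ commutator H) : ψ a = 1 := by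
  classical
  haveI : Fact (Nat.Prime 3) := ⟨Nat.prime_three⟩
  have h1 : IsPGroup 3 ψ.range := by
    rintro ⟨_, h, rfl⟩
    obtain ⟨k, hk⟩ := hH h
    exact ⟨k, Subtype.ext (by change (ψ h) ^ 3 ^ k = 1; rw [← map_pow, hk, map_one])⟩
  obtain ⟨k, hk⟩ := IsPGroup.iff_card.1 h1
  have h2 : 3 ^ k ∣ 24 := by
    rw [← hk]
    refine (Subgroup.card_subgroup_dvd_card ψ.range).trans ?_
    haveI := Fintype.ofFinite Ω
    rw [Nat.card_eq_fintype_card, Fintype.card_perm, ← Nat.card_eq_fintype_card]
    have : (Nat.card Ω).factorial ∣ Nat.factorial 4 := Nat.factorial_dvd_factorial hΩ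
    exact this
  have hk1 : k ≤ 1 := by
    by_contra hcon
    have h3 : 3 ^ 2 ∣ 24 := (pow_dvd_pow 3 (by omega)).trans h2
    revert h3; decide
  have hcomm : ∀ x y : ψ.range, x * y = y * x := by
    rcases Nat.lt_or_ge k 1 with h | h
    · have h0 : k = 0 := by omega
      rw [h0, pow_zero] at hk
      haveI : Subsingleton ψ.range := (Nat.card_eq_one_iff_unique.1 hk).1
      intro x y
      exact Subsingleton.elim _ _
    · have h0 : k = 1 := by omega
      rw [h0, pow_one] at hk
      haveI := isCyclic_of_prime_card hk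
      exact (IsCyclic.commutative (α := ψ.range)).is_comm.comm
  have h4 : commutator H ≤ ψ.ker := by
    rw [_root_.commutator_def, commutator_le]
    intro x _ y _
    rw [MonoidHom.mem_ker, map_commutatorElement, commutatorElement_eq_one_iff_mul_comm]
    exact congrArg Subtype.val (hcomm ⟨ψ x, x, rfl⟩ ⟨ψ y, y, rfl⟩)
  exact h4 ha

/-- quaternion units from anticommuting square roots of a sign -/
theorem quat_units {R : Type*} [Ring R] {i j k c : R} (hc : c = 1 ∨ c = -1)
    (hji : j * i = -(i * j)) (hkj : k * j = -(j * k)) (hik : i * k = -(k * i))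
    (hii : i * i = c) (hjj : j * j = c) (hkk : k * k = c) :
    (c * (i * j)) * (c * (i * j)) = -1 ∧ (c * (j * k)) * (c * (j * k)) = -1 ∧ (c * (k * i)) * (c * (k * i)) = -1 ∧
    (c * (i * j)) * (c * (j * k)) = -(c * (k * i)) ∧ (c * (j * k)) * (c * (i * j)) = c * (k * i) ∧
    (c * (j * k)) * (c * (k * i)) = -(c * (i * j)) ∧ (c * (k * i)) * (c * (j * k)) = c * (i * j) ∧
    (c * (k * i)) * (c * (i * j)) = -(c * (j * k)) ∧ (c * (i * j)) * (c * (k * i)) = c * (j * k) := by
  have hcc : c * c = 1 := by rcases hc with rfl | rfl <;> simp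
  have hcen : ∀ x : R, x * c = c * x := by
    intro x
    rcases hc with rfl | rfl <;> simp
  have key : ∀ x y z : R, y * x = -(x * y) → z * y = -(y * z) → x * z = -(z * x) → x * x = c → y * y = c →
      (c * (x * y)) * (c * (x * y)) = -1 ∧ (c * (x * y)) * (c * (y * z)) = -(c * (z * x)) ∧
      (c * (y * z)) * (c * (x * y)) = c * (z * x) := by
    intro x y z hyx hzy hxz hxx hyy
    have hout : ∀ P Q : R, (c * P) * (c * Q) = P * Q := by
      intro P Q
      rw [mul_assoc, ← mul_assoc P c Q, hcen P, mul_assoc c P Q, ← mul_assoc, hcc, one_mul]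
    refine ⟨?_, ?_, ?_⟩
    · rw [hout, mul_assoc, ← mul_assoc y x y, hyx, neg_mul, mul_neg, mul_assoc x y y, hyy, ← mul_assoc, hxx, hcc]
    · rw [hout, mul_assoc, ← mul_assoc y y z, hyy, ← mul_assoc, hcen x, mul_assoc, hxz, mul_neg]
    · have h1 : z * x = -(x * z) := by rw [hxz, neg_neg]
      rw [hout, mul_assoc, ← mul_assoc z x y, h1, neg_mul, mul_neg, mul_assoc x z y, hzy, mul_neg, mul_neg, neg_neg,
        ← mul_assoc, hyx, neg_mul, mul_assoc x y (y * z), ← mul_assoc y y z, hyy, ← mul_assoc, hcen x, mul_assoc,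
        mul_neg]
  obtain ⟨a1, a2, a3⟩ := key i j k hji hkj hik hii hjj
  obtain ⟨b1, b2, b3⟩ := key j k i hkj hik hji hjj hkk
  obtain ⟨c1, c2, c3⟩ := key k i j hik hji hkj hkk hii
  refine ⟨a1, b1, c1, a2, ?_, b2, ?_, c2, ?_⟩
  · rw [a3]
  · rw [b3]
  · rw [c3]

end Cfsg.Agent.HH
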