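import Mathlib
import Cfsg.Agent.HH.Quat

set_option autoImplicit false

/-!
The core argument for quadratic commutator subgroups in characteristic three.
-/

namespace Cfsg.Agent.HH

open Subgroup
open scoped commutatorElement

universe u v

section Core

variable {X : Type u} [Group X] {R : Type v} [Ring R]

/-- a function which is multiplicative on a subgroup -/
structure PHom (Y : Subgroup X) (σ : X → R) : Prop where
  one : σ 1 = 1
  mul : ∀ g ∈ Y, ∀ h ∈ Y, σ (g * h) = σ g * σ h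

namespace PHom

variable {Y : Subgroup X} {σ : X → R}

theorem mul_inv (h : PHom Y σ) {g : X} (hg : g ∈ Y) : σ g * σ g⁻¹ = 1 := by
  rw [← h.mul g hg _ (inv_mem hg), mul_inv_cancel, h.one]

theorem inv_mul (h : PHom Y σ) {g : X} (hg : g ∈ Y) : σ g⁻¹ * σ g = 1 := by
  rw [← h.mul _ (inv_mem hg) g hg, inv_mul_cancel, h.one]

theorem conj (h : PHom Y σ) {g x : X} (hg : g ∈ Y) (hx : x ∈ Y) : σ (g * x * g⁻¹) = σ g * σ x * σ g⁻¹ := by
  rw [h.mul _ (mul_mem hg hx) _ (inv_mem hg), h.mul g hg x hx]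

theorem conj_mul (h : PHom Y σ) {g x : X} (hg : g ∈ Y) (hx : x ∈ Y) : σ (g * x * g⁻¹) * σ g = σ g * σ x := by
  rw [h.conj hg hx, mul_assoc, h.inv_mul hg, mul_one]

theorem conj_comm (h : PHom Y σ) {g x : X} (hg : g ∈ Y) (hx : x ∈ Y) : σ g * σ x = σ (g * x * g⁻¹) * σ g := by
  rw [h.conj_mul hg hx]

theorem cancel_right (h : PHom Y σ) {g : X} (hg : g ∈ Y) {x y : R} (hxy : x * σ g = y * σ g) : x = y := by
  have := congrArg (fun z => z * σ g⁻¹) hxy
  simpa [mul_assoc, h.mul_inv hg] using this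

theorem cancel_left (h : PHom Y σ) {g : X} (hg : g ∈ Y) {x y : R} (hxy : σ g * x = σ g * y) : x = y := by
  have := congrArg (fun z => σ g⁻¹ * z) hxy
  simpa [← mul_assoc, h.inv_mul hg] using this

theorem comm_or (h : PHom Y σ) {s t : X} (hs : s ∈ Y) (ht : t ∈ Y) (hc : σ ⁅s, t⁆ = 1 ∨ σ ⁅s, t⁆ = -1) :
    σ s * σ t = σ t * σ s ∨ σ s * σ t = -(σ t * σ s) := by
  have h1 : σ s * σ t = σ ⁅s, t⁆ * (σ t * σ s) := by
    rw [← h.mul s hs t ht, ← h.mul t ht s hs, ← h.mul _ (by
      rw [commutatorElement_def]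
      exact mul_mem (mul_mem (mul_mem hs ht) (inv_mem hs)) (inv_mem ht)) _ (mul_mem ht hs), commutatorElement_def]
    congr 1
    group
  rcases hc with hc | hc
  · left; rw [h1, hc, one_mul]
  · right; rw [h1, hc, neg_mul, one_mul]

end PHom

/-- sign lemma used below -/
theorem sign_kill {S I' J' K' g g' : R} (h2 : (2 : R) = -1) (hg : g * g' = 1) (hgS : g * S = S * g)
    (hS : S * (I' + J' + K') = 0) (hI2 : I' * I' = -1)
    (hI : g * I' = I' * g) (hJ : g * J' = -(J' * g)) (hK : g * K' = -(K' * g)) : S = 0 := by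
  have h1 : S * (I' - J' - K') = 0 := by
    have h3 : g * (S * (I' + J' + K')) = (S * (I' - J' - K')) * g := by
      rw [← mul_assoc, hgS, mul_assoc, mul_add g, mul_add g, hI, hJ, hK]
      noncomm_ring
    rw [hS, mul_zero] at h3
    have h4 : S * (I' - J' - K') * g * g' = 0 := by rw [← h3, zero_mul]
    rwa [mul_assoc (S * (I' - J' - K')), hg, mul_one] at h4
  have h5 : 2 * (S * I') = 0 := by
    have : 2 * (S * I') = S * (I' + J' + K') + S * (I' - J' - K') := by
      have : (2 : R) = 1 + 1 := by norm_num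
      rw [this]; noncomm_ring
    rw [this, hS, h1, add_zero]
  rw [h2, neg_mul, one_mul, neg_eq_zero] at h5
  have h6 : S * I' * I' = 0 := by rw [h5, zero_mul]
  rw [mul_assoc, hI2, mul_neg, mul_one, neg_eq_zero] at h6
  exact h6

theorem core3 [Finite X] [Nontrivial R] (h3 : (3 : R) = 0) {Y T H : Subgroup X} {σ : X → R} (hσ : PHom Y σ)
    (hTY : T ≤ Y) (hHY : H ≤ Y) (hH : IsPGroup 3 H) (hHT : H ≤ normalizer (T : Set X))
    (hcomm : ∀ s ∈ T, ∀ t ∈ T, σ ⁅s, t⁆ = 1 ∨ σ ⁅s, t⁆ = -1)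
    (hsq : ∀ t ∈ T, σ (t * t) = 1 ∨ σ (t * t) = -1)
    (hquad : ∀ b ∈ ⁅H, H⁆, ∀ c ∈ ⁅H, H⁆, (σ b - 1) * (σ c - 1) = 0)
    {a t : X} (ha : a ∈ ⁅H, H⁆) (ht : t ∈ T) (hz : σ ⁅t, a * t * a⁻¹⁆ = -1) : False := by
  classical
  have h2 : (2 : R) = -1 := by
    have : (2 : R) + 1 = 0 := by rw [← h3]; norm_num
    exact eq_neg_of_add_eq_zero_left this
  have h1ne : (1 : R) ≠ -1 := by
    intro h
    rw [← h] at h2
    have : (1 : R) + 1 = 1 := by rw [one_add_one_eq_two, h2]
    exact one_ne_zero (add_eq_left.1 this)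
  have hAH : ⁅H, H⁆ ≤ H := by
    rw [commutator_le]
    intro x hx y hy
    rw [commutatorElement_def]
    exact mul_mem (mul_mem (mul_mem hx hy) (inv_mem hx)) (inv_mem hy)
  have haH := hAH ha
  have haY := hHY haH
  have hcj : ∀ h ∈ H, ∀ x ∈ T, h * x * h⁻¹ ∈ T := fun h hh x hx => (mem_normalizer_iff.1 (hHT hh) x).1 hx
  set t1 := a * t * a⁻¹ with ht1
  have ht1T : t1 ∈ T := hcj a haH t ht
  set t2 := a * t1 * a⁻¹ with ht2
  have ht2T : t2 ∈ T := hcj a haH t1 ht1T
  set A := σ a with hA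
  set i := σ t with hi
  set j := σ t1 with hj
  set k := σ t2 with hk
  have hAi : A * i = j * A := hσ.conj_comm haY (hTY ht)
  have hAj : A * j = k * A := hσ.conj_comm haY (hTY ht1T)
  have hAA := hquad a ha a ha
  have hA2 : A * A = 2 * A - 1 := by
    have h4 : (A - 1) * (A - 1) = A * A - (2 * A - 1) := by
      have : (2 : R) = 1 + 1 := by norm_num
      rw [this]; noncomm_ring
    rw [← hA, h4] at hAA
    exact sub_eq_zero.1 hAA
  have hA3 : A * A * A = 1 := by
    have h4 : A * A * A = 4 * A - 2 - A := by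
      rw [hA2, sub_mul, mul_assoc, hA2, one_mul]
      have h4' : (4 : R) = 1 + 1 + 1 + 1 := by norm_num
      have h2' : (2 : R) = 1 + 1 := by norm_num
      rw [h4', h2']; noncomm_ring
    rw [h4]
    have h5 : (4 : R) * A - 2 - A = 3 * A - 2 := by
      have : (4 : R) = 3 + 1 := by norm_num
      rw [this]; noncomm_ring
    rw [h5, h3, h2, zero_mul, zero_sub, neg_neg]
  have hAk : A * k = i * A := by
    have h4 : k * A * A = A * A * i := by
      rw [← hAj, mul_assoc, ← hAi, ← mul_assoc]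
    have h5 : A * k * (A * A) = i * A * (A * A) := by
      have h6 : i * A * (A * A) = i := by rw [mul_assoc, ← mul_assoc A A A, hA3, mul_one]
      rw [h6, mul_assoc, ← mul_assoc k A A, h4, ← mul_assoc, ← mul_assoc, hA3, one_mul]
    rw [← mul_assoc, ← mul_assoc] at h5
    exact hσ.cancel_right haY (hσ.cancel_right haY h5)
  -- anticommutation
  have hji : j * i = -(i * j) := by
    rcases hσ.comm_or (hTY ht) (hTY ht1T) (Or.inr hz) with h4 | h4
    · exfalso
      have h5 : i * j = σ ⁅t, t1⁆ * (j * i) := by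
        rw [hi, hj, ← hσ.mul _ (hTY ht) _ (hTY ht1T), ← hσ.mul _ (hTY ht1T) _ (hTY ht), ← hσ.mul _ (by
          rw [commutatorElement_def]
          exact hTY (mul_mem (mul_mem (mul_mem ht ht1T) (inv_mem ht)) (inv_mem ht1T))) _
          (mul_mem (hTY ht1T) (hTY ht)), commutatorElement_def]
        congr 1
        group
      rw [hz] at h5
      have h6 : (2 : R) * (j * i) = 0 := by
        have h4' : i * j = j * i := h4
        rw [h4', neg_mul, one_mul] at h5
        have : (2 : R) = 1 + 1 := by norm_num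
        rw [this, add_mul, one_mul]
        nth_rewrite 1 [h5]
        exact neg_add_cancel _
      rw [h2, neg_mul, one_mul, neg_eq_zero] at h6
      have h7 : σ t⁻¹ * (σ t1⁻¹ * (j * i)) = 1 → False := by
        intro h8
        rw [h6, mul_zero, mul_zero] at h8
        exact zero_ne_one h8
      apply h7
      have h8 : j * i * (σ t⁻¹ * σ t1⁻¹) = 1 := by
        rw [mul_assoc, ← mul_assoc i, hσ.mul_inv (hTY ht), one_mul, hσ.mul_inv (hTY ht1T)]
      exfalso
      rw [h6, zero_mul] at h8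
      exact zero_ne_one h8
    · have h4' : i * j = -(j * i) := h4
      rw [h4', neg_neg]
  have hkj : k * j = -(j * k) := by
    apply hσ.cancel_right haY
    change k * j * A = -(j * k) * A
    rw [mul_assoc, ← hAi, ← mul_assoc, ← hAj, mul_assoc, hji, neg_mul, mul_assoc j k A, ← hAj, ← mul_assoc j A j,
      ← hAi, mul_neg, mul_assoc]
  have hik : i * k = -(k * i) := by
    apply hσ.cancel_right haY
    change i * k * A = -(k * i) * A
    rw [mul_assoc, ← hAj, ← mul_assoc, ← hAk, mul_assoc, hkj, neg_mul, mul_assoc k i A, ← hAk, ← mul_assoc k A k,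
      ← hAj, mul_neg, mul_assoc]
  set c := σ (t * t) with hc
  have hcs : c = 1 ∨ c = -1 := hsq t ht
  have hcc : c * c = 1 := by rcases hcs with h | h <;> rw [h] <;> simp
  have hcen : ∀ x : R, x * c = c * x := by
    intro x
    rcases hcs with h | h <;> rw [h] <;> simp
  have hii : i * i = c := by rw [hc, hσ.mul _ (hTY ht) _ (hTY ht)]
  have hjj : j * j = c := by
    apply hσ.cancel_right haY
    change j * j * A = c * A
    rw [mul_assoc, ← hAi, ← mul_assoc, ← hAi, mul_assoc, hii, hcen]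
  have hkk : k * k = c := by
    apply hσ.cancel_right haY
    change k * k * A = c * A
    rw [mul_assoc, ← hAj, ← mul_assoc, ← hAj, mul_assoc, hjj, hcen]
  obtain ⟨q1, q2, q3, q4, q5, q6, q7, q8, q9⟩ := quat_units hcs hji hkj hik hii hjj hkk
  set I := c * (i * j) with hI
  set J := c * (j * k) with hJ
  set K := c * (k * i) with hK
  have hAI : A * I = J * A := by
    rw [hI, hJ, ← mul_assoc A c, hcen A, mul_assoc c A, ← mul_assoc A i j, hAi, mul_assoc j A j, hAj,
      ← mul_assoc j k A, ← mul_assoc]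
  have hAJ : A * J = K * A := by
    rw [hJ, hK, ← mul_assoc A c, hcen A, mul_assoc c A, ← mul_assoc A j k, hAj, mul_assoc k A k, hAk,
      ← mul_assoc k i A, ← mul_assoc]
  have hAK : A * K = I * A := by
    rw [hK, hI, ← mul_assoc A c, hcen A, mul_assoc c A, ← mul_assoc A k i, hAk, mul_assoc i A i, hAi,
      ← mul_assoc i j A, ← mul_assoc]
  have hAeq : A = 1 - I - J - K := quat_eq h3 q1 q2 q3 q4 q5 q6 q7 q8 q9 hAI hAJ hAK hAA
  have hAS : A - 1 = -(I + J + K) := by rw [hAeq]; abel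
  -- S ≠ 0
  have hS0 : I + J + K ≠ 0 := by
    intro h
    rw [h, neg_zero, sub_eq_zero] at hAS
    rw [hAS, one_mul, mul_one] at hAI
    rw [hAI, q2] at q4
    have h4 : K = 1 := (neg_injective q4).symm
    rw [h4, mul_one] at q3
    exact h1ne q3
  have hK0 : K ≠ 0 := by
    intro h
    rw [h, mul_zero] at q3
    have : (1 : R) = 0 := by rw [← neg_neg (1 : R), ← q3, neg_zero]
    exact one_ne_zero this
  have hKIJ : K = -(I * J) := by rw [q4, neg_neg]
  -- elements of T commute or anticommute with I, J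
  have hsgn : ∀ y ∈ T, ∀ s ∈ T, σ y * (c * σ s) = (c * σ s) * σ y ∨ σ y * (c * σ s) = -((c * σ s) * σ y) := by
    intro y hy s hs
    rw [← mul_assoc, hcen, mul_assoc, mul_assoc]
    rcases hσ.comm_or (hTY hy) (hTY hs) (hcomm y hy s hs) with h4 | h4
    · left; rw [h4]
    · right; rw [h4, mul_neg]
  have hIσ : I = c * σ (t * t1) := by rw [hσ.mul _ (hTY ht) _ (hTY ht1T)]
  have hJσ : J = c * σ (t1 * t2) := by rw [hσ.mul _ (hTY ht1T) _ (hTY ht2T)]
  -- the centralizer
  let C : Subgroup X :=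
    { carrier := {y | y ∈ T ∧ σ y * I = I * σ y ∧ σ y * J = J * σ y}
      one_mem' := ⟨one_mem _, by rw [hσ.one, one_mul, mul_one], by rw [hσ.one, one_mul, mul_one]⟩
      mul_mem' := by
        rintro x y ⟨hx1, hx2, hx3⟩ ⟨hy1, hy2, hy3⟩
        refine ⟨mul_mem hx1 hy1, ?_, ?_⟩
        · rw [hσ.mul _ (hTY hx1) _ (hTY hy1), mul_assoc, hy2, ← mul_assoc, hx2, mul_assoc]
        · rw [hσ.mul _ (hTY hx1) _ (hTY hy1), mul_assoc, hy3, ← mul_assoc, hx3, mul_assoc]
      inv_mem' := by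
        rintro x ⟨hx1, hx2, hx3⟩
        refine ⟨inv_mem hx1, ?_, ?_⟩
        · apply hσ.cancel_left (hTY hx1)
          rw [← mul_assoc (σ x) (σ x⁻¹) I, hσ.mul_inv (hTY hx1), one_mul, ← mul_assoc (σ x) I, hx2, mul_assoc,
            hσ.mul_inv (hTY hx1), mul_one]
        · apply hσ.cancel_left (hTY hx1)
          rw [← mul_assoc (σ x) (σ x⁻¹) J, hσ.mul_inv (hTY hx1), one_mul, ← mul_assoc (σ x) J, hx3, mul_assoc,
            hσ.mul_inv (hTY hx1), mul_one] }
  have hC : ∀ y, y ∈ C ↔ y ∈ T ∧ σ y * I = I * σ y ∧ σ y * J = J * σ y := fun _ => Iff.rfl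
  have hCT : C ≤ T := fun y hy => ((hC y).1 hy).1
  -- invariance under H
  have hCH : ∀ h ∈ H, ∀ y ∈ C, h⁻¹ * y * h ∈ C := by
    intro h hh y hy
    obtain ⟨hyT, hyI, hyJ⟩ := (hC y).1 hy
    have hhY := hHY hh
    have hyY := hTY hyT
    set P := σ h with hP
    set P' := σ h⁻¹ with hP'
    have hPP : P * P' = 1 := hσ.mul_inv hhY
    have hPP' : P' * P = 1 := hσ.inv_mul hhY
    have hcjj : ∀ U V : R, (P * U * P') * (P * V * P') = P * (U * V) * P' := by
      intro U V
      rw [mul_assoc (P * U), ← mul_assoc P' (P * V), ← mul_assoc P' P V, hPP', one_mul, ← mul_assoc, mul_assoc P U V]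
    have hb : h * a * h⁻¹ ∈ ⁅H, H⁆ := by
      haveI : (⁅(⊤ : Subgroup H), (⊤ : Subgroup H)⁆).Normal := inferInstance
      rw [← map_subtype_commutator] at ha ⊢
      obtain ⟨a', ha', rfl⟩ := ha
      exact ⟨⟨h, hh⟩ * a' * (⟨h, hh⟩)⁻¹, (inferInstance : (commutator H).Normal).conj_mem a' ha' _, rfl⟩
    have hσb : σ (h * a * h⁻¹) - 1 = -(P * I * P' + P * J * P' + P * K * P') := by
      have h4 : σ (h * a * h⁻¹) - 1 = P * (A - 1) * P' := by
        rw [hσ.conj hhY haY, mul_sub, mul_one, sub_mul, hPP]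
      rw [h4, hAS]
      noncomm_ring
    have hSS : (I + J + K) * (P * I * P' + P * J * P' + P * K * P') = 0 := by
      have h4 := hquad a ha _ hb
      rw [← hA, hAS, hσb, neg_mul_neg] at h4
      exact h4
    have hyK : σ y * K = K * σ y := by
      rw [hKIJ, mul_neg, neg_mul, ← mul_assoc, hyI, mul_assoc I, hyJ, mul_assoc I J]
    have hyS : σ y * (I + J + K) = (I + J + K) * σ y := by
      rw [mul_add, mul_add, hyI, hyJ, hyK, add_mul, add_mul]
    have hgen : ∀ s ∈ T, P * (c * σ s) * P' = c * σ (h * s * h⁻¹) := by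
      intro s hs
      rw [hσ.conj hhY (hTY hs), ← mul_assoc, hcen, mul_assoc, mul_assoc, mul_assoc]
    have hI' := hsgn y hyT (h * (t * t1) * h⁻¹) (hcj h hh _ (mul_mem ht ht1T))
    have hJ' := hsgn y hyT (h * (t1 * t2) * h⁻¹) (hcj h hh _ (mul_mem ht1T ht2T))
    rw [← hgen _ (mul_mem ht ht1T), ← hIσ] at hI'
    rw [← hgen _ (mul_mem ht1T ht2T), ← hJσ] at hJ'
    set I' := P * I * P' with hI'd
    set J' := P * J * P' with hJ'd
    set K' := P * K * P' with hK'd
    have hK' : K' = -(I' * J') := by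
      rw [hI'd, hJ'd, hcjj, hK'd, hKIJ]; noncomm_ring
    have hI'2 : I' * I' = -1 := by rw [hI'd, hcjj, q1]; rw [mul_neg, mul_one, neg_mul, hPP]
    have hJ'2 : J' * J' = -1 := by rw [hJ'd, hcjj, q2]; rw [mul_neg, mul_one, neg_mul, hPP]
    have hK'2 : K' * K' = -1 := by rw [hK'd, hcjj, q3]; rw [mul_neg, mul_one, neg_mul, hPP]
    have hyy := hσ.mul_inv hyY
    have hres : σ y * I' = I' * σ y ∧ σ y * J' = J' * σ y := by
      rcases hI' with hI' | hI' <;> rcases hJ' with hJ' | hJ'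
      · exact ⟨hI', hJ'⟩
      · exfalso
        apply hS0
        apply sign_kill h2 hyy hyS hSS hI'2 hI' hJ'
        rw [hK', mul_neg, ← mul_assoc, hI', mul_assoc I', hJ', neg_mul, mul_neg, mul_assoc I' J']
      · exfalso
        apply hS0
        apply sign_kill (I' := J') (J' := I') (K' := K') h2 hyy hyS (by rw [add_comm J' I']; exact hSS) hJ'2 hJ' hI'
        rw [hK', mul_neg, ← mul_assoc, hI', neg_mul, mul_assoc I', hJ', neg_mul, mul_assoc I' J']
      · exfalso
        apply hS0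
        apply sign_kill (I' := K') (J' := I') (K' := J') h2 hyy hyS (by
          rw [add_assoc K', add_comm K']; exact hSS) hK'2 ?_ hI' hJ'
        rw [hK', mul_neg, ← mul_assoc, hI', neg_mul, mul_assoc I', hJ', neg_mul, mul_neg, neg_neg, mul_assoc I' J']
    have hback : ∀ U : R, σ y * (P * U * P') = (P * U * P') * σ y →
        σ (h⁻¹ * y * h) * U = U * σ (h⁻¹ * y * h) := by
      intro U hU
      have h4 : σ (h⁻¹ * y * h) = P' * σ y * P := by
        rw [hσ.mul _ (mul_mem (inv_mem hhY) hyY) _ hhY, hσ.mul _ (inv_mem hhY) _ hyY]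
      rw [h4]
      have h5 : P' * (σ y * (P * U * P')) * P = P' * ((P * U * P') * σ y) * P := by rw [hU]
      have h6 : P' * (σ y * (P * U * P')) * P = P' * σ y * P * U := by
        rw [mul_assoc P', mul_assoc (σ y), mul_assoc (P * U), hPP', mul_one, mul_assoc P', mul_assoc P',
          mul_assoc (σ y)]
      have h7 : P' * ((P * U * P') * σ y) * P = U * (P' * σ y * P) := by
        rw [mul_assoc (P * U), mul_assoc P U, ← mul_assoc P' P, hPP', one_mul, mul_assoc]
      rw [h6, h7] at h5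
      exact h5
    refine (hC _).2 ⟨?_, hback I hres.1, hback J hres.2⟩
    have := hcj h⁻¹ (inv_mem hh) y hyT
    rwa [inv_inv] at this
  have hCH' : ∀ h ∈ H, ∀ y ∈ C, h * y * h⁻¹ ∈ C := by
    intro h hh y hy
    have := hCH h⁻¹ (inv_mem hh) y hy
    rwa [inv_inv] at this
  have hsign : ∀ z : X, z ∈ T → (σ z = 1 ∨ σ z = -1) → z ∈ C := by
    intro z hz hs
    refine (hC z).2 ⟨hz, ?_, ?_⟩ <;> rcases hs with h | h <;> rw [h] <;> simp
  have hTC : T ≤ normalizer (C : Set X) := by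
    have hone : ∀ s ∈ T, ∀ y ∈ C, s * y * s⁻¹ ∈ C := by
      intro s hs y hy
      have h4 : s * y * s⁻¹ = ⁅s, y⁆ * y := by rw [commutatorElement_def]; group
      rw [h4]
      refine mul_mem (hsign _ ?_ (hcomm s hs y (hCT hy))) hy
      rw [commutatorElement_def]
      exact mul_mem (mul_mem (mul_mem hs (hCT hy)) (inv_mem hs)) (inv_mem (hCT hy))
    intro s hs
    rw [mem_normalizer_iff]
    intro y
    refine ⟨fun hy => hone s hs y hy, fun hy => ?_⟩
    have := hone s⁻¹ (inv_mem hs) _ hy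
    have h5 : s⁻¹ * (s * y * s⁻¹) * s⁻¹⁻¹ = y := by group
    rwa [h5] at this
  have hHC : H ≤ normalizer (C : Set X) := by
    intro s hs
    rw [mem_normalizer_iff]
    intro y
    refine ⟨fun hy => hCH' s hs y hy, fun hy => ?_⟩
    have := hCH' s⁻¹ (inv_mem hs) _ hy
    have h5 : s⁻¹ * (s * y * s⁻¹) * s⁻¹⁻¹ = y := by group
    rwa [h5] at this
  obtain ⟨V, _, _, ⟨M⟩⟩ := BG3.exists_secMod (ℓ := 2) (M := T) (M1 := C) (Y := H) hTC hHT hHC (by
      intro x hx
      rw [pow_two]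
      exact hsign _ (mul_mem hx hx) (hsq x hx)) (by
      intro x hx y hy
      have := hcomm x hx y hy
      rw [commutatorElement_def] at this
      exact hsign _ (mul_mem (mul_mem (mul_mem hx hy) (inv_mem hx)) (inv_mem hy)) this)
  haveI : Finite V := Finite.of_surjective (fun x => (M.π x).toAdd) (by
    intro v
    obtain ⟨x, hx⟩ := M.surj (Multiplicative.ofAdd v)
    exact ⟨x, by change (M.π x).toAdd = v; rw [hx]; rfl⟩)
  -- the signs
  have hsI : ∀ y ∈ T, σ y * I = I * σ y ∨ σ y * I = -(I * σ y) := by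
    intro y hy
    have := hsgn y hy _ (mul_mem ht ht1T)
    rwa [← hIσ] at this
  have hsJ : ∀ y ∈ T, σ y * J = J * σ y ∨ σ y * J = -(J * σ y) := by
    intro y hy
    have := hsgn y hy _ (mul_mem ht1T ht2T)
    rwa [← hJσ] at this
  choose pr hpr using fun v : V => M.surj (Multiplicative.ofAdd v)
  let f : V → Bool × Bool := fun v => (decide (σ (pr v : X) * I = I * σ (pr v : X)), decide (σ (pr v : X) * J = J * σ (pr v : X)))
  have hinv : ∀ y ∈ T, ∀ U : R, σ y * U = U * σ y → σ y⁻¹ * U = U * σ y⁻¹ := by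
    intro y hy U hU
    apply hσ.cancel_left (hTY hy)
    rw [← mul_assoc (σ y) (σ y⁻¹) U, hσ.mul_inv (hTY hy), one_mul, ← mul_assoc (σ y) U, hU, mul_assoc,
      hσ.mul_inv (hTY hy), mul_one]
  have hinv' : ∀ y ∈ T, ∀ U : R, σ y * U = -(U * σ y) → σ y⁻¹ * U = -(U * σ y⁻¹) := by
    intro y hy U hU
    apply hσ.cancel_left (hTY hy)
    rw [← mul_assoc (σ y) (σ y⁻¹) U, hσ.mul_inv (hTY hy), one_mul, mul_neg, ← mul_assoc (σ y) U, hU, neg_mul,
      mul_assoc, hσ.mul_inv (hTY hy), mul_one, neg_neg]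
  have hpair : ∀ x ∈ T, ∀ y ∈ T, ∀ U : R, (σ x * U = U * σ x ∨ σ x * U = -(U * σ x)) →
      (σ y * U = U * σ y ∨ σ y * U = -(U * σ y)) → (σ x * U = U * σ x ↔ σ y * U = U * σ y) →
      σ (x⁻¹ * y) * U = U * σ (x⁻¹ * y) := by
    intro x hx y hy U hxU hyU hxy
    rw [hσ.mul _ (inv_mem (hTY hx)) _ (hTY hy)]
    by_cases h : σ x * U = U * σ x
    · rw [mul_assoc, hxy.1 h, ← mul_assoc, hinv x hx U h, mul_assoc]
    · have h' : ¬ σ y * U = U * σ y := fun h'' => h (hxy.2 h'')
      have hx' := hxU.resolve_left h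
      have hy' := hyU.resolve_left h'
      rw [mul_assoc, hy', mul_neg, ← mul_assoc, hinv' x hx U hx', neg_mul, neg_neg, mul_assoc]
  have hf : Function.Injective f := by
    intro v w hvw
    have h4 : (σ (pr v : X) * I = I * σ (pr v : X)) ↔ (σ (pr w : X) * I = I * σ (pr w : X)) :=
      decide_eq_decide.1 (congrArg Prod.fst hvw)
    have h5 : (σ (pr v : X) * J = J * σ (pr v : X)) ↔ (σ (pr w : X) * J = J * σ (pr w : X)) :=
      decide_eq_decide.1 (congrArg Prod.snd hvw)
    have h6 : ((pr v)⁻¹ * pr w : T).1 ∈ C := by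
      refine (hC _).2 ⟨((pr v)⁻¹ * pr w : T).2, ?_, ?_⟩
      · exact hpair _ (pr v).2 _ (pr w).2 I (hsI _ (pr v).2) (hsI _ (pr w).2) h4
      · exact hpair _ (pr v).2 _ (pr w).2 J (hsJ _ (pr v).2) (hsJ _ (pr w).2) h5
    have h7 := (M.ker _).2 h6
    rw [map_mul, map_inv, inv_mul_eq_one, hpr, hpr] at h7
    exact Multiplicative.ofAdd.injective h7
  have hcard : Nat.card V ≤ 4 := by
    have := Nat.card_le_card_of_injective f hf
    simpa using this
  let ψ : H →* Equiv.Perm V :=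
    { toFun := fun h => ⟨fun v => M.ρ h v, fun v => M.ρ h⁻¹ v, fun v => by
          change (M.ρ h⁻¹ * M.ρ h) v = v
          rw [← map_mul, inv_mul_cancel, map_one]; rfl, fun v => by
          change (M.ρ h * M.ρ h⁻¹) v = v
          rw [← map_mul, mul_inv_cancel, map_one]; rfl⟩
      map_one' := by
        ext v
        change M.ρ 1 v = v
        rw [map_one]; rfl
      map_mul' := by
        intro x y
        ext v
        change M.ρ (x * y) v = M.ρ x (M.ρ y v)
        rw [map_mul]; rfl }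
  rw [← map_subtype_commutator] at ha
  obtain ⟨a', ha', haa'⟩ := ha
  have hψ := comm_trivial hH hcard ψ ha'
  have h4 : ∀ v, M.ρ a' v = v := fun v => congrArg (fun e : Equiv.Perm V => e v) hψ
  have h5 := M.equiv a' ⟨t * t1, mul_mem ht ht1T⟩
  rw [h4] at h5
  have h6 : M.π (BG3.cjHom hHT a' ⟨t * t1, mul_mem ht ht1T⟩) = M.π ⟨t * t1, mul_mem ht ht1T⟩ :=
    Multiplicative.toAdd.injective h5
  rw [← inv_mul_eq_one, ← map_inv, ← map_mul, M.ker] at h6
  have h7 : (((BG3.cjHom hHT a' ⟨t * t1, mul_mem ht ht1T⟩)⁻¹ * ⟨t * t1, mul_mem ht ht1T⟩ : T) : X) =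
      (t1 * t2)⁻¹ * (t * t1) := by
    have h8 : ((BG3.cjHom hHT a' ⟨t * t1, mul_mem ht ht1T⟩ : T) : X) = (a' : X) * (t * t1) * (a' : X)⁻¹ := rfl
    rw [Subgroup.coe_mul, Subgroup.coe_inv, h8]
    have h9 : (a' : X) = a := haa'
    rw [h9]
    change (a * (t * t1) * a⁻¹)⁻¹ * (t * t1) = (t1 * t2)⁻¹ * (t * t1)
    have h10 : a * (t * t1) * a⁻¹ = t1 * t2 := by
      rw [ht2]
      nth_rewrite 2 [ht1]
      group
    rw [h10]
  rw [h7, hC] at h6
  obtain ⟨-, h8, -⟩ := h6
  -- I commutes with J⁻¹ I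
  have h9 : σ ((t1 * t2)⁻¹ * (t * t1)) = -(J * I) := by
    rw [hσ.mul _ (hTY (inv_mem (mul_mem ht1T ht2T))) _ (hTY (mul_mem ht ht1T))]
    apply hσ.cancel_left (hTY (mul_mem ht1T ht2T))
    rw [← mul_assoc, hσ.mul_inv (hTY (mul_mem ht1T ht2T)), one_mul]
    have h10 : σ (t1 * t2) = c * J := by rw [hJσ, ← mul_assoc c c, hcc, one_mul]
    have h11 : σ (t * t1) = c * I := by rw [hIσ, ← mul_assoc c c, hcc, one_mul]
    rw [h10, h11, mul_neg, mul_assoc, ← mul_assoc J J I, q2, neg_mul, one_mul, mul_neg, neg_neg]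
  rw [h9, q5, neg_mul, q8, neg_neg, mul_neg, q9] at h8
  have h12 : (2 : R) * J = 0 := by
    have : (2 : R) = 1 + 1 := by norm_num
    rw [this, add_mul, one_mul]
    nth_rewrite 1 [h8]
    exact neg_add_cancel _
  rw [h2, neg_mul, one_mul, neg_eq_zero] at h12
  rw [h12, mul_zero] at q2
  have : (1 : R) = 0 := by rw [← neg_neg (1 : R), ← q2, neg_zero]
  exact one_ne_zero this

end Core

end Cfsg.Agent.HH
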