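import Mathlib
import Cfsg.Agent.HH.Quat2
import Cfsg.Agent.HH.Frat
import Cfsg.Agent.HH.GroupC
import Cfsg.Agent.H62.Mazurov

set_option autoImplicit false

/-!
Quadratic action in odd characteristic.
-/

namespace Cfsg.Agent.HH

open Subgroup
open scoped commutatorElement

universe u v

variable {X : Type u} [Group X] [Finite X] {p : ℕ} [hp : Fact p.Prime]

theorem charP_end_of {V : Type v} [AddCommGroup V] [Module (ZMod p) V] [Nontrivial V] :
    CharP (Module.End (ZMod p) V) p :=
  charP_of_injective_algebraMap (FaithfulSMul.algebraMap_injective (ZMod p) (Module.End (ZMod p) V)) p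

/-- a quadratic element of odd characteristic acting nontrivially on a `p'`-group -/
theorem quad_exc (hp2 : p ≠ 2) {V : Type v} [AddCommGroup V] [Module (ZMod p) V] [Finite V]
    (ρ : Representation (ZMod p) X V) (hinj : Function.Injective ρ) {a : X} (ha1 : a ≠ 1)
    (hquad : (ρ a - 1) * (ρ a - 1) = 0) {D : Subgroup X} (hD : (Nat.card D).Coprime p)
    (haD : a ∈ normalizer (D : Set X)) (hnt : ⁅D, zpowers a⁆ ≠ ⊥) :
    p = 3 ∧ ∃ Q ≤ D, IsPGroup 2 Q ∧ a ∈ normalizer (Q : Set X) ∧ ⁅Q, zpowers a⁆ = Q ∧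
      (∃ g ∈ Q, ∃ h ∈ Q, g * h ≠ h * g) ∧ (∀ g ∈ Q, ∀ h ∈ Q, ∀ k ∈ Q, ⁅g, h⁆ * k = k * ⁅g, h⁆) ∧
      (∀ g ∈ Q, ∀ h ∈ Q, a * ⁅g, h⁆ = ⁅g, h⁆ * a) := by
  classical
  have hpp : p.Prime := hp.out
  haveI : FiniteDimensional (ZMod p) V := Module.Finite.of_finite
  have hVnt : Nontrivial V := by
    by_contra hcon
    rw [not_nontrivial_iff_subsingleton] at hcon
    apply ha1
    apply hinj
    apply LinearMap.ext
    intro v
    exact Subsingleton.elim _ _
  haveI : CharP (Module.End (ZMod p) V) p := charP_end_of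
  have hp3 : 3 ≤ p := by
    have := hpp.two_le
    omega
  have hap : a ^ p = 1 := by
    apply hinj
    rw [map_pow, map_one, ← sub_eq_zero]
    have h1 : (ρ a - 1) ^ p = ρ a ^ p - 1 := by
      rw [sub_pow_char_of_commute p (Commute.one_right _), one_pow]
    rw [← h1]
    have h2 : ∀ m, 2 ≤ m → (ρ a - 1) ^ m = 0 := by
      intro m hm
      rw [show m = 2 + (m - 2) by omega, pow_add, pow_two, hquad, zero_mul]
    exact h2 p (by omega)
  have hord : orderOf a = p ^ 1 := by
    rw [pow_one]
    exact orderOf_eq_prime hap ha1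
  have hx0 : a ^ p ^ (1 - 1) = a := by simp
  obtain ⟨q, hq, Q, h1, h2, h3, h4, h5, h6, h7, h8, h9⟩ := exists_min_q D hD hord haD (by rw [hx0]; exact hnt)
  haveI := hq
  let K := AlgebraicClosure (ZMod p)
  haveI : CharP K p := charP_of_injective_algebraMap (algebraMap (ZMod p) K).injective p
  have hinj' := bc_injective (ZMod p) ρ hinj
  have hnt' : ∃ g ∈ Q, bc (ZMod p) ρ g ≠ 1 := exists_ne_of_injective hinj' h6
  have hquad' : (bc (ZMod p) ρ a - 1) * (bc (ZMod p) ρ a - 1) = 0 := by
    have e1 : bc (ZMod p) ρ a - 1 = Module.End.baseChangeHom (ZMod p) K V (ρ a - 1) := by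
      rw [map_sub, map_one]; rfl
    rw [e1, ← map_mul, hquad, map_zero]
  have hpow0 : ∀ m, 2 ≤ m → (bc (ZMod p) ρ a - 1) ^ m = 0 := by
    intro m hm
    rw [show m = 2 + (m - 2) by omega, pow_add, pow_two, hquad', zero_mul]
  rcases core_B (ρ := bc (ZMod p) ρ) h1 h2 hord h4 h5 h7 h8 hnt' with h | ⟨n₀, b, hn1, hn2, hb, hpb, hnc, h⟩
  · exfalso
    apply h
    apply hpow0
    rw [pow_one]; omega
  · have hn0 : n₀ = 1 := by omega
    rw [hn0, Nat.sub_self, pow_zero, one_mul, pow_one] at h
    have hp33 : p = 3 := by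
      by_contra hne
      apply h
      apply hpow0
      omega
    have hq2 : q = 2 := by
      rw [hn0, hp33, pow_one] at hpb
      have : q ∣ 3 - 1 := by rw [hpb]; exact dvd_pow_self q (by omega)
      exact (Nat.prime_dvd_prime_iff_eq hq.out Nat.prime_two).1 this
    subst hq2
    refine ⟨hp33, Q, h3, h2, h4, ?_, hnc, h8, ?_⟩
    · rw [hx0] at h5; exact h5
    · intro g hg h' hh'
      have hU : Q ⊓ centralizer (Q : Set X) < Q := by
        refine lt_of_le_of_ne inf_le_left ?_
        intro he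
        obtain ⟨g, hg, h', hh', hne⟩ := hnc
        apply hne
        have := inf_eq_left.1 he hh'
        exact mem_centralizer_iff.1 this g hg
      have hUn : a ∈ normalizer ((Q ⊓ centralizer (Q : Set X) : Subgroup X) : Set X) := by
        have e1 : (a : X) ∈ normalizer ((centralizer (Q : Set X) : Subgroup X) : Set X) := by
          rw [mem_normalizer_iff] at h4 ⊢
          intro y
          constructor
          · intro hy
            rw [mem_centralizer_iff] at hy ⊢
            intro k hk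
            have := hy (a⁻¹ * k * a) ((h4 _).2 (by simpa [mul_assoc] using hk))
            have e2 := congrArg (fun z => a * z * a⁻¹) this
            simpa [mul_assoc] using e2
          · intro hy
            rw [mem_centralizer_iff] at hy ⊢
            intro k hk
            have := hy (a * k * a⁻¹) ((h4 _).1 hk)
            have e2 := congrArg (fun z => a⁻¹ * z * a) this
            simpa [mul_assoc] using e2
        have e3 : a ∈ normalizer (Q : Set X) ⊓ normalizer ((centralizer (Q : Set X) : Subgroup X) : Set X) := ⟨h4, e1⟩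
        exact Subgroup.inf_normalizer_le_normalizer_inf e3
      have hUb := h9 _ hU hUn
      rw [hx0, commutator_eq_bot_iff_le_centralizer] at hUb
      have hgU : ⁅g, h'⁆ ∈ Q ⊓ centralizer (Q : Set X) := by
        rw [mem_inf]
        refine ⟨?_, ?_⟩
        · rw [commutatorElement_def]
          exact mul_mem (mul_mem (mul_mem hg hh') (inv_mem hg)) (inv_mem hh')
        · rw [mem_centralizer_iff]
          intro k hk
          exact (h8 g hg h' hh' k hk).symm
      exact mem_centralizer_iff.1 (hUb hgU) a (mem_zpowers a)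

section FM

variable {G : Type u} [Group G] {V : Type v} [AddCommGroup V] [Module (ZMod p) V]

/-- commutators and the operator `ρ g - 1` -/
theorem FMod.pi_comm (F : FMod p G V) (g : G) (v w : pCore p G) (hw : (w : G) = g * v * g⁻¹ * (v : G)⁻¹) :
    (F.π w).toAdd = (F.ρ g - 1) (F.π v).toAdd := by
  haveI : (pCore p G).Normal := Solv.pCore_normal p
  have hc : g * v * g⁻¹ ∈ pCore p G := (inferInstance : (pCore p G).Normal).conj_mem v v.2 g
  have h1 : (⟨g * v * g⁻¹, hc⟩ : pCore p G) = w * v := by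
    apply Subtype.ext
    change g * v * g⁻¹ = w * v
    rw [hw]; group
  have h2 := F.equiv g v ⟨g * v * g⁻¹, hc⟩ rfl
  rw [h1, map_mul, toAdd_mul] at h2
  rw [LinearMap.sub_apply, Module.End.one_apply, ← h2, add_sub_cancel_right]

/-- the representation of the quotient group -/
def FMod.toX (F : FMod p G V) : Representation (ZMod p) (G ⧸ pCore p G) V :=
  QuotientGroup.lift (pCore p G) F.ρ (fun g hg => (F.faithful g).2 hg)

theorem FMod.toX_mk (F : FMod p G V) (g : G) : F.toX (QuotientGroup.mk g) = F.ρ g := rfl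

theorem FMod.toX_injective (F : FMod p G V) : Function.Injective F.toX := by
  rw [injective_iff_map_eq_one]
  intro x
  obtain ⟨g, rfl⟩ := QuotientGroup.mk_surjective x
  intro h
  rw [F.toX_mk] at h
  exact (QuotientGroup.eq_one_iff g).2 ((F.faithful g).1 h)

theorem FMod.exists_pi (F : FMod p G V) (u : V) : ∃ v : pCore p G, (F.π v).toAdd = u := by
  obtain ⟨v, hv⟩ := F.surj (Multiplicative.ofAdd u)
  exact ⟨v, by rw [hv]; rfl⟩

end FM

/-- `O_p(G/O_p(G)) = 1` -/
theorem pCore_quotient_eq_bot {G : Type u} [Group G] [Finite G] : pCore p (G ⧸ pCore p G) = ⊥ := by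
  haveI : (pCore p G).Normal := Solv.pCore_normal p
  have h1 : IsPGroup p (pCore p (G ⧸ pCore p G)) := Solv.pCore_isPGroup p
  have h0 : IsPGroup p (pCore p G) := Solv.pCore_isPGroup p
  haveI h2 : (pCore p (G ⧸ pCore p G)).Normal := Solv.pCore_normal p
  have h3 : ((pCore p (G ⧸ pCore p G)).comap (QuotientGroup.mk' (pCore p G))) ≤ pCore p G := by
    apply Solv.le_pCore inferInstance
    rintro ⟨g, hg⟩
    obtain ⟨k, hk⟩ := h1 ⟨_, hg⟩
    have h4 := congrArg Subtype.val hk
    change (QuotientGroup.mk' (pCore p G) g) ^ p ^ k = 1 at h4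
    rw [← map_pow] at h4
    have h5 : g ^ p ^ k ∈ pCore p G := (QuotientGroup.eq_one_iff _).1 h4
    obtain ⟨l, hl⟩ := h0 ⟨_, h5⟩
    refine ⟨k + l, Subtype.ext ?_⟩
    have h6 := congrArg Subtype.val hl
    change (g ^ p ^ k) ^ p ^ l = 1 at h6
    change g ^ p ^ (k + l) = 1
    rw [pow_add, pow_mul, h6]
  rw [eq_bot_iff]
  intro y hy
  obtain ⟨x, rfl⟩ := QuotientGroup.mk'_surjective _ y
  exact (QuotientGroup.eq_one_iff x).2 (h3 hy)

/-- a nontrivial `p`-subgroup of a `p`-solvable group with `O_p = 1` acts nontrivially on `O_{p'}`. -/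
theorem comm_pPrimeCore_ne {G : Type u} [Group G] [Finite G] (hG : IsPSolvable p G) (hcore : pCore p G = ⊥)
    {A : Subgroup G} (hA : IsPGroup p A) (hA1 : A ≠ ⊥) : ⁅pPrimeCore p G, A⁆ ≠ ⊥ := by
  intro h
  rw [Subgroup.commutator_comm, commutator_eq_bot_iff_le_centralizer] at h
  have h1 : A ≤ pPrimeCore p G := h.trans (H79.centralizer_pPrimeCore_le hG hcore)
  apply hA1
  have h2 := Nat.Coprime.coprime_dvd_left (Subgroup.card_dvd_of_le h1) (Solv.pPrimeCore_card_coprime (G := G) p)
  obtain ⟨k, hk⟩ := IsPGroup.iff_card.1 hA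
  rw [hk] at h2
  by_cases hk0 : k = 0
  · rw [← Subgroup.card_eq_one, hk, hk0, pow_zero]
  · rw [Nat.coprime_pow_left_iff (by omega)] at h2
    exact absurd ((Nat.coprime_self _).1 h2) hp.out.one_lt.ne'

end Cfsg.Agent.HH
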