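import Mathlib.Algebra.Module.ZMod
import Mathlib.LinearAlgebra.Basis.VectorSpace
import Mathlib.Data.ZMod.Basic
import Mathlib.Tactic

set_option autoImplicit false

/-!
Cocycles on vector spaces over the field with two elements.
-/

namespace Cfsg.Agent.HH

lemma z2_add_self (a : ZMod 2) : a + a = 0 := by revert a; decide

lemma z2_mul_self (a : ZMod 2) : a * a = a := by revert a; decide

/-- the twisted product -/
@[ext] structure Tw (V : Type*) where
  /-- first component -/
  a : V
  /-- second component -/
  b : ZMod 2

section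

variable {V : Type*} [AddCommGroup V] (κ : V → V → ZMod 2)
  (hs : ∀ x y, κ x y = κ y x) (hd : ∀ x, κ x x = 0)
  (hc : ∀ x y z, κ y z + κ (x + y) z + κ x (y + z) + κ x y = 0)

include hd hc in
lemma tw_zero (z : V) : κ 0 z = 0 := by
  have h := hc 0 0 z
  rw [add_zero, zero_add, hd 0, add_zero, z2_add_self, zero_add] at h
  exact h

/-- the group structure on the twisted product -/
@[reducible] def twGroup (h2 : ∀ x : V, x + x = 0) : AddCommGroup (Tw V) where
  add x y := ⟨x.a + y.a, x.b + y.b + κ x.a y.a⟩
  zero := ⟨0, 0⟩
  neg x := x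
  nsmul := @nsmulRec _ ⟨⟨0, 0⟩⟩ ⟨fun x y => ⟨x.a + y.a, x.b + y.b + κ x.a y.a⟩⟩
  zsmul := @zsmulRec _ ⟨⟨0, 0⟩⟩ ⟨fun x y => ⟨x.a + y.a, x.b + y.b + κ x.a y.a⟩⟩ ⟨fun x => x⟩
    (@nsmulRec _ ⟨⟨0, 0⟩⟩ ⟨fun x y => ⟨x.a + y.a, x.b + y.b + κ x.a y.a⟩⟩)
  add_assoc x y z := by
    apply Tw.ext
    · exact add_assoc _ _ _
    · change x.b + y.b + κ x.a y.a + z.b + κ (x.a + y.a) z.a = x.b + (y.b + z.b + κ y.a z.a) + κ x.a (y.a + z.a)
      have h := hc x.a y.a z.a
      have e1 := z2_add_self (κ y.a z.a)
      have e2 := z2_add_self (κ x.a (y.a + z.a))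
      linear_combination h - e1 - e2
  zero_add x := by
    apply Tw.ext
    · exact zero_add _
    · change 0 + x.b + κ 0 x.a = x.b
      rw [tw_zero κ hd hc, zero_add, add_zero]
  add_zero x := by
    apply Tw.ext
    · exact add_zero _
    · change x.b + 0 + κ x.a 0 = x.b
      rw [hs, tw_zero κ hd hc, add_zero, add_zero]
  neg_add_cancel x := by
    apply Tw.ext
    · exact h2 _
    · change x.b + x.b + κ x.a x.a = 0
      rw [hd, z2_add_self, add_zero]
  add_comm x y := by
    apply Tw.ext
    · exact add_comm _ _
    · change x.b + y.b + κ x.a y.a = y.b + x.b + κ y.a x.a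
      rw [hs, add_comm x.b]

include hs hd hc in
/-- a symmetric cocycle with zero diagonal is a coboundary -/
theorem exists_coboundary [Module (ZMod 2) V] : ∃ f : V → ZMod 2, ∀ x y, f (x + y) = f x + f y + κ x y := by
  have h2 : ∀ x : V, x + x = 0 := by
    intro x
    rw [← one_smul (ZMod 2) x, ← add_smul, z2_add_self, zero_smul]
  letI : AddCommGroup (Tw V) := twGroup κ hs hd hc h2
  have hadd : ∀ x y : Tw V, x + y = ⟨x.a + y.a, x.b + y.b + κ x.a y.a⟩ := fun _ _ => rfl
  letI : Module (ZMod 2) (Tw V) := AddCommGroup.zmodModule (by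
    intro x
    rw [two_nsmul]
    exact neg_add_cancel x)
  let π : Tw V →+ V := { toFun := Tw.a, map_zero' := rfl, map_add' := fun _ _ => rfl }
  let π' : Tw V →ₗ[ZMod 2] V := π.toZModLinearMap 2
  have hsur : LinearMap.range π' = ⊤ := by
    rw [LinearMap.range_eq_top]
    intro x
    exact ⟨⟨x, 0⟩, rfl⟩
  obtain ⟨g, hg⟩ := π'.exists_rightInverse_of_surjective hsur
  have hg2 : ∀ x, (g x).a = x := fun x => LinearMap.congr_fun hg x
  refine ⟨fun x => (g x).b, fun x y => ?_⟩
  have h := congrArg Tw.b (map_add g x y)
  rw [hadd, hg2, hg2] at h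
  exact h

end

/-! ### the cocycle of a cubic form -/

section theta

variable {V : Type*} [AddCommGroup V] [Module (ZMod 2) V] {n : ℕ} (b : Fin n → V) (c : Fin n → V →ₗ[ZMod 2] ZMod 2)
  (q : V → ZMod 2) (β : V → V → ZMod 2) (α : V → V → V →ₗ[ZMod 2] ZMod 2)

/-- the cocycle -/
def theta (x y : V) : ZMod 2 :=
  ∑ k, c k y * (β x (b k) + c k x * q (b k) + ∑ i, if i < k then c i x * β (b i) (b k) else 0)

variable (hb : ∀ x, x = ∑ i, c i x • b i) (hcb : ∀ i j, c i (b j) = if i = j then 1 else 0)
  (hβs : ∀ x y, β x y = β y x) (hβd : ∀ x, β x x = 0) (hβ : ∀ x y z, β (x + y) z = β x z + β y z + α x y z)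
  (hα : ∀ x y, α x y x = 0) (hα' : ∀ x y, α x y y = 0)
  (hq : ∀ x y, q (x + y) = q x + q y + β x y)

include hb in
lemma lin_expand (l : V →ₗ[ZMod 2] ZMod 2) (x : V) : l x = ∑ k, c k x * l (b k) := by
  conv_lhs => rw [hb x]
  rw [map_sum]
  simp only [map_smul, smul_eq_mul]

lemma theta_add_right (x y y' : V) : theta b c q β x (y + y') = theta b c q β x y + theta b c q β x y' := by
  unfold theta
  rw [← Finset.sum_add_distrib]
  apply Finset.sum_congr rfl
  intro k _
  rw [map_add]; ring

include hb hβ in
lemma theta_add_left (x x' y : V) : theta b c q β (x + x') y = theta b c q β x y + theta b c q β x' y + α x x' y := by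
  unfold theta
  rw [lin_expand b c hb (α x x') y, ← Finset.sum_add_distrib, ← Finset.sum_add_distrib]
  apply Finset.sum_congr rfl
  intro k _
  have e : (∑ i, if i < k then c i (x + x') * β (b i) (b k) else 0) =
      (∑ i, if i < k then c i x * β (b i) (b k) else 0) + ∑ i, if i < k then c i x' * β (b i) (b k) else 0 := by
    rw [← Finset.sum_add_distrib]
    apply Finset.sum_congr rfl
    intro i _
    split_ifs
    · rw [map_add]; ring
    · rw [add_zero]
  rw [e, hβ, map_add]
  ring

include hb hβ in
lemma theta_assoc (x y z : V) : theta b c q β y z + theta b c q β (x + y) z + theta b c q β x (y + z) + theta b c q β x y = α x y z := by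
  rw [theta_add_left b c q β α hb hβ, theta_add_right]
  have e1 := z2_add_self (theta b c q β y z)
  have e2 := z2_add_self (theta b c q β x z)
  have e3 := z2_add_self (theta b c q β x y)
  linear_combination e1 + e2 + e3

include hcb in
lemma theta_basis (i j : Fin n) : theta b c q β (b i) (b j) = β (b i) (b j) + (if i = j then q (b j) else 0) +
    (if i < j then β (b i) (b j) else 0) := by
  unfold theta
  rw [Finset.sum_eq_single j]
  · rw [hcb, if_pos rfl, one_mul, hcb]
    congr 1
    · by_cases h : i = j
      · subst h; simp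
      · rw [if_neg (Ne.symm h), if_neg h, zero_mul]
    · by_cases h : i < j
      · rw [if_pos h, Finset.sum_eq_single i]
        · rw [if_pos h, hcb, if_pos rfl, one_mul]
        · intro k _ hk
          rw [hcb, if_neg hk]; simp
        · simp
      · rw [if_neg h]
        apply Finset.sum_eq_zero
        intro k _
        split_ifs with h1
        · rw [hcb, if_neg, zero_mul]
          rintro rfl; exact h h1
        · rfl
  · intro k _ hk
    rw [hcb, if_neg hk, zero_mul]
  · simp

include hb hcb hβs hβd hβ in
lemma theta_comm (x y : V) : theta b c q β x y + theta b c q β y x = β x y := by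
  -- the difference is biadditive
  let D : V → V → ZMod 2 := fun x y => theta b c q β x y + theta b c q β y x + β x y
  have hDs : ∀ x y, D x y = D y x := by
    intro x y; simp only [D]; rw [hβs]; ring
  have hDadd : ∀ x x' y, D (x + x') y = D x y + D x' y := by
    intro x x' y
    simp only [D]
    rw [theta_add_left b c q β α hb hβ, theta_add_right, hβ]
    have e := z2_add_self (α x x' y)
    linear_combination e
  have hDz : ∀ y, D 0 y = 0 := by
    intro y
    have := hDadd 0 0 y
    rw [add_zero] at this
    have e := z2_add_self (D 0 y)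
    rw [e] at this; exact this
  have hDsmul : ∀ (t : ZMod 2) x y, D (t • x) y = t * D x y := by
    intro t x y
    have : t = 0 ∨ t = 1 := by revert t; decide
    rcases this with rfl | rfl
    · rw [zero_smul, hDz, zero_mul]
    · rw [one_smul, one_mul]
  have hDsum : ∀ (s : Finset (Fin n)) (f : Fin n → V) y, D (∑ i ∈ s, f i) y = ∑ i ∈ s, D (f i) y := by
    intro s f y
    classical
    induction s using Finset.induction_on with
    | empty => rw [Finset.sum_empty, Finset.sum_empty, hDz]
    | insert a s ha ih => rw [Finset.sum_insert ha, Finset.sum_insert ha, hDadd, ih]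
  have hDb : ∀ i j, D (b i) (b j) = 0 := by
    intro i j
    simp only [D]
    rw [theta_basis b c q β hcb, theta_basis b c q β hcb]
    have e0 := z2_add_self (β (b i) (b j))
    have e1 := z2_add_self (q (b j))
    rcases lt_trichotomy i j with h | h | h
    · rw [if_neg h.ne, if_pos h, if_neg h.ne', if_neg (not_lt_of_gt h), hβs (b j) (b i)]
      linear_combination 2 * e0
    · subst h
      rw [if_pos rfl, if_neg (lt_irrefl _), hβd]
      linear_combination e1
    · rw [if_neg h.ne', if_neg (not_lt_of_gt h), if_neg h.ne, if_pos h, hβs (b j) (b i)]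
      linear_combination 2 * e0
  have key : D x y = 0 := by
    rw [hb x, hDsum]
    apply Finset.sum_eq_zero
    intro i _
    rw [hDsmul, hDs, hb y, hDsum]
    rw [Finset.sum_eq_zero, mul_zero]
    intro j _
    rw [hDsmul, hDb, mul_zero]
  have e := z2_add_self (β x y)
  have key' : theta b c q β x y + theta b c q β y x + β x y = 0 := key
  linear_combination key' - e

include hb hcb hβs hβd hβ hα hα' hq in
lemma theta_diag (x : V) : theta b c q β x x = q x := by
  let R : V → ZMod 2 := fun x => theta b c q β x x + q x
  have hR : ∀ x y, R (x + y) = R x + R y := by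
    intro x y
    simp only [R]
    have h1 := theta_comm b c q β α hb hcb hβs hβd hβ x y
    have e := z2_add_self (β x y)
    rw [theta_add_left b c q β α hb hβ, theta_add_right, theta_add_right, map_add, hα, hα', hq]
    linear_combination h1 + e
  have hR0 : R 0 = 0 := by
    have := hR 0 0
    rw [add_zero, z2_add_self] at this
    exact this
  have hRsmul : ∀ (t : ZMod 2) x, R (t • x) = t * R x := by
    intro t x
    have : t = 0 ∨ t = 1 := by revert t; decide
    rcases this with rfl | rfl
    · rw [zero_smul, hR0, zero_mul]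
    · rw [one_smul, one_mul]
  have hRsum : ∀ (s : Finset (Fin n)) (f : Fin n → V), R (∑ i ∈ s, f i) = ∑ i ∈ s, R (f i) := by
    intro s f
    classical
    induction s using Finset.induction_on with
    | empty => rw [Finset.sum_empty, Finset.sum_empty, hR0]
    | insert a s ha ih => rw [Finset.sum_insert ha, Finset.sum_insert ha, hR, ih]
  have key : R x = 0 := by
    rw [hb x, hRsum]
    apply Finset.sum_eq_zero
    intro i _
    rw [hRsmul]
    have : R (b i) = 0 := by
      simp only [R]
      rw [theta_basis b c q β hcb, if_pos rfl, if_neg (lt_irrefl _), hβd, zero_add, add_zero, z2_add_self]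
    rw [this, mul_zero]
  have e := z2_add_self (q x)
  have key' : theta b c q β x x + q x = 0 := key
  linear_combination key' - e

end theta

end Cfsg.Agent.HH
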