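import Mathlib
import Cfsg.Agent.BG3.Section

set_option autoImplicit false

/-!
An elementary abelian subgroup as a module for a group normalizing it.
-/

namespace Cfsg.Agent.HH

open Subgroup

universe u

variable {X : Type u} [Group X]

/-- `V` as a module for `Y`. -/
structure EMod (ℓ : ℕ) (V Y : Subgroup X) (A : Type*) [AddCommGroup A] [Module (ZMod ℓ) A] where
  π : V → A
  ρ : Y →* Module.End (ZMod ℓ) A
  bij : Function.Bijective π
  mul : ∀ a b : V, π (a * b) = π a + π b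
  equiv : ∀ (y : Y) (v w : V), (w : X) = y * v * (y : X)⁻¹ → π w = ρ y (π v)

theorem exists_emod [Finite X] {ℓ : ℕ} [hl : Fact ℓ.Prime] {V Y : Subgroup X} (hV : IsElementaryAbelian ℓ V)
    (hY : Y ≤ normalizer (V : Set X)) :
    ∃ (A : Type u) (_ : AddCommGroup A) (_ : Module (ZMod ℓ) A) (_ : Finite A), Nonempty (EMod ℓ V Y A) := by
  have hbot : ∀ Z : Subgroup X, Z ≤ normalizer ((⊥ : Subgroup X) : Set X) := by
    intro Z
    rw [normalizer_eq_top]
    exact le_top
  obtain ⟨A, hA1, hA2, ⟨S⟩⟩ := BG3.exists_secMod (ℓ := ℓ) (M := V) (M1 := ⊥) (Y := Y) (hbot V) hY (hbot Y)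
    (fun x hx => by rw [mem_bot]; exact hV.2 x hx) (by
      intro x hx y hy
      rw [mem_bot, mul_inv_eq_one, mul_inv_eq_iff_eq_mul]
      exact congrArg Subtype.val (hV.1.1.1 ⟨x, hx⟩ ⟨y, hy⟩))
  refine ⟨A, hA1, hA2, S.finite, ⟨{
    π := fun v => (S.π v).toAdd
    ρ := S.ρ
    bij := ?_
    mul := fun a b => by rw [map_mul, toAdd_mul]
    equiv := ?_ }⟩⟩
  · constructor
    · intro a b hab
      have h1 : S.π a = S.π b := Multiplicative.toAdd.injective hab
      rw [S.eq_iff, mem_bot, mul_inv_eq_one] at h1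
      exact Subtype.ext h1
    · intro a
      exact S.exists_rep a
  · intro y v w hw
    have h1 := S.equiv y v
    have h2 : BG3.cjHom hY y v = w := Subtype.ext hw.symm
    rw [h2] at h1
    exact h1

namespace EMod

variable {ℓ : ℕ} {V Y : Subgroup X} {A : Type*} [AddCommGroup A] [Module (ZMod ℓ) A]

theorem map_one (E : EMod ℓ V Y A) : E.π 1 = 0 := by
  have h := E.mul 1 1
  rw [mul_one] at h
  exact left_eq_add.1 h

theorem injective (E : EMod ℓ V Y A) (hYV : Y ≤ normalizer (V : Set X)) (h : Y ⊓ centralizer (V : Set X) = ⊥) :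
    Function.Injective E.ρ := by
  rw [injective_iff_map_eq_one]
  intro y hy
  have h1 : (y : X) ∈ Y ⊓ centralizer (V : Set X) := by
    refine ⟨y.2, mem_centralizer_iff.2 ?_⟩
    intro v hv
    have h2 : (y : X) * v * (y : X)⁻¹ ∈ V := (mem_normalizer_iff.1 (hYV y.2) v).1 hv
    have h3 := E.equiv y ⟨v, hv⟩ ⟨_, h2⟩ rfl
    rw [hy] at h3
    have h4 := congrArg Subtype.val (E.bij.1 h3)
    have h5 : (y : X) * v * (y : X)⁻¹ = v := h4
    rw [mul_inv_eq_iff_eq_mul] at h5
    exact h5.symm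
  rw [h, mem_bot] at h1
  exact Subtype.ext h1

theorem fixed (E : EMod ℓ V Y A) (hYV : Y ≤ normalizer (V : Set X)) (y : Y) {a : A} (ha : E.ρ y a = a) :
    ∃ v : V, E.π v = a ∧ (y : X) * v = v * y := by
  obtain ⟨v, rfl⟩ := E.bij.2 a
  refine ⟨v, rfl, ?_⟩
  have h2 : (y : X) * v * (y : X)⁻¹ ∈ V := (mem_normalizer_iff.1 (hYV y.2) v).1 v.2
  have h3 := E.equiv y v ⟨_, h2⟩ rfl
  rw [ha] at h3
  have h4 := congrArg Subtype.val (E.bij.1 h3)
  have h5 : (y : X) * v * (y : X)⁻¹ = v := h4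
  rwa [mul_inv_eq_iff_eq_mul] at h5

end EMod

end Cfsg.Agent.HH
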