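import Cfsg.Agent.HH.PackMat

set_option autoImplicit false
set_option maxHeartbeats 4000000
set_option maxRecDepth 100000

/-!
Nine matrices of degree 78 over the field with 13 elements satisfying the relations of the Fischer group.
-/

namespace Cfsg.Agent.HH.F78

open Cfsg.Agent.HH.PM

/-- matrix `a` -/
def ma : List (List (ℕ × ℕ)) := [
  [(0, 1)],
  [(1, 1)],
  [(2, 12)],
  [(3, 12)],
  [(4, 12)],
  [(5, 1)],
  [(6, 1)],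
  [(7, 12)],
  [(8, 12)],
  [(9, 12)],
  [(10, 1)],
  [(11, 12)],
  [(12, 12)],
  [(13, 12)],
  [(14, 1)],
  [(15, 12)],
  [(16, 1)],
  [(17, 12)],
  [(18, 12)],
  [(19, 12)],
  [(20, 12)],
  [(21, 12)],
  [(22, 1)],
  [(23, 12)],
  [(24, 12)],
  [(25, 1)],
  [(26, 12)],
  [(27, 12)],
  [(28, 12)],
  [(29, 12)],
  [(30, 12)],
  [(31, 1)],
  [(32, 1)],
  [(33, 12)],
  [(34, 12)],
  [(35, 12)],
  [(36, 12)],
  [(37, 1)],
  [(38, 12)],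
  [(39, 1)],
  [(40, 12)],
  [(41, 1)],
  [(42, 12)],
  [(43, 12)],
  [(44, 12)],
  [(45, 1)],
  [(46, 12)],
  [(47, 12)],
  [(48, 1)],
  [(49, 12)],
  [(50, 1)],
  [(51, 12)],
  [(52, 12)],
  [(53, 12)],
  [(54, 12)],
  [(55, 12)],
  [(56, 12)],
  [(57, 1)],
  [(58, 12)],
  [(59, 12)],
  [(60, 12)],
  [(61, 1)],
  [(62, 12)],
  [(63, 1)],
  [(64, 12)],
  [(65, 12)],
  [(66, 12)],
  [(67, 12)],
  [(68, 1)],
  [(69, 12)],
  [(70, 12)],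
  [(71, 12)],
  [(72, 12)],
  [(73, 12)],
  [(74, 12)],
  [(75, 12)],
  [(76, 12)],
  [(77, 1)]]

/-- matrix `b` -/
def mb : List (List (ℕ × ℕ)) := [
  [(0, 6), (71, 5)],
  [(1, 6), (12, 7), (21, 7), (43, 7)],
  [(2, 6), (8, 7), (9, 7), (50, 7)],
  [(3, 3), (5, 10), (6, 10), (7, 3), (11, 3), (13, 3), (20, 10), (22, 3), (24, 10), (25, 3), (41, 3), (44, 10), (45, 3), (46, 10), (51, 3), (52, 3)],
  [(4, 6), (10, 7), (23, 7), (42, 7)],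
  [(3, 10), (5, 3), (6, 3), (7, 10), (11, 3), (13, 3), (20, 3), (22, 10), (24, 10), (25, 3), (41, 3), (44, 10), (45, 10), (46, 3), (51, 3), (52, 3)],
  [(3, 10), (5, 3), (6, 3), (7, 10), (11, 3), (13, 3), (20, 10), (22, 3), (24, 3), (25, 10), (41, 10), (44, 3), (45, 3), (46, 10), (51, 3), (52, 3)],
  [(3, 3), (5, 10), (6, 10), (7, 3), (11, 3), (13, 3), (20, 3), (22, 10), (24, 3), (25, 10), (41, 10), (44, 3), (45, 10), (46, 3), (51, 3), (52, 3)],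
  [(2, 7), (8, 6), (9, 7), (50, 7)],
  [(2, 7), (8, 7), (9, 6), (50, 7)],
  [(4, 7), (10, 6), (23, 7), (42, 7)],
  [(3, 3), (5, 3), (6, 3), (7, 3), (11, 3), (13, 3), (20, 10), (22, 10), (24, 10), (25, 10), (41, 3), (44, 3), (45, 3), (46, 3), (51, 10), (52, 10)],
  [(1, 7), (12, 6), (21, 7), (43, 7)],
  [(3, 3), (5, 3), (6, 3), (7, 3), (11, 3), (13, 3), (20, 3), (22, 3), (24, 3), (25, 3), (41, 10), (44, 10), (45, 10), (46, 10), (51, 10), (52, 10)],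
  [(14, 6), (18, 6), (28, 6), (47, 7)],
  [(15, 6), (19, 7), (26, 6), (48, 6)],
  [(16, 6), (17, 6), (27, 6), (49, 7)],
  [(16, 6), (17, 6), (27, 7), (49, 6)],
  [(14, 6), (18, 6), (28, 7), (47, 6)],
  [(15, 7), (19, 6), (26, 6), (48, 6)],
  [(3, 10), (5, 3), (6, 10), (7, 3), (11, 10), (13, 3), (20, 3), (22, 10), (24, 3), (25, 3), (41, 3), (44, 3), (45, 3), (46, 10), (51, 3), (52, 10)],
  [(1, 7), (12, 7), (21, 6), (43, 7)],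
  [(3, 3), (5, 10), (6, 3), (7, 10), (11, 10), (13, 3), (20, 10), (22, 3), (24, 3), (25, 3), (41, 3), (44, 3), (45, 10), (46, 3), (51, 3), (52, 10)],
  [(4, 7), (10, 7), (23, 6), (42, 7)],
  [(3, 10), (5, 10), (6, 3), (7, 3), (11, 10), (13, 3), (20, 3), (22, 3), (24, 3), (25, 10), (41, 3), (44, 10), (45, 3), (46, 3), (51, 10), (52, 3)],
  [(3, 3), (5, 3), (6, 10), (7, 10), (11, 10), (13, 3), (20, 3), (22, 3), (24, 10), (25, 3), (41, 10), (44, 3), (45, 3), (46, 3), (51, 10), (52, 3)],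
  [(15, 6), (19, 6), (26, 6), (48, 7)],
  [(16, 6), (17, 7), (27, 6), (49, 6)],
  [(14, 6), (18, 7), (28, 6), (47, 6)],
  [(29, 6), (32, 6), (40, 6), (54, 7)],
  [(30, 6), (31, 6), (38, 6), (55, 7)],
  [(30, 6), (31, 6), (38, 7), (55, 6)],
  [(29, 6), (32, 6), (40, 7), (54, 6)],
  [(33, 6), (34, 7), (39, 6), (53, 6)],
  [(33, 7), (34, 6), (39, 6), (53, 6)],
  [(35, 6), (36, 7), (37, 7), (56, 7)],
  [(35, 7), (36, 6), (37, 7), (56, 7)],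
  [(35, 7), (36, 7), (37, 6), (56, 7)],
  [(30, 6), (31, 7), (38, 6), (55, 6)],
  [(33, 6), (34, 6), (39, 6), (53, 7)],
  [(29, 6), (32, 7), (40, 6), (54, 6)],
  [(3, 3), (5, 3), (6, 10), (7, 10), (11, 3), (13, 10), (20, 3), (22, 3), (24, 3), (25, 10), (41, 3), (44, 10), (45, 3), (46, 3), (51, 3), (52, 10)],
  [(4, 7), (10, 7), (23, 7), (42, 6)],
  [(1, 7), (12, 7), (21, 7), (43, 6)],
  [(3, 10), (5, 10), (6, 3), (7, 3), (11, 3), (13, 10), (20, 3), (22, 3), (24, 10), (25, 3), (41, 10), (44, 3), (45, 3), (46, 3), (51, 3), (52, 10)],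
  [(3, 3), (5, 10), (6, 3), (7, 10), (11, 3), (13, 10), (20, 3), (22, 10), (24, 3), (25, 3), (41, 3), (44, 3), (45, 3), (46, 10), (51, 10), (52, 3)],
  [(3, 10), (5, 3), (6, 10), (7, 3), (11, 3), (13, 10), (20, 10), (22, 3), (24, 3), (25, 3), (41, 3), (44, 3), (45, 10), (46, 3), (51, 10), (52, 3)],
  [(14, 7), (18, 6), (28, 6), (47, 6)],
  [(15, 6), (19, 6), (26, 7), (48, 6)],
  [(16, 7), (17, 6), (27, 6), (49, 6)],
  [(2, 7), (8, 7), (9, 7), (50, 6)],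
  [(3, 3), (5, 3), (6, 3), (7, 3), (11, 10), (13, 10), (20, 3), (22, 3), (24, 10), (25, 10), (41, 3), (44, 3), (45, 10), (46, 10), (51, 3), (52, 3)],
  [(3, 3), (5, 3), (6, 3), (7, 3), (11, 10), (13, 10), (20, 10), (22, 10), (24, 3), (25, 3), (41, 10), (44, 10), (45, 3), (46, 3), (51, 3), (52, 3)],
  [(33, 6), (34, 6), (39, 7), (53, 6)],
  [(29, 7), (32, 6), (40, 6), (54, 6)],
  [(30, 7), (31, 6), (38, 6), (55, 6)],
  [(35, 7), (36, 7), (37, 7), (56, 6)],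
  [(57, 6), (59, 6), (60, 6), (76, 7)],
  [(58, 6), (63, 7), (66, 6), (74, 6)],
  [(57, 6), (59, 6), (60, 7), (76, 6)],
  [(57, 6), (59, 7), (60, 6), (76, 6)],
  [(61, 6), (62, 7), (67, 6), (73, 6)],
  [(61, 7), (62, 6), (67, 6), (73, 6)],
  [(58, 7), (63, 6), (66, 6), (74, 6)],
  [(64, 6), (65, 7), (68, 7), (75, 7)],
  [(64, 7), (65, 6), (68, 7), (75, 7)],
  [(58, 6), (63, 6), (66, 6), (74, 7)],
  [(61, 6), (62, 6), (67, 6), (73, 7)],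
  [(64, 7), (65, 7), (68, 6), (75, 7)],
  [(69, 6), (70, 7), (72, 7), (77, 7)],
  [(69, 7), (70, 6), (72, 7), (77, 7)],
  [(0, 6), (71, 7)],
  [(69, 7), (70, 7), (72, 6), (77, 7)],
  [(61, 6), (62, 6), (67, 7), (73, 6)],
  [(58, 6), (63, 6), (66, 7), (74, 6)],
  [(64, 7), (65, 7), (68, 7), (75, 6)],
  [(57, 7), (59, 6), (60, 6), (76, 6)],
  [(69, 7), (70, 7), (72, 7), (77, 6)]]

/-- matrix `c` -/
def mc : List (List (ℕ × ℕ)) := [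
  [(0, 1)],
  [(1, 1)],
  [(2, 12)],
  [(3, 12)],
  [(4, 1)],
  [(5, 12)],
  [(6, 12)],
  [(7, 12)],
  [(8, 12)],
  [(9, 1)],
  [(10, 12)],
  [(11, 1)],
  [(12, 12)],
  [(13, 1)],
  [(14, 12)],
  [(15, 1)],
  [(16, 12)],
  [(17, 12)],
  [(18, 12)],
  [(19, 12)],
  [(20, 1)],
  [(21, 12)],
  [(22, 1)],
  [(23, 12)],
  [(24, 12)],
  [(25, 12)],
  [(26, 12)],
  [(27, 1)],
  [(28, 12)],
  [(29, 12)],
  [(30, 12)],
  [(31, 12)],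
  [(32, 12)],
  [(33, 1)],
  [(34, 12)],
  [(35, 12)],
  [(36, 12)],
  [(37, 1)],
  [(38, 1)],
  [(39, 12)],
  [(40, 12)],
  [(41, 1)],
  [(42, 12)],
  [(43, 12)],
  [(44, 1)],
  [(45, 12)],
  [(46, 12)],
  [(47, 1)],
  [(48, 12)],
  [(49, 12)],
  [(50, 12)],
  [(51, 12)],
  [(52, 12)],
  [(53, 12)],
  [(54, 1)],
  [(55, 12)],
  [(56, 12)],
  [(57, 12)],
  [(58, 1)],
  [(59, 12)],
  [(60, 12)],
  [(61, 1)],
  [(62, 12)],
  [(63, 12)],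
  [(64, 1)],
  [(65, 12)],
  [(66, 12)],
  [(67, 12)],
  [(68, 12)],
  [(69, 1)],
  [(70, 12)],
  [(71, 12)],
  [(72, 12)],
  [(73, 12)],
  [(74, 12)],
  [(75, 12)],
  [(76, 1)],
  [(77, 12)]]

/-- matrix `d` -/
def md : List (List (ℕ × ℕ)) := [
  [(0, 6), (16, 8)],
  [(1, 6), (32, 6), (50, 6), (63, 6)],
  [(2, 6), (12, 6), (54, 6), (66, 6)],
  [(3, 6), (33, 6), (46, 6), (67, 6)],
  [(4, 3), (13, 10), (23, 3), (24, 10), (34, 10), (38, 3), (44, 10), (51, 10), (53, 10), (55, 3), (60, 3), (62, 10), (69, 3), (72, 3), (73, 10), (76, 3)],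
  [(5, 6), (39, 7), (45, 6), (61, 7)],
  [(6, 6), (10, 6), (22, 7), (77, 7)],
  [(7, 6), (20, 7), (42, 6), (70, 7)],
  [(8, 6), (40, 7), (43, 6), (58, 7)],
  [(9, 6), (21, 6), (29, 6), (74, 6)],
  [(6, 6), (10, 6), (22, 6), (77, 6)],
  [(11, 6), (30, 6), (52, 6), (59, 6)],
  [(2, 6), (12, 6), (54, 7), (66, 7)],
  [(4, 10), (13, 3), (23, 10), (24, 3), (34, 10), (38, 3), (44, 10), (51, 10), (53, 3), (55, 10), (60, 10), (62, 3), (69, 3), (72, 3), (73, 10), (76, 3)],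
  [(14, 6), (37, 6), (48, 6), (68, 6)],
  [(15, 6), (28, 6), (36, 6), (75, 6)],
  [(0, 7), (16, 7)],
  [(17, 6), (27, 7), (49, 6), (71, 7)],
  [(18, 6), (19, 6), (56, 7), (64, 7)],
  [(18, 6), (19, 6), (56, 6), (64, 6)],
  [(7, 7), (20, 6), (42, 6), (70, 7)],
  [(9, 6), (21, 6), (29, 7), (74, 7)],
  [(6, 7), (10, 6), (22, 6), (77, 7)],
  [(4, 3), (13, 10), (23, 3), (24, 10), (34, 3), (38, 10), (44, 10), (51, 10), (53, 3), (55, 10), (60, 10), (62, 3), (69, 3), (72, 3), (73, 3), (76, 10)],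
  [(4, 10), (13, 3), (23, 10), (24, 3), (34, 3), (38, 10), (44, 10), (51, 10), (53, 10), (55, 3), (60, 3), (62, 10), (69, 3), (72, 3), (73, 3), (76, 10)],
  [(25, 6), (31, 7), (41, 6), (57, 7)],
  [(26, 6), (35, 7), (47, 6), (65, 7)],
  [(17, 7), (27, 6), (49, 6), (71, 7)],
  [(15, 6), (28, 6), (36, 7), (75, 7)],
  [(9, 6), (21, 7), (29, 6), (74, 7)],
  [(11, 6), (30, 6), (52, 7), (59, 7)],
  [(25, 7), (31, 6), (41, 6), (57, 7)],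
  [(1, 6), (32, 6), (50, 7), (63, 7)],
  [(3, 6), (33, 6), (46, 7), (67, 7)],
  [(4, 10), (13, 10), (23, 3), (24, 3), (34, 3), (38, 10), (44, 3), (51, 10), (53, 10), (55, 10), (60, 3), (62, 3), (69, 10), (72, 3), (73, 10), (76, 3)],
  [(26, 7), (35, 6), (47, 6), (65, 7)],
  [(15, 6), (28, 7), (36, 6), (75, 7)],
  [(14, 6), (37, 6), (48, 7), (68, 7)],
  [(4, 3), (13, 3), (23, 10), (24, 10), (34, 10), (38, 3), (44, 3), (51, 10), (53, 10), (55, 10), (60, 3), (62, 3), (69, 10), (72, 3), (73, 3), (76, 10)],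
  [(5, 7), (39, 6), (45, 6), (61, 7)],
  [(8, 7), (40, 6), (43, 6), (58, 7)],
  [(25, 6), (31, 6), (41, 6), (57, 6)],
  [(7, 6), (20, 6), (42, 6), (70, 6)],
  [(8, 6), (40, 6), (43, 6), (58, 6)],
  [(4, 10), (13, 10), (23, 10), (24, 10), (34, 3), (38, 3), (44, 3), (51, 3), (53, 10), (55, 10), (60, 10), (62, 10), (69, 3), (72, 3), (73, 3), (76, 3)],
  [(5, 6), (39, 6), (45, 6), (61, 6)],
  [(3, 6), (33, 7), (46, 6), (67, 7)],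
  [(26, 6), (35, 6), (47, 6), (65, 6)],
  [(14, 6), (37, 7), (48, 6), (68, 7)],
  [(17, 6), (27, 6), (49, 6), (71, 6)],
  [(1, 6), (32, 7), (50, 6), (63, 7)],
  [(4, 10), (13, 10), (23, 10), (24, 10), (34, 10), (38, 10), (44, 3), (51, 3), (53, 3), (55, 3), (60, 3), (62, 3), (69, 3), (72, 3), (73, 10), (76, 10)],
  [(11, 6), (30, 7), (52, 6), (59, 7)],
  [(4, 10), (13, 3), (23, 3), (24, 10), (34, 10), (38, 10), (44, 10), (51, 3), (53, 3), (55, 10), (60, 3), (62, 10), (69, 10), (72, 3), (73, 3), (76, 3)],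
  [(2, 6), (12, 7), (54, 6), (66, 7)],
  [(4, 3), (13, 10), (23, 10), (24, 3), (34, 10), (38, 10), (44, 10), (51, 3), (53, 10), (55, 3), (60, 10), (62, 3), (69, 10), (72, 3), (73, 3), (76, 3)],
  [(18, 7), (19, 6), (56, 6), (64, 7)],
  [(25, 7), (31, 7), (41, 6), (57, 6)],
  [(8, 7), (40, 7), (43, 6), (58, 6)],
  [(11, 6), (30, 7), (52, 7), (59, 6)],
  [(4, 3), (13, 10), (23, 10), (24, 3), (34, 3), (38, 3), (44, 10), (51, 3), (53, 3), (55, 10), (60, 3), (62, 10), (69, 10), (72, 3), (73, 10), (76, 10)],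
  [(5, 7), (39, 7), (45, 6), (61, 6)],
  [(4, 10), (13, 3), (23, 3), (24, 10), (34, 3), (38, 3), (44, 10), (51, 3), (53, 10), (55, 3), (60, 10), (62, 3), (69, 10), (72, 3), (73, 10), (76, 10)],
  [(1, 6), (32, 7), (50, 7), (63, 6)],
  [(18, 7), (19, 6), (56, 7), (64, 6)],
  [(26, 7), (35, 7), (47, 6), (65, 6)],
  [(2, 6), (12, 7), (54, 7), (66, 6)],
  [(3, 6), (33, 7), (46, 7), (67, 6)],
  [(14, 6), (37, 7), (48, 7), (68, 6)],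
  [(4, 3), (13, 3), (23, 3), (24, 3), (34, 10), (38, 10), (44, 3), (51, 3), (53, 10), (55, 10), (60, 10), (62, 10), (69, 3), (72, 3), (73, 10), (76, 10)],
  [(7, 7), (20, 7), (42, 6), (70, 6)],
  [(17, 7), (27, 7), (49, 6), (71, 6)],
  [(4, 3), (13, 3), (23, 3), (24, 3), (34, 3), (38, 3), (44, 3), (51, 3), (53, 3), (55, 3), (60, 3), (62, 3), (69, 3), (72, 3), (73, 3), (76, 3)],
  [(4, 10), (13, 10), (23, 3), (24, 3), (34, 10), (38, 3), (44, 3), (51, 10), (53, 3), (55, 3), (60, 10), (62, 10), (69, 10), (72, 3), (73, 3), (76, 10)],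
  [(9, 6), (21, 7), (29, 7), (74, 6)],
  [(15, 6), (28, 7), (36, 7), (75, 6)],
  [(4, 3), (13, 3), (23, 10), (24, 10), (34, 3), (38, 10), (44, 3), (51, 10), (53, 3), (55, 3), (60, 10), (62, 10), (69, 10), (72, 3), (73, 10), (76, 3)],
  [(6, 7), (10, 6), (22, 7), (77, 6)]]

/-- matrix `e` -/
def me : List (List (ℕ × ℕ)) := [
  [(0, 1)],
  [(1, 1)],
  [(2, 12)],
  [(3, 12)],
  [(4, 1)],
  [(5, 12)],
  [(6, 12)],
  [(7, 12)],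
  [(8, 12)],
  [(9, 12)],
  [(10, 1)],
  [(11, 12)],
  [(12, 1)],
  [(13, 12)],
  [(14, 12)],
  [(15, 1)],
  [(16, 12)],
  [(17, 12)],
  [(18, 12)],
  [(19, 1)],
  [(20, 12)],
  [(21, 1)],
  [(22, 12)],
  [(23, 1)],
  [(24, 12)],
  [(25, 12)],
  [(26, 1)],
  [(27, 12)],
  [(28, 12)],
  [(29, 12)],
  [(30, 12)],
  [(31, 12)],
  [(32, 12)],
  [(33, 1)],
  [(34, 1)],
  [(35, 12)],
  [(36, 12)],
  [(37, 12)],
  [(38, 12)],
  [(39, 1)],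
  [(40, 12)],
  [(41, 12)],
  [(42, 1)],
  [(43, 1)],
  [(44, 12)],
  [(45, 12)],
  [(46, 12)],
  [(47, 12)],
  [(48, 1)],
  [(49, 12)],
  [(50, 12)],
  [(51, 12)],
  [(52, 12)],
  [(53, 1)],
  [(54, 12)],
  [(55, 12)],
  [(56, 12)],
  [(57, 1)],
  [(58, 12)],
  [(59, 1)],
  [(60, 1)],
  [(61, 12)],
  [(62, 12)],
  [(63, 12)],
  [(64, 12)],
  [(65, 12)],
  [(66, 12)],
  [(67, 12)],
  [(68, 12)],
  [(69, 12)],
  [(70, 12)],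
  [(71, 1)],
  [(72, 12)],
  [(73, 12)],
  [(74, 12)],
  [(75, 12)],
  [(76, 1)],
  [(77, 12)]]

/-- matrix `f` -/
def mf : List (List (ℕ × ℕ)) := [
  [(0, 6), (61, 5)],
  [(1, 6), (22, 7), (37, 7), (41, 7)],
  [(2, 6), (28, 6), (30, 6), (42, 7)],
  [(3, 3), (17, 10), (19, 3), (21, 3), (24, 10), (26, 10), (29, 10), (34, 3), (35, 3), (40, 3), (43, 3), (46, 10), (49, 3), (51, 3), (53, 10), (56, 3)],
  [(4, 6), (9, 7), (38, 7), (47, 7)],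
  [(5, 6), (16, 6), (39, 7), (45, 6)],
  [(6, 6), (25, 6), (32, 6), (48, 7)],
  [(7, 6), (12, 7), (36, 7), (52, 7)],
  [(8, 6), (18, 6), (23, 7), (55, 6)],
  [(4, 7), (9, 6), (38, 7), (47, 7)],
  [(10, 6), (14, 7), (31, 7), (50, 7)],
  [(11, 6), (15, 7), (20, 6), (54, 6)],
  [(7, 7), (12, 6), (36, 7), (52, 7)],
  [(13, 6), (27, 6), (33, 7), (44, 6)],
  [(10, 7), (14, 6), (31, 7), (50, 7)],
  [(11, 7), (15, 6), (20, 6), (54, 6)],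
  [(5, 6), (16, 6), (39, 6), (45, 7)],
  [(3, 10), (17, 3), (19, 3), (21, 10), (24, 10), (26, 3), (29, 3), (34, 3), (35, 10), (40, 3), (43, 3), (46, 3), (49, 10), (51, 3), (53, 10), (56, 3)],
  [(8, 6), (18, 6), (23, 6), (55, 7)],
  [(3, 3), (17, 3), (19, 3), (21, 10), (24, 10), (26, 10), (29, 3), (34, 3), (35, 3), (40, 10), (43, 3), (46, 3), (49, 3), (51, 10), (53, 3), (56, 10)],
  [(11, 6), (15, 6), (20, 6), (54, 7)],
  [(3, 3), (17, 10), (19, 10), (21, 3), (24, 3), (26, 10), (29, 3), (34, 3), (35, 10), (40, 3), (43, 3), (46, 3), (49, 10), (51, 3), (53, 3), (56, 10)],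
  [(1, 7), (22, 6), (37, 7), (41, 7)],
  [(8, 7), (18, 6), (23, 6), (55, 6)],
  [(3, 10), (17, 10), (19, 10), (21, 3), (24, 3), (26, 3), (29, 3), (34, 3), (35, 3), (40, 10), (43, 3), (46, 3), (49, 3), (51, 10), (53, 10), (56, 3)],
  [(6, 6), (25, 6), (32, 7), (48, 6)],
  [(3, 10), (17, 3), (19, 10), (21, 10), (24, 3), (26, 3), (29, 10), (34, 3), (35, 3), (40, 3), (43, 3), (46, 10), (49, 3), (51, 3), (53, 3), (56, 10)],
  [(13, 6), (27, 6), (33, 6), (44, 7)],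
  [(2, 6), (28, 6), (30, 7), (42, 6)],
  [(3, 10), (17, 3), (19, 3), (21, 3), (24, 3), (26, 10), (29, 3), (34, 3), (35, 10), (40, 10), (43, 10), (46, 10), (49, 3), (51, 3), (53, 3), (56, 3)],
  [(2, 6), (28, 7), (30, 6), (42, 6)],
  [(10, 7), (14, 7), (31, 6), (50, 7)],
  [(6, 6), (25, 7), (32, 6), (48, 6)],
  [(13, 7), (27, 6), (33, 6), (44, 6)],
  [(3, 3), (17, 3), (19, 3), (21, 3), (24, 3), (26, 3), (29, 3), (34, 3), (35, 3), (40, 3), (43, 10), (46, 10), (49, 10), (51, 10), (53, 10), (56, 10)],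
  [(3, 3), (17, 10), (19, 3), (21, 10), (24, 3), (26, 3), (29, 10), (34, 3), (35, 3), (40, 10), (43, 10), (46, 3), (49, 10), (51, 3), (53, 3), (56, 3)],
  [(7, 7), (12, 7), (36, 6), (52, 7)],
  [(1, 7), (22, 7), (37, 6), (41, 7)],
  [(4, 7), (9, 7), (38, 6), (47, 7)],
  [(5, 7), (16, 6), (39, 6), (45, 6)],
  [(3, 3), (17, 3), (19, 10), (21, 3), (24, 10), (26, 3), (29, 10), (34, 3), (35, 10), (40, 3), (43, 10), (46, 3), (49, 3), (51, 10), (53, 3), (56, 3)],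
  [(1, 7), (22, 7), (37, 7), (41, 6)],
  [(2, 7), (28, 6), (30, 6), (42, 6)],
  [(3, 3), (17, 3), (19, 3), (21, 3), (24, 3), (26, 3), (29, 10), (34, 10), (35, 10), (40, 10), (43, 3), (46, 3), (49, 3), (51, 3), (53, 10), (56, 10)],
  [(13, 6), (27, 7), (33, 6), (44, 6)],
  [(5, 6), (16, 7), (39, 6), (45, 6)],
  [(3, 10), (17, 3), (19, 3), (21, 3), (24, 3), (26, 10), (29, 10), (34, 10), (35, 3), (40, 3), (43, 3), (46, 3), (49, 10), (51, 10), (53, 3), (56, 3)],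
  [(4, 7), (9, 7), (38, 7), (47, 6)],
  [(6, 7), (25, 6), (32, 6), (48, 6)],
  [(3, 3), (17, 10), (19, 3), (21, 10), (24, 3), (26, 3), (29, 3), (34, 10), (35, 10), (40, 3), (43, 3), (46, 10), (49, 3), (51, 10), (53, 3), (56, 3)],
  [(10, 7), (14, 7), (31, 7), (50, 6)],
  [(3, 3), (17, 3), (19, 10), (21, 3), (24, 10), (26, 3), (29, 3), (34, 10), (35, 3), (40, 10), (43, 3), (46, 10), (49, 10), (51, 3), (53, 3), (56, 3)],
  [(7, 7), (12, 7), (36, 7), (52, 6)],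
  [(3, 10), (17, 10), (19, 3), (21, 3), (24, 10), (26, 3), (29, 3), (34, 10), (35, 3), (40, 3), (43, 10), (46, 3), (49, 3), (51, 3), (53, 3), (56, 10)],
  [(11, 6), (15, 6), (20, 7), (54, 6)],
  [(8, 6), (18, 7), (23, 6), (55, 6)],
  [(3, 3), (17, 3), (19, 10), (21, 10), (24, 3), (26, 10), (29, 3), (34, 10), (35, 3), (40, 3), (43, 10), (46, 3), (49, 3), (51, 3), (53, 10), (56, 3)],
  [(57, 6), (63, 7), (68, 6), (77, 6)],
  [(58, 6), (64, 6), (69, 6), (76, 7)],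
  [(59, 6), (66, 7), (70, 7), (75, 7)],
  [(60, 6), (65, 7), (72, 7), (74, 7)],
  [(0, 6), (61, 7)],
  [(62, 6), (67, 6), (71, 7), (73, 6)],
  [(57, 7), (63, 6), (68, 6), (77, 6)],
  [(58, 6), (64, 6), (69, 7), (76, 6)],
  [(60, 7), (65, 6), (72, 7), (74, 7)],
  [(59, 7), (66, 6), (70, 7), (75, 7)],
  [(62, 6), (67, 6), (71, 6), (73, 7)],
  [(57, 6), (63, 6), (68, 6), (77, 7)],
  [(58, 6), (64, 7), (69, 6), (76, 6)],
  [(59, 7), (66, 7), (70, 6), (75, 7)],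
  [(62, 7), (67, 6), (71, 6), (73, 6)],
  [(60, 7), (65, 7), (72, 6), (74, 7)],
  [(62, 6), (67, 7), (71, 6), (73, 6)],
  [(60, 7), (65, 7), (72, 7), (74, 6)],
  [(59, 7), (66, 7), (70, 7), (75, 6)],
  [(58, 7), (64, 6), (69, 6), (76, 6)],
  [(57, 6), (63, 6), (68, 7), (77, 6)]]

/-- matrix `g` -/
def mg : List (List (ℕ × ℕ)) := [
  [(0, 1)],
  [(1, 1)],
  [(2, 1)],
  [(3, 12)],
  [(4, 12)],
  [(5, 12)],
  [(6, 12)],
  [(7, 12)],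
  [(8, 1)],
  [(9, 1)],
  [(10, 12)],
  [(11, 12)],
  [(12, 1)],
  [(13, 12)],
  [(14, 12)],
  [(15, 12)],
  [(16, 1)],
  [(17, 1)],
  [(18, 12)],
  [(19, 12)],
  [(20, 12)],
  [(21, 1)],
  [(22, 12)],
  [(23, 12)],
  [(24, 12)],
  [(25, 12)],
  [(26, 12)],
  [(27, 1)],
  [(28, 12)],
  [(29, 1)],
  [(30, 12)],
  [(31, 12)],
  [(32, 1)],
  [(33, 12)],
  [(34, 12)],
  [(35, 12)],
  [(36, 12)],
  [(37, 12)],
  [(38, 12)],
  [(39, 12)],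
  [(40, 1)],
  [(41, 12)],
  [(42, 12)],
  [(43, 1)],
  [(44, 12)],
  [(45, 12)],
  [(46, 12)],
  [(47, 12)],
  [(48, 12)],
  [(49, 1)],
  [(50, 1)],
  [(51, 12)],
  [(52, 12)],
  [(53, 12)],
  [(54, 1)],
  [(55, 12)],
  [(56, 12)],
  [(57, 12)],
  [(58, 1)],
  [(59, 12)],
  [(60, 12)],
  [(61, 12)],
  [(62, 12)],
  [(63, 1)],
  [(64, 12)],
  [(65, 12)],
  [(66, 1)],
  [(67, 12)],
  [(68, 12)],
  [(69, 12)],
  [(70, 12)],
  [(71, 1)],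
  [(72, 12)],
  [(73, 12)],
  [(74, 1)],
  [(75, 12)],
  [(76, 12)],
  [(77, 12)]]

/-- matrix `h` -/
def mh : List (List (ℕ × ℕ)) := [
  [(0, 1)],
  [(1, 12)],
  [(2, 1)],
  [(3, 12)],
  [(4, 1)],
  [(5, 12)],
  [(6, 12)],
  [(7, 12)],
  [(8, 1)],
  [(9, 1)],
  [(10, 1)],
  [(11, 12)],
  [(12, 12)],
  [(13, 12)],
  [(14, 1)],
  [(15, 12)],
  [(16, 12)],
  [(17, 12)],
  [(18, 1)],
  [(19, 12)],
  [(20, 12)],
  [(21, 12)],
  [(22, 12)],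
  [(23, 1)],
  [(24, 12)],
  [(25, 12)],
  [(26, 12)],
  [(27, 12)],
  [(28, 1)],
  [(29, 12)],
  [(30, 1)],
  [(31, 1)],
  [(32, 12)],
  [(33, 12)],
  [(34, 12)],
  [(35, 12)],
  [(36, 12)],
  [(37, 12)],
  [(38, 1)],
  [(39, 12)],
  [(40, 12)],
  [(41, 12)],
  [(42, 1)],
  [(43, 12)],
  [(44, 12)],
  [(45, 12)],
  [(46, 12)],
  [(47, 1)],
  [(48, 12)],
  [(49, 12)],
  [(50, 1)],
  [(51, 12)],
  [(52, 12)],
  [(53, 12)],
  [(54, 12)],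
  [(55, 1)],
  [(56, 12)],
  [(57, 12)],
  [(58, 12)],
  [(59, 12)],
  [(60, 12)],
  [(61, 1)],
  [(62, 1)],
  [(63, 12)],
  [(64, 12)],
  [(65, 12)],
  [(66, 12)],
  [(67, 1)],
  [(68, 12)],
  [(69, 12)],
  [(70, 12)],
  [(71, 1)],
  [(72, 12)],
  [(73, 1)],
  [(74, 12)],
  [(75, 12)],
  [(76, 12)],
  [(77, 12)]]

/-- matrix `i` -/
def mi : List (List (ℕ × ℕ)) := [
  [(0, 6), (1, 8)],
  [(0, 7), (1, 7)],
  [(2, 6), (17, 7), (40, 7), (74, 6)],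
  [(3, 6), (36, 6), (51, 7), (62, 7)],
  [(4, 6), (15, 7), (33, 6), (76, 7)],
  [(5, 6), (14, 7), (25, 7), (77, 6)],
  [(6, 6), (31, 6), (45, 7), (68, 7)],
  [(7, 3), (18, 3), (24, 3), (28, 3), (30, 10), (35, 10), (46, 3), (52, 3), (55, 10), (56, 10), (65, 10), (67, 10), (70, 3), (72, 3), (73, 10), (75, 10)],
  [(8, 6), (29, 6), (49, 6), (66, 6)],
  [(9, 6), (27, 7), (54, 6), (58, 7)],
  [(10, 6), (39, 7), (48, 6), (57, 7)],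
  [(11, 6), (38, 7), (44, 7), (64, 6)],
  [(12, 6), (21, 7), (43, 7), (71, 6)],
  [(13, 6), (20, 7), (47, 6), (69, 7)],
  [(5, 7), (14, 6), (25, 7), (77, 6)],
  [(4, 7), (15, 6), (33, 6), (76, 7)],
  [(16, 6), (32, 6), (50, 6), (63, 6)],
  [(2, 7), (17, 6), (40, 7), (74, 6)],
  [(7, 3), (18, 3), (24, 3), (28, 3), (30, 10), (35, 10), (46, 10), (52, 10), (55, 3), (56, 3), (65, 3), (67, 3), (70, 10), (72, 10), (73, 10), (75, 10)],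
  [(19, 6), (23, 7), (53, 7), (59, 6)],
  [(13, 7), (20, 6), (47, 6), (69, 7)],
  [(12, 7), (21, 6), (43, 7), (71, 6)],
  [(22, 6), (37, 7), (41, 7), (61, 6)],
  [(19, 7), (23, 6), (53, 7), (59, 6)],
  [(7, 3), (18, 3), (24, 3), (28, 3), (30, 3), (35, 3), (46, 3), (52, 3), (55, 3), (56, 3), (65, 3), (67, 3), (70, 3), (72, 3), (73, 3), (75, 3)],
  [(5, 7), (14, 7), (25, 6), (77, 6)],
  [(26, 6), (34, 7), (42, 6), (60, 7)],
  [(9, 7), (27, 6), (54, 6), (58, 7)],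
  [(7, 3), (18, 3), (24, 3), (28, 3), (30, 3), (35, 3), (46, 10), (52, 10), (55, 10), (56, 10), (65, 10), (67, 10), (70, 10), (72, 10), (73, 3), (75, 3)],
  [(8, 6), (29, 6), (49, 7), (66, 7)],
  [(7, 10), (18, 10), (24, 3), (28, 3), (30, 3), (35, 3), (46, 10), (52, 3), (55, 3), (56, 10), (65, 10), (67, 3), (70, 3), (72, 10), (73, 10), (75, 10)],
  [(6, 6), (31, 6), (45, 6), (68, 6)],
  [(16, 6), (32, 6), (50, 7), (63, 7)],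
  [(4, 6), (15, 6), (33, 6), (76, 6)],
  [(26, 7), (34, 6), (42, 6), (60, 7)],
  [(7, 10), (18, 10), (24, 3), (28, 3), (30, 3), (35, 3), (46, 3), (52, 10), (55, 10), (56, 3), (65, 3), (67, 10), (70, 10), (72, 3), (73, 10), (75, 10)],
  [(3, 6), (36, 6), (51, 6), (62, 6)],
  [(22, 7), (37, 6), (41, 7), (61, 6)],
  [(11, 7), (38, 6), (44, 7), (64, 6)],
  [(10, 7), (39, 6), (48, 6), (57, 7)],
  [(2, 7), (17, 7), (40, 6), (74, 6)],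
  [(22, 7), (37, 7), (41, 6), (61, 6)],
  [(26, 6), (34, 6), (42, 6), (60, 6)],
  [(12, 7), (21, 7), (43, 6), (71, 6)],
  [(11, 7), (38, 7), (44, 6), (64, 6)],
  [(6, 7), (31, 6), (45, 6), (68, 7)],
  [(7, 3), (18, 10), (24, 3), (28, 10), (30, 10), (35, 3), (46, 3), (52, 3), (55, 10), (56, 3), (65, 10), (67, 3), (70, 10), (72, 10), (73, 3), (75, 10)],
  [(13, 6), (20, 6), (47, 6), (69, 6)],
  [(10, 6), (39, 6), (48, 6), (57, 6)],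
  [(8, 6), (29, 7), (49, 6), (66, 7)],
  [(16, 6), (32, 7), (50, 6), (63, 7)],
  [(3, 7), (36, 6), (51, 6), (62, 7)],
  [(7, 3), (18, 10), (24, 3), (28, 10), (30, 3), (35, 10), (46, 3), (52, 3), (55, 3), (56, 10), (65, 3), (67, 10), (70, 10), (72, 10), (73, 10), (75, 3)],
  [(19, 7), (23, 7), (53, 6), (59, 6)],
  [(9, 6), (27, 6), (54, 6), (58, 6)],
  [(7, 10), (18, 3), (24, 3), (28, 10), (30, 3), (35, 10), (46, 10), (52, 3), (55, 3), (56, 3), (65, 10), (67, 10), (70, 10), (72, 3), (73, 3), (75, 10)],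
  [(7, 10), (18, 3), (24, 3), (28, 10), (30, 10), (35, 3), (46, 3), (52, 10), (55, 3), (56, 3), (65, 10), (67, 10), (70, 3), (72, 10), (73, 10), (75, 3)],
  [(10, 7), (39, 7), (48, 6), (57, 6)],
  [(9, 7), (27, 7), (54, 6), (58, 6)],
  [(19, 6), (23, 6), (53, 6), (59, 6)],
  [(26, 7), (34, 7), (42, 6), (60, 6)],
  [(22, 6), (37, 6), (41, 6), (61, 6)],
  [(3, 7), (36, 6), (51, 7), (62, 6)],
  [(16, 6), (32, 7), (50, 7), (63, 6)],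
  [(11, 6), (38, 6), (44, 6), (64, 6)],
  [(7, 10), (18, 3), (24, 3), (28, 10), (30, 10), (35, 3), (46, 10), (52, 3), (55, 10), (56, 10), (65, 3), (67, 3), (70, 10), (72, 3), (73, 10), (75, 3)],
  [(8, 6), (29, 7), (49, 7), (66, 6)],
  [(7, 10), (18, 3), (24, 3), (28, 10), (30, 3), (35, 10), (46, 3), (52, 10), (55, 10), (56, 10), (65, 3), (67, 3), (70, 3), (72, 10), (73, 3), (75, 10)],
  [(6, 7), (31, 6), (45, 7), (68, 6)],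
  [(13, 7), (20, 7), (47, 6), (69, 6)],
  [(7, 3), (18, 10), (24, 3), (28, 10), (30, 3), (35, 10), (46, 10), (52, 10), (55, 10), (56, 3), (65, 10), (67, 3), (70, 3), (72, 3), (73, 10), (75, 3)],
  [(12, 6), (21, 6), (43, 6), (71, 6)],
  [(7, 3), (18, 10), (24, 3), (28, 10), (30, 10), (35, 3), (46, 10), (52, 10), (55, 3), (56, 10), (65, 3), (67, 10), (70, 3), (72, 3), (73, 3), (75, 10)],
  [(7, 10), (18, 10), (24, 3), (28, 3), (30, 10), (35, 10), (46, 3), (52, 10), (55, 3), (56, 10), (65, 10), (67, 3), (70, 10), (72, 3), (73, 3), (75, 3)],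
  [(2, 6), (17, 6), (40, 6), (74, 6)],
  [(7, 10), (18, 10), (24, 3), (28, 3), (30, 10), (35, 10), (46, 10), (52, 3), (55, 10), (56, 3), (65, 3), (67, 10), (70, 3), (72, 10), (73, 3), (75, 3)],
  [(4, 7), (15, 7), (33, 6), (76, 6)],
  [(5, 6), (14, 6), (25, 6), (77, 6)]]

/-- the matrices -/
def T : List (List (List (ℕ × ℕ))) := [ma, mb, mc, md, me, mf, mg, mh, mi]

/-- short words -/
def W1 : List (List ℕ) := [
  [0, 0],
  [1, 1],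
  [2, 2],
  [3, 3],
  [4, 4],
  [5, 5],
  [6, 6],
  [7, 7],
  [8, 8],
  [0, 1, 0, 1, 0, 1],
  [0, 2, 0, 2],
  [0, 3, 0, 3],
  [0, 4, 0, 4],
  [0, 5, 0, 5],
  [0, 6, 0, 6],
  [0, 7, 0, 7],
  [0, 8, 0, 8],
  [1, 0, 1, 0, 1, 0],
  [1, 2, 1, 2, 1, 2],
  [1, 3, 1, 3],
  [1, 4, 1, 4],
  [1, 5, 1, 5],
  [1, 6, 1, 6],
  [1, 7, 1, 7],
  [1, 8, 1, 8],
  [2, 0, 2, 0],
  [2, 1, 2, 1, 2, 1],
  [2, 3, 2, 3, 2, 3],
  [2, 4, 2, 4],
  [2, 5, 2, 5],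
  [2, 6, 2, 6],
  [2, 7, 2, 7],
  [2, 8, 2, 8],
  [3, 0, 3, 0],
  [3, 1, 3, 1],
  [3, 2, 3, 2, 3, 2],
  [3, 4, 3, 4, 3, 4],
  [3, 5, 3, 5],
  [3, 6, 3, 6],
  [3, 7, 3, 7, 3, 7],
  [3, 8, 3, 8],
  [4, 0, 4, 0],
  [4, 1, 4, 1],
  [4, 2, 4, 2],
  [4, 3, 4, 3, 4, 3],
  [4, 5, 4, 5, 4, 5],
  [4, 6, 4, 6],
  [4, 7, 4, 7],
  [4, 8, 4, 8],
  [5, 0, 5, 0],
  [5, 1, 5, 1],
  [5, 2, 5, 2],
  [5, 3, 5, 3],
  [5, 4, 5, 4, 5, 4],
  [5, 6, 5, 6, 5, 6],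
  [5, 7, 5, 7],
  [5, 8, 5, 8],
  [6, 0, 6, 0],
  [6, 1, 6, 1],
  [6, 2, 6, 2],
  [6, 3, 6, 3],
  [6, 4, 6, 4],
  [6, 5, 6, 5, 6, 5],
  [6, 7, 6, 7],
  [6, 8, 6, 8],
  [7, 0, 7, 0],
  [7, 1, 7, 1],
  [7, 2, 7, 2],
  [7, 3, 7, 3, 7, 3],
  [7, 4, 7, 4],
  [7, 5, 7, 5],
  [7, 6, 7, 6],
  [7, 8, 7, 8, 7, 8],
  [8, 0, 8, 0],
  [8, 1, 8, 1],
  [8, 2, 8, 2],
  [8, 3, 8, 3],
  [8, 4, 8, 4],
  [8, 5, 8, 5],
  [8, 6, 8, 6],
  [8, 7, 8, 7, 8, 7]]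

/-- long words -/
def W2 : List (List ℕ) := [
  [3, 2, 1, 3, 4, 5, 3, 7, 8, 3, 2, 1, 3, 4, 5, 3, 7, 8, 3, 2, 1, 3, 4, 5, 3, 7, 8, 3, 2, 1, 3, 4, 5, 3, 7, 8, 3, 2, 1, 3, 4, 5, 3, 7, 8, 3, 2, 1, 3, 4, 5, 3, 7, 8, 3, 2, 1, 3, 4, 5, 3, 7, 8, 3, 2, 1, 3, 4, 5, 3, 7, 8, 3, 2, 1, 3, 4, 5, 3, 7, 8, 3, 2, 1, 3, 4, 5, 3, 7, 8],
  [0, 1, 2, 3, 4, 5, 7, 0, 1, 2, 3, 4, 5, 7, 0, 1, 2, 3, 4, 5, 7, 0, 1, 2, 3, 4, 5, 7, 0, 1, 2, 3, 4, 5, 7, 0, 1, 2, 3, 4, 5, 7, 0, 1, 2, 3, 4, 5, 7, 0, 1, 2, 3, 4, 5, 7, 0, 1, 2, 3, 4, 5, 7],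
  [1, 2, 3, 4, 5, 6, 7, 1, 2, 3, 4, 5, 6, 7, 1, 2, 3, 4, 5, 6, 7, 1, 2, 3, 4, 5, 6, 7, 1, 2, 3, 4, 5, 6, 7, 1, 2, 3, 4, 5, 6, 7, 1, 2, 3, 4, 5, 6, 7, 1, 2, 3, 4, 5, 6, 7, 1, 2, 3, 4, 5, 6, 7]]


lemma valid_T : T.all (valid 78 13 16) = true := by decide +kernel

lemma chk_W1 : chkW 13 5042 78 T W1 = true := by decide +kernel

lemma chk_W2 : chkW 13 5042 78 T W2 = true := by decide +kernel

end Cfsg.Agent.HH.F78
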