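import Cfsg.Agent.HH.J4T

set_option autoImplicit false
set_option maxRecDepth 100000
set_option maxHeartbeats 4000000

/-!
Relations between the generators (generated).
-/

namespace Cfsg.Agent.HH.PM

/-- representatives of the double cosets -/
def GI (i : ℕ) : List ℕ := ([[], [3], [3, 1, 3], [3, 1, 0, 1, 3], [3, 1, 0, 2, 0, 1, 8, 3], [3, 1, 3, 1, 3], [3, 1, 3, 0, 1, 3]] : List (List ℕ)).getD i []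

/-- representatives modulo the subgroup of order 2 ^ 9 -/
def CW (i : ℕ) : List ℕ := ([[], [7], [8], [7, 8]] : List (List ℕ)).getD i []

/-- the pairs of a double coset and an orbit of trios -/
def IL : List (ℕ × List ℕ) := [(1, [2]), (1, [2, 0, 1]), (1, [1, 0, 1]), (1, [1, 0, 2, 0, 1]), (1, []), (2, [1]), (2, [0, 1]), (2, [1, 0, 1]), (2, [1, 0, 2, 0, 1]), (2, [0, 2]), (2, [0, 1, 0, 2, 0, 1, 0, 1, 0, 2, 0, 2, 0, 1]), (2, [0, 1, 0, 2, 0, 1, 0, 1, 0, 2]), (2, []), (2, [2, 0, 1]), (2, [2, 0, 2, 0, 2, 0, 1, 0, 2, 0, 2, 0, 1, 0, 2, 0, 1, 0, 1]), (3, [0, 1]), (3, [2]), (3, [2, 0, 1]), (3, [1]), (3, [2, 0, 2]), (3, [1, 0, 2, 0, 1]), (3, [1, 0, 2, 0, 1, 0, 1, 0, 2]), (3, []), (3, [0, 2, 0, 2, 0, 2, 0, 1, 0, 1, 0, 1, 0, 1]), (4, [0, 2]), (4, [2]), (4, [1]), (4, []), (5, [0, 2]),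 (5, [0, 1]), (5, []), (5, [2, 0, 2, 0, 1]), (5, [2]), (5, [0, 1, 0, 1, 0, 1, 0, 2]), (5, [0, 1, 0, 2]), (5, [1, 0, 1, 0, 1, 0, 1, 0, 2]), (5, [1, 0, 1, 0, 2]), (5, [0, 2, 0, 1, 0, 2, 0, 1, 0, 2, 0, 1, 0, 1, 0, 1, 0, 2]), (6, [2]), (6, [0, 2]), (6, [2, 0, 1, 0, 1]), (6, []), (6, [1]), (6, [1, 0, 2, 0, 2])]

/-- the relations -/
def RR : List (List ℕ × ℕ × List ℕ) := [
  ([2, 17, 29, 27, 29, 15, 26, 19, 5, 7, 9, 11, 13, 14], 2, [7, 14, 2]),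
  ([23, 17, 29, 30, 19, 26, 0, 5, 7, 9, 10], 2, [7, 14, 2]),
  ([2, 17, 29, 27, 29, 15, 26, 19, 4, 8, 10], 2, [7, 14, 2]),
  ([23, 17, 29, 30, 19, 26, 0, 4, 8, 11, 13, 14], 2, [7, 14, 2]),
  ([2, 16, 24, 27, 21, 18, 24, 0, 5], 1, [1, 29, 19, 26, 24, 25]),
  ([2, 28, 15, 18, 22, 17, 29, 29, 0, 11, 12, 13, 14], 1, [2, 20, 25, 7, 9, 11, 13, 14]),
  ([2, 23, 29, 24, 17, 15, 18, 27, 4, 5, 6, 9, 11, 14], 1, [1, 29, 19, 26, 24, 25, 0, 8]),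
  ([2, 19, 27, 25, 22, 15, 17, 28, 0, 4, 7, 11, 12], 1, [21, 21, 17, 12]),
  ([], 3, []),
  ([1, 16, 17, 16, 20, 16, 18, 25, 0, 9], 3, []),
  ([4], 3, []),
  ([1, 16, 17, 16, 20, 16, 18, 25, 0, 4, 9], 3, []),
  ([2, 25, 25, 28, 19, 17, 0], 1, [2, 23, 23, 28, 21, 17, 0]),
  ([26, 25, 16, 17, 17, 25, 19, 7], 1, [2, 23, 23, 28, 21, 17, 0]),
  ([], 4, []),
  ([17, 19, 18, 20, 16, 20, 0, 6, 8, 10, 11, 12, 14], 4, []),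
  ([], 0, []),
  ([24, 26, 23, 28, 15, 17, 23, 5, 7], 1, [7]),
  ([27, 23, 26, 19, 15, 23, 24, 8, 10], 1, [8]),
  ([26, 25, 20, 21, 18, 22, 4, 6, 9, 10, 11, 12], 1, [12]),
  ([], 5, []),
  ([1, 16, 17, 16, 20, 16, 18, 25, 0, 9], 5, []),
  ([17, 24, 26, 19, 15, 18, 25, 0, 4, 9], 5, []),
  ([25, 25, 25, 4], 5, []),
  ([], 6, []),
  ([1, 16, 17, 16, 20, 16, 18, 25, 0, 9], 6, []),
  ([17, 24, 26, 19, 15, 18, 25, 0, 4, 9], 6, []),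
  ([25, 25, 25, 4], 6, []),
  ([1, 25, 18, 21, 24, 18, 27, 0, 6, 8, 10, 11, 12, 13, 14], 3, [25, 20, 29, 17, 0, 4, 6, 7, 9, 10]),
  ([16, 17, 29, 26, 15, 21, 25, 17, 8, 9, 10, 11, 12, 14], 3, [24, 24, 19, 4, 8, 9, 11, 14]),
  ([19, 27, 20, 19, 19, 24, 0, 4, 5, 7, 10, 11, 13, 14], 3, [1, 15, 24, 25, 19, 20, 0, 7, 12, 13]),
  ([2, 25, 26, 27, 21, 15, 15, 20, 28, 4, 5, 6, 7, 11, 12], 3, [1, 15, 21, 18, 16, 4, 5, 6, 11, 13]),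
  ([22, 17, 20], 3, [26, 27, 21, 17, 0]),
  ([1, 29, 17, 19, 19, 15, 24, 26, 0, 4, 5, 7, 9, 11, 12, 14], 3, [22, 15, 26, 28, 19, 6, 9, 10, 13, 14]),
  ([1, 27, 29, 18, 28, 16, 17, 26, 0, 4, 5, 9, 11, 13], 5, [1, 23, 17, 26, 28, 19, 6, 9, 13, 14]),
  ([15, 22, 29, 19, 15, 26, 18, 5, 6, 13], 5, [23, 17, 26, 28, 19, 4, 6, 7, 9, 10]),
  ([30, 28, 16, 27, 18, 16, 21, 0, 5, 8, 9, 12, 14], 2, [2, 16, 15, 28, 21, 0, 4, 5, 6, 7, 9, 11, 13]),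
  ([1, 20, 22, 22, 30, 15, 29, 29, 7, 10, 12], 3, [22, 22, 18, 24, 19, 4, 6, 9, 10, 12, 14]),
  ([21, 30, 20, 21, 20, 29, 25, 0, 4, 8, 9, 12, 14], 2, [2, 16, 15, 28, 21, 0, 4, 5, 6, 7, 9, 11, 13]),
  ([2, 30, 20, 28, 18, 29, 28, 26, 6, 7, 8, 10, 14], 3, [22, 22, 18, 24, 19, 4, 6, 9, 10, 12, 14]),
  ([1, 22, 29, 26, 27, 20, 20, 29, 0, 13], 5, [1, 22, 19, 0, 5, 6, 7, 14]),
  ([23, 29, 24, 20, 15, 30, 24, 9, 11, 14], 5, [1, 22, 19, 0, 7, 11, 14]),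
  ([1, 16, 17, 24, 24, 15, 27, 22, 8, 13], 5, [16, 16, 24, 21, 18, 7, 10, 13, 14]),
  ([2, 17, 17, 22, 22, 23, 25, 5, 8, 14], 5, [16, 16, 24, 21, 18, 6, 7, 11, 13, 14]),
  ([26, 21, 27, 23, 24, 16, 19, 0, 9, 10, 11, 12, 14], 2, [1, 21, 21, 16, 18, 18, 4, 10]),
  ([21, 29, 19, 27, 15, 30, 29, 4, 6, 7, 8, 9, 10, 11, 14], 5, [25, 25, 25, 23, 4, 6, 8, 9, 10, 14]),
  ([1, 30, 24, 29, 29, 15, 21, 18, 23, 0, 5, 14], 5, [25, 25, 25, 23, 0, 8, 10, 13, 14]),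
  ([25, 24, 28, 29, 17, 23, 4, 5, 9, 11], 2, [17, 26, 26, 28, 21, 17, 5, 6, 7, 9, 11, 14]),
  ([], 1, [1]),
  ([28, 17, 19, 27, 20, 19, 0, 5, 9], 2, [7]),
  ([27, 29, 24, 28, 16, 29, 5, 7, 9, 10, 11, 13], 2, [21, 24, 28, 19, 17, 9, 10, 11, 12, 14]),
  ([1, 17, 27, 29, 21, 15, 21, 19, 0, 5, 6, 9, 11, 12, 14], 2, [1, 24, 25, 19, 19, 0, 4, 5, 7, 13]),
  ([21, 18, 27, 22, 27, 18, 0, 4, 5, 7, 11, 13, 14], 2, [1, 29, 19, 26, 24, 25, 7, 14]),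
  ([2, 25, 24, 15, 27, 30, 21, 4, 8, 9, 10, 13], 4, [0, 1, 9, 13]),
  ([2, 21, 24, 26, 21, 15, 17, 28, 5, 6, 7, 9, 13], 2, [2, 24, 18, 21, 26, 24, 0, 4, 6, 8, 10, 11, 12, 14]),
  ([16, 27, 27, 17, 26, 22, 5, 8, 10, 12], 2, [17, 25, 24, 0, 13]),
  ([26, 21, 29, 23, 24, 17, 0, 4, 5, 7, 11, 14], 2, [2, 25, 23, 24, 24, 0, 5]),
  ([17, 25, 20, 18, 22, 24, 21, 0, 4, 5, 6, 8, 9, 11, 12, 14], 4, [26, 21, 18, 28, 15, 6]),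
  ([30, 18, 16, 17, 19, 30, 26, 0, 7, 11, 12, 13, 14], 4, [30, 30, 30, 30, 16]),
  ([1, 27, 30, 29, 22, 16, 16, 15, 6, 9, 11, 13], 4, [1, 18, 23, 28, 19, 17, 0, 6]),
  ([25, 19, 27, 15, 17, 30, 24, 0, 7, 8, 11, 12], 5, [30, 28, 7, 8, 9, 12, 14]),
  ([1, 16, 24, 20, 21, 15, 16, 23, 5, 7, 9, 10, 11], 5, [29, 15, 27, 21, 18, 24, 0, 5, 6, 7, 10, 11, 12]),
  ([2, 28, 17, 22, 30, 15, 25, 17, 27, 0, 7, 8, 10, 14], 6, [26, 18, 21, 0, 5, 6, 7, 8, 9, 10, 11, 12, 13, 14]),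
  ([2, 26, 16, 30, 29, 15, 29, 16, 0, 4, 6, 9, 12, 13, 14], 6, [19, 19, 17, 18, 18, 18, 7, 10, 12, 14]),
  ([16, 23, 16, 25, 18, 25, 26, 0, 4, 9, 10, 11, 12, 14], 6, [23, 25, 21, 4, 5, 7, 8, 9, 10, 14]),
  ([1, 15, 18, 30, 19, 20, 19, 28, 4, 6, 7, 8, 11, 12, 14], 6, [25, 21, 15, 15, 15, 19, 8, 12, 13, 14]),
  ([2, 24, 20, 23, 26, 16, 24, 22, 5, 6, 9, 10, 13], 6, [26, 24, 18, 16, 19, 0, 4, 5, 7, 8, 9, 10, 11, 12, 13, 14]),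
  ([27, 15, 22, 30, 19, 23, 29, 0, 5, 6, 8, 9, 10, 11, 13, 14], 6, [2, 22, 21, 24, 28, 21, 17, 0, 4, 6, 8]),
  ([1, 25, 21, 27, 28, 17, 15, 11, 13, 14], 3, [29, 16, 23, 0, 6, 7, 9, 11, 12, 13]),
  ([2, 29, 26, 30, 22, 17, 22, 18, 0, 5, 6, 7, 8, 9, 10, 14], 3, [22, 15, 6, 8, 9, 10, 11, 12, 14]),
  ([2, 28, 22, 20, 29, 19, 28, 19, 0, 4, 7, 9, 10, 11, 12, 13], 2, [17, 17, 24, 21, 0, 8]),
  ([1, 27, 28, 23, 22, 17, 22, 24, 4, 7, 8, 9, 10, 12, 13], 3, [2, 30, 27, 28, 6, 8, 10, 11, 12, 14]),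
  ([1, 18, 27, 27, 17, 30, 28, 4, 5, 9, 13], 3, [1, 19, 25, 21, 18, 24, 4, 6, 7, 10, 11, 12, 13]),
  ([2, 23, 22, 30, 22, 16, 19, 24, 0, 5, 6, 7, 11, 14], 3, [2, 23, 25, 22, 4, 5, 8, 9, 10, 11, 12]),
  ([1, 24, 24, 27, 17, 15, 30, 25, 0, 4, 5, 6, 10, 11, 13, 14], 6, [18, 18, 28, 17, 29, 0, 5, 6, 8, 10, 11, 12, 13, 14]),
  ([1, 24, 23, 17, 23, 16, 29, 0, 6, 7, 11, 12], 6, [21, 24, 26, 24, 19, 4, 5, 9, 11, 12, 14]),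
  ([2, 24, 30, 20, 23, 17, 28, 21, 0, 4, 5, 7, 8, 12], 3, [2, 0, 2, 4, 5]),
  ([20, 16, 27, 20, 23, 28, 4, 5, 6, 7, 8, 9, 13], 5, [1, 22, 25, 20, 20, 21, 10, 11, 13, 14]),
  ([23, 16, 25, 27, 26, 29, 21, 13, 14], 5, [23, 27, 29, 21, 18, 24, 0, 6, 7, 8, 9, 10, 11, 13, 14]),
  ([2, 22, 30, 23, 28, 16, 21, 0, 4, 5, 6, 8, 10, 11, 14], 5, [1, 28, 28, 21, 26, 24, 4, 6, 7, 8, 9, 10, 11]),
  ([2, 21, 15, 23, 28, 17, 29, 26, 7], 3, [27, 26, 25, 0, 4, 5, 6, 10, 11, 12, 13, 14]),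
  ([2, 23, 16, 20, 23, 16, 15, 19, 4, 6, 7, 9, 10, 11, 13, 14], 3, [2, 22, 18, 24, 0, 4, 9, 10]),
  ([1, 18, 21, 30, 18, 15, 20, 24, 0, 4, 6, 7, 9, 10, 11, 14], 5, [20, 23, 19, 25, 24, 9, 10, 14]),
  ([2, 28, 29, 24, 17, 23, 22, 21, 0, 7, 9, 10, 12], 5, [2, 25, 27, 23, 15, 15, 22, 22, 0, 4, 6, 8, 11]),
  ([1, 17, 23, 18, 17, 29, 29, 0, 6, 7, 13], 3, [1, 26, 26, 28, 17, 15, 23, 22, 0, 4, 5, 7, 8, 9, 10, 12]),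
  ([2, 22, 27, 30, 16, 16, 29, 24, 0, 4, 5, 6, 10], 5, [18, 28, 21, 19, 0, 4, 5, 9, 11, 12, 13, 14]),
  ([2, 23, 20, 16, 20, 16, 16, 0, 5, 8, 10, 11, 13], 5, [2, 29, 16, 8, 10, 12]),
  ([1, 20, 18, 19, 15, 23, 27, 20, 0, 4, 5, 6, 7, 11, 12, 14], 2, [21, 22, 28, 17, 21, 0, 10, 11]),
  ([], 1, [1, 0, 1]),
  ([30, 24, 30, 22, 15, 22, 29, 7, 11, 13, 14], 3, [1, 19, 23, 21, 26, 24, 0, 4, 5, 7, 8, 9, 12, 13, 14]),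
  ([2, 28, 18, 16, 16, 17, 17, 5, 6, 8, 9, 12, 14], 3, [1, 24, 26, 29, 4, 5, 6, 8, 9, 13]),
  ([15, 16, 29, 16, 16, 27, 26, 0, 4, 5, 7, 9, 13, 14], 3, [17, 26, 0, 5, 6, 7, 9, 10, 11, 12, 14]),
  ([1, 21, 16, 23, 26, 15, 22, 26, 0, 4, 5, 6, 8, 10, 11], 3, [20, 26, 16, 27, 27, 0, 5, 6, 7, 9, 11, 12]),
  ([1, 29, 18, 18, 19, 20, 15, 22, 6, 8, 9, 10, 12, 14], 2, [29, 18, 28, 25, 17, 28, 0]),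
  ([1, 29, 26, 20, 19, 20, 16, 30, 0, 4, 5, 8, 9, 10, 12, 13], 2, [19, 17, 17, 28, 17, 6, 7, 12]),
  ([1, 29, 16, 24, 15, 15, 24, 29, 0, 4, 5, 7, 8, 9, 10, 11, 13, 14], 2, [1, 26, 21, 18, 28, 19, 0, 5, 6, 7, 8, 10, 12, 13]),
  ([2, 16, 26, 18, 28, 22, 20, 0, 4, 13, 14], 5, [29, 17, 28, 7, 9, 11, 12, 13]),
  ([1, 27, 30, 15, 18, 23, 22, 17, 4, 13, 14], 5, [29, 17, 28, 7, 9, 11, 12, 13]),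
  ([2, 16, 26, 18, 28, 22, 20, 0, 4, 10, 11, 13, 14], 5, [29, 17, 28, 7, 9, 11, 12, 13]),
  ([1, 27, 30, 15, 18, 23, 22, 17, 4, 10, 11, 13, 14], 5, [29, 17, 28, 7, 9, 11, 12, 13]),
  ([2, 23, 28, 16, 25, 26, 4, 5, 6, 8, 10, 11, 12], 2, [27, 21, 22, 8]),
  ([29, 24, 20, 24, 17, 25, 24, 4, 5, 6, 8, 10, 11, 12], 2, [27, 21, 22, 8]),
  ([2, 30, 28, 16, 16, 23, 20, 17, 4, 5, 7, 11, 12, 14], 2, [27, 21, 22, 8]),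
  ([1, 20, 21, 28, 17, 15, 27, 17, 0, 4, 5, 7, 11, 12, 14], 2, [27, 21, 22, 8]),
  ([1, 19, 16, 20, 19, 17, 29, 27, 5], 4, [1, 0, 2, 5, 7, 0, 1]),
  ([2, 17, 30, 22, 23, 18, 23, 0, 5, 6, 7, 9, 11, 12], 4, [1, 0, 2, 5, 7, 0, 1]),
  ([28, 28, 17, 22, 17, 26, 0, 4, 7, 8, 9, 14], 2, [1, 21, 28, 19, 25, 0, 9, 14]),
  ([1, 30, 21, 15, 18, 16, 19, 25, 5, 10, 11, 13], 2, [1, 21, 28, 19, 25, 0, 9, 14]),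
  ([], 1, [19, 25, 28, 29, 8]),
  ([8, 9, 10, 12, 13, 14], 4, [7]),
  ([1, 15, 27, 25, 19, 19, 28, 22, 4, 6, 8, 9, 10, 11, 12, 13, 14], 1, [1, 22, 20, 28, 21, 17, 24, 0, 7]),
  ([2, 29, 18, 26, 19, 20, 21, 15, 0, 4, 8, 10, 13], 1, [21, 21, 29, 25, 0, 7]),
  ([1, 16, 30, 23, 18, 22, 15, 30, 4, 6, 7, 8, 13], 6, [1, 15, 26, 21, 26, 16, 15, 4, 5, 6, 7, 11, 13, 14]),
  ([2, 22, 18, 29, 23, 15, 23, 26, 5, 6, 7, 8, 10, 14], 6, [1, 26, 18, 21, 21, 21, 0, 6, 7, 8, 10, 12, 14]),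
  ([17, 21, 28, 20, 15, 23, 24, 0, 4, 5, 7, 9, 10, 11, 12, 13], 5, [19, 19, 25, 26, 8, 9, 10, 11, 13]),
  ([1, 18, 15, 25, 16, 26, 27, 4, 6, 7, 9, 10, 13, 14], 3, [15, 16, 27, 27, 27, 0, 9, 11, 13]),
  ([1, 20, 24, 28, 27, 19, 30, 21, 4, 8, 13], 6, [1, 29, 29, 30, 28, 15, 16, 22, 6, 9, 10, 12, 13]),
  ([1, 26, 20, 23, 17, 15, 16, 22, 0, 4, 5, 7, 8, 10, 11], 5, [22, 29, 17, 28, 0, 7, 9, 10, 11, 12, 13]),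
  ([2, 22, 19, 29, 15, 18, 17, 6, 7, 8, 10, 11, 12, 13], 5, [23, 19, 25, 25, 0, 4, 6, 7, 9, 11, 12, 14]),
  ([1, 22, 28, 20, 16, 16, 20, 19, 4, 5, 6, 8, 9, 10, 13], 6, [1, 27, 27, 30, 7, 8, 9, 13]),
  ([], 2, [1]),
  ([1, 21, 26, 29, 27, 9], 5, [2, 23, 23, 28, 21, 17, 0, 5, 7, 13]),
  ([2, 29, 26, 15, 28, 20, 15, 18, 0, 5, 6, 8, 10, 11, 12, 13], 5, [1, 15, 19, 25, 20, 8, 9, 11, 12, 13]),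
  ([2, 16, 26, 27, 15, 30, 28, 23, 0, 7, 12, 13, 14], 5, [1, 30, 23, 26, 6, 8, 12, 13]),
  ([28, 19, 24, 18, 19, 27, 0, 4, 5, 6, 7, 8, 10, 11, 12, 13, 14], 6, [1, 30, 23, 30, 0, 5, 6, 10, 12, 13, 14]),
  ([1, 20, 16, 23, 22, 16, 26, 17, 4, 7, 9, 10, 11, 12, 13], 6, [2, 20, 16, 26, 18, 17, 27, 23, 0, 4, 6, 7, 11, 12, 13, 14]),
  ([1, 27, 25, 22, 27, 24, 24, 6, 10, 11], 6, [1, 17, 25, 28, 21, 6, 7, 10, 12]),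
  ([29, 15, 20, 29, 30, 27, 0, 4, 5, 6, 7, 10, 14], 6, [15, 19, 21, 29, 17, 24, 4, 6, 10, 11]),
  ([2, 29, 23, 30, 15, 16, 23, 29, 0], 3, [22, 27, 0, 10, 11]),
  ([2, 23, 17, 15, 25, 25, 29, 19, 0, 4, 6, 7, 8, 9, 10, 14], 3, [26, 15, 23, 0, 5, 7, 8]),
  ([30, 29, 30, 23, 17, 23, 26, 0, 4, 9, 11, 12, 14], 5, [26, 16, 22, 4, 5, 8, 9]),
  ([2, 20, 18, 19, 24, 20, 28, 15, 0, 4, 5, 6, 7, 8, 12, 13, 14], 5, [30, 29, 22, 6, 7, 8, 9, 11, 13]),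
  ([2, 25, 25, 16, 24, 16, 16, 19, 4, 6, 8, 13, 14], 3, [2, 16, 29, 17, 18, 18, 18, 0, 6, 9, 10, 13, 14]),
  ([2, 26, 21, 19, 16, 15, 19, 28, 4, 7, 9, 10, 12, 14], 3, [18, 17, 26, 27, 16, 22, 24, 0, 4, 5, 6, 8, 9, 13]),
  ([1, 23, 28, 17, 22, 15, 27, 22, 4, 5, 6, 7, 8, 11], 5, [26, 30, 30, 30, 22, 0, 4, 5, 7, 10]),
  ([1, 29, 15, 22, 16, 20, 19, 27, 0, 7, 8, 9, 10, 13], 3, [1, 22, 15, 15, 15, 15, 16, 5, 8, 9, 10, 14]),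
  ([2, 25, 27, 25, 29, 27, 0, 10, 11], 5, [0, 1, 0, 6, 14, 2]),
  ([1, 24, 25, 20, 29, 15, 26, 24, 4, 7, 9, 10, 11, 12, 13], 3, [22, 15, 26, 28, 19, 4, 9, 10, 11, 12]),
  ([25, 30, 24, 17, 15, 27, 20, 4, 5, 6, 10, 12, 14], 3, [2, 23, 20, 21, 21, 21, 7, 11, 12, 13, 14]),
  ([1, 21, 15, 19, 25, 18, 28, 0, 4, 7, 9, 11, 14], 2, [1, 15, 25, 25, 28, 19, 17, 4, 5, 6, 7, 9, 10, 11, 13]),
  ([1, 22, 28, 20, 19, 15, 19, 27, 7, 9, 10, 12], 2, [1, 29, 23, 30, 4]),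
  ([1, 16, 28, 29, 23, 15, 16, 29, 26, 4, 6, 8, 13, 14], 5, [2, 26, 30, 30, 30, 22, 4, 8, 9, 12, 13]),
  ([30, 16, 21, 29, 15, 29, 27, 4, 6, 8, 11], 5, [2, 26, 30, 30, 30, 22, 4, 5, 6, 12, 14]),
  ([2, 19, 22, 25, 19, 15, 28, 30, 5, 7, 9, 11, 13, 14], 5, [2, 26, 30, 30, 30, 22, 4, 5, 6, 10, 12, 13]),
  ([18, 27, 18, 25, 17, 21, 10, 11, 13], 5, [1, 0, 1, 0, 2, 10]),
  ([1, 29, 22, 17, 15, 25, 15, 5, 7, 8, 9, 14], 5, [26, 21, 18, 28, 19, 0, 4, 5, 10, 12, 13]),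
  ([2, 15, 19, 28, 20, 15, 24, 20, 0, 9, 11, 14], 5, [29, 17, 28, 4, 5, 6, 8, 9, 10, 13, 14]),
  ([2, 22, 17, 22, 21, 27, 0, 5, 10, 11, 12, 13, 14], 4, [26, 7]),
  ([2, 15, 27, 16, 26, 15, 15, 22, 24], 5, [27, 21, 22, 21, 21, 0]),
  ([2, 28, 28, 23, 19, 19, 21, 0, 4, 8, 10, 11, 13], 2, [1, 27, 22, 30, 23, 23, 26, 0, 12]),
  ([1, 29, 22, 29, 26, 26, 15, 25, 0, 4, 8, 9, 11, 13], 2, [1, 21, 19, 25, 28, 15, 0, 6, 7, 8, 9, 10, 11, 12, 14]),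
  ([1, 24, 23, 23, 29, 15, 17, 0, 8, 9], 2, [21, 30, 16, 0, 4, 5, 8, 9, 12, 13]),
  ([2, 27, 30, 23, 19, 29, 23, 23, 0, 4, 5, 7, 11], 3, [29, 30, 30, 30, 16, 23, 5, 7, 9, 11, 12, 14]),
  ([2, 24, 25, 15, 15, 19, 16, 28, 0, 6, 7, 9, 10, 12, 13, 14], 5, [29, 17, 4, 5, 9, 12, 14]),
  ([2, 28, 22, 27, 22, 29, 28, 17, 4, 7, 8, 11, 12, 13, 14], 6, [1, 28, 19, 22, 26, 24, 0, 6, 9, 11, 12, 13, 14]),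
  ([25, 20, 26, 30, 17, 26, 4, 5, 7, 8, 10, 11, 12, 13, 14], 5, [18, 25, 25, 28, 19, 17, 4, 6, 7, 8, 9, 13]),
  ([2, 19, 23, 28, 18, 15, 18, 27, 6, 7, 8, 11], 6, [25, 16, 27, 21, 18, 24, 0, 5, 6, 8, 11, 14]),
  ([1, 20, 23, 28, 17, 16, 19, 24, 0, 4, 8, 10, 11, 14], 6, [2, 23, 20, 18, 24, 21, 7, 8, 9, 11, 12, 13, 14]),
  ([1, 15, 19, 19, 28, 15, 20, 21, 0, 5, 7, 8, 9, 11, 14], 5, [2, 18, 15, 24, 21, 24, 0, 4, 5, 7, 13]),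
  ([2, 17, 18, 17, 21, 23, 25, 23, 4, 6, 8, 9, 10, 13, 14], 6, [27, 22, 17, 5, 6, 9, 12, 13, 14]),
  ([1, 20, 28, 26, 18, 23, 15, 25, 0, 6, 9, 11, 12], 5, [1, 27, 15, 22, 10, 11, 13, 14]),
  ([23, 29, 22, 21, 20, 21, 27, 4, 7, 8, 10, 12, 14], 5, [18, 15, 29, 28, 15, 30, 22, 0, 4, 5, 6, 8, 9, 10, 11]),
  ([1, 28, 15, 27, 19, 26, 4, 5, 9, 10, 12, 13, 14], 6, [1, 19, 19, 23, 26, 17, 26, 5, 13]),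
  ([20, 24, 24, 27, 15, 20, 19, 0, 7, 13], 5, [2, 25, 15, 26, 4, 5, 6, 9, 11, 12, 13, 14]),
  ([], 2, [0, 1]),
  ([18, 25, 15, 15, 24, 18, 21, 0, 6, 7, 8, 10, 13, 14], 6, [1, 25, 28, 29, 19, 28, 0, 4, 5, 6, 8, 9, 14]),
  ([1, 26, 19, 23, 15, 19, 24, 20, 0, 7, 10, 11, 14], 6, [22, 21, 21, 27, 0, 7, 8, 10, 13, 14]),
  ([1, 15, 28, 28, 28, 16, 20, 22, 0, 4, 9, 10, 12, 13, 14], 6, [19, 26, 28, 22, 0, 4, 6, 12]),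
  ([2, 15, 27, 23, 28, 15, 26, 4, 5, 6, 8, 10, 11, 12, 14], 6, [25, 24, 30, 21, 17, 4, 5, 7, 11, 12, 13, 14]),
  ([24, 30, 18, 18, 24, 18, 19, 0, 4, 12, 13, 14], 6, [1, 22, 24, 19, 17, 0, 4, 6, 8, 9, 10, 13, 14]),
  ([1, 20, 27, 15, 22, 23, 20, 24, 4, 6, 8, 9], 6, [1, 30, 18, 27, 29, 16, 27, 27, 5, 6, 10, 11, 13, 14]),
  ([1, 15, 19, 22, 23, 17, 28, 16, 5, 6, 9, 10, 11, 13, 14], 3, [16, 29, 5, 9, 10, 14]),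
  ([1, 15, 21, 26, 17, 24, 0, 5, 6, 8, 9, 12, 13], 3, [1, 21, 21, 17, 22, 4, 7, 8, 10, 12, 14]),
  ([29, 28, 23, 25, 16, 17, 19, 0, 6, 8, 9, 11, 13, 14], 3, [2, 19, 23, 22]),
  ([30, 27, 29, 30, 15, 18, 20, 5, 10, 11, 13], 6, [1, 22, 27, 28, 19, 17, 5, 6, 7, 10, 14]),
  ([1, 15, 24, 24, 30, 16, 27, 24, 0, 5, 6, 9, 14], 3, [2, 28, 18, 17, 29, 4, 5, 8, 9, 11, 12, 13, 14])]

/-- letters of the subgroup `K` -/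
def kL (w : List ℕ) : Bool := w.all (fun c => Nat.blt c 31 && !(Nat.beq c 3))

/-- test of a relation -/
def chkQ (q : ℕ) : Bool :=
  kL (RR.getD q ([], 0, [])).1 && kL (RR.getD q ([], 0, [])).2.2 && Nat.blt (RR.getD q ([], 0, [])).2.1 7 &&
  chk (GI (IL.getD (q / 4) (0, [])).1 ++ ((IL.getD (q / 4) (0, [])).2 ++ (CW (q % 4) ++ [3])))
    ((RR.getD q ([], 0, [])).1 ++ (GI (RR.getD q ([], 0, [])).2.1 ++ (RR.getD q ([], 0, [])).2.2))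

/-- conjugates of the basis of E under x, y, y⁻¹ -/
def CJ : List (List (List ℕ)) := [[[10], [5], [6], [5, 6, 7, 12, 14], [4, 8, 9, 10], [9], [4], [5, 6, 7, 8, 10, 12, 13], [14], [7, 8, 9, 10, 11, 12], [12]], [[6], [7], [8], [9], [4], [5], [11], [13], [4, 7, 8, 9, 10, 11, 12], [10], [5, 9, 10, 13, 14]], [[8], [9], [4], [5], [6], [7], [13], [10], [5, 6, 7, 8, 10, 12, 13], [11], [7, 9, 11, 13, 14]]]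

theorem cj_all : (List.range 3).all (fun g => (List.range 11).all (fun j =>
    ((CJ.getD g []).getD j []).all (fun c => Nat.ble 4 c && Nat.blt c 15) &&
    chk [4 + j, g] (g :: ((CJ.getD g []).getD j [])))) = true := by
  decide +kernel

theorem comm_all : (List.range 11).all (fun i => (List.range i).all (fun j => chk [4 + i, 4 + j] [4 + j, 4 + i])) = true := by
  decide +kernel

/-- generators of the subgroup of order 2 ^ 9, and their conjugates under t -/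
def ETH : List (List ℕ × List ℕ) := [([4], [4]), ([5], [5]), ([6], [20, 20, 20, 5, 6]), ([9], [1, 16, 17, 16, 20, 16, 18, 25, 0, 9]), ([10], [10]), ([11], [2, 16, 29, 15, 20, 29, 29, 0, 11]), ([7, 8, 12], [2, 26, 20, 29, 29, 24, 17, 27, 4, 5, 7, 8, 12]), ([13], [2, 20, 28, 15, 16, 16, 20, 10, 13]), ([7, 14], [1, 29, 16, 22, 16, 15, 26, 25, 7, 14])]

theorem eth_all : ETH.all (fun p => p.1.all (fun c => Nat.ble 4 c && Nat.blt c 15) && kL p.2 &&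
    chk (3 :: (p.1 ++ [3])) p.2) = true := by
  decide +kernel

/-- stabilising elements: (i, word in x, y; word in E; conjugate) -/
def SGL : List (ℕ × List ℕ × List ℕ × List ℕ) := [(1, [0], [], [0]), (1, [1, 0, 1, 0, 2, 0, 2, 0, 1, 0, 1, 0, 1], [], [1, 19, 17, 24, 29]), (2, [1, 0, 1, 0, 2, 0, 1, 0, 2, 0, 2, 0, 2, 0, 1, 0, 1, 0, 1, 0, 1, 0, 2, 0, 2, 0, 2, 0, 2, 0, 1, 0, 2, 0, 2, 0, 2, 0, 1, 0, 1, 0, 2, 0, 1, 0, 2, 0, 1], [8, 11, 12, 13, 14], [2, 29, 22, 21, 27, 17, 18, 28, 0, 4, 5, 8, 12, 14]), (2, [0, 2, 0, 2, 0, 2, 0, 1, 0, 1, 0, 1, 0, 1, 0, 2, 0, 1, 0, 1, 0, 2, 0, 1, 0, 1, 0, 2, 0, 1, 0, 2, 0, 1, 0, 2, 0, 1, 0, 2], [5, 6, 10, 11], [2, 30, 30, 28, 15, 17, 19, 30, 0, 4, 13]), (3, [0, 2, 0, 2, 0, 1, 0, 2, 0, 2, 0, 2, 0, 1, 0, 2, 0, 2, 0, 1, 0, 1, 0, 2, 0, 1, 0, 2, 0,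 1, 0, 1, 0, 1, 0, 1, 0, 1, 0, 1, 0, 1, 0, 2, 0, 1, 0, 1, 0, 2, 0, 2, 0, 2, 0, 1], [4, 8, 11, 12, 13, 14], [19, 18, 27, 23, 15, 19, 20, 4, 5, 6, 8, 10, 11, 12, 14]), (3, [1, 0, 2, 0, 1, 0, 2, 0, 2, 0, 1, 0, 1, 0, 2, 0, 1, 0, 1, 0, 1, 0, 1, 0, 1, 0, 2, 0, 1, 0, 2, 0, 1, 0, 2, 0, 2, 0, 1, 0, 2], [4, 7, 8, 10], [28, 15, 30, 27, 15, 28, 17, 0, 4, 6, 7, 8, 10, 11, 13, 14]), (4, [1, 0, 2, 0, 2, 0, 2, 0, 2, 0, 2, 0, 1, 0, 2, 0, 2, 0, 1, 0, 2, 0, 1, 0, 1, 0, 1, 0, 2, 0, 2, 0, 1, 0, 1, 0, 2, 0, 2, 0, 1, 0], [5, 6, 8, 9, 13, 14], [30, 23, 15, 15, 20, 17, 4, 12]), (4, [0, 1, 0, 1, 0, 2, 0, 2, 0, 1, 0, 1, 0, 1, 0, 2, 0, 2, 0, 1, 0, 2, 0, 2, 0, 2, 0, 1, 0, 1, 0, 2, 0, 2, 0, 2, 0, 1, 0, 1], [5, 7, 8, 9, 10, 11, 12, 14], [2, 18, 21, 17, 15, 15, 19, 18, 20, 0, 5, 6, 8, 9, 10, 11, 12,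 13]), (5, [2, 0, 1, 0, 1, 0, 2, 0, 2, 0, 2, 0, 2, 0, 2, 0, 2, 0, 2, 0, 1, 0, 2, 0, 1, 0, 2, 0, 1, 0, 2, 0, 1, 0, 2, 0, 2, 0, 1, 0, 1, 0, 2, 0, 1, 0, 1, 0, 2, 0], [7, 10, 11, 13], [1, 18, 20, 20, 28, 16, 30, 0, 4, 5, 6, 8, 10, 11]), (5, [0, 1, 0, 2, 0, 2, 0, 2, 0, 2, 0, 1, 0, 1, 0, 2, 0, 1, 0, 2, 0, 2, 0, 2, 0, 2, 0, 1, 0, 2, 0, 1, 0, 1, 0, 1, 0, 2, 0, 2], [5, 6, 8, 9, 10, 11], [1, 28, 16, 28, 16, 15, 23, 15, 10, 13]), (6, [2, 0, 2, 0, 2, 0, 1, 0, 1, 0, 1, 0, 2, 0, 1, 0, 2, 0, 2, 0, 1, 0, 1, 0, 1, 0, 1, 0, 1, 0, 2, 0, 2, 0, 2, 0, 2, 0, 1, 0, 2, 0, 1, 0, 1, 0, 2, 0, 2, 0], [4, 5, 7, 9, 12, 14], [16, 17, 15, 23, 20, 23, 4, 6, 7, 9, 10]), (6, [0, 2, 0, 2, 0, 2, 0, 1, 0, 2, 0, 1, 0, 2, 0, 2, 0, 2, 0, 2, 0, 1, 0, 2, 0, 2, 0, 1, 0, 1, 0, 2, 0, 1, 0, 1, 0, 2, 0, 2, 0, 2, 0, 1,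 0, 2, 0, 1], [4, 5, 6, 10, 11, 14], [1, 21, 29, 16, 20, 16, 29, 5, 9, 10, 12, 13, 14])]

theorem sg_all : SGL.all (fun p => Nat.blt p.1 7 && p.2.1.all (fun c => Nat.blt c 3) &&
    p.2.2.1.all (fun c => Nat.ble 4 c && Nat.blt c 15) && kL p.2.2.2 &&
    chk (GI p.1 ++ (p.2.1 ++ p.2.2.1)) (p.2.2.2 ++ GI p.1)) = true := by
  decide +kernel

/-- the element t from the representatives -/
def MXL : List (ℕ × List ℕ × List ℕ × List ℕ) := [(2, [0], [21, 26, 18, 22, 24, 0, 4, 5, 10], [1, 0, 2, 0, 2, 0, 1, 0, 2, 0, 1, 0, 2, 0, 1, 0, 2, 0, 1, 0, 1]), (3, [4], [1, 30, 22, 27, 20, 15, 27, 29, 4, 5, 6, 7, 8, 13], [12]), (4, [1], [1, 26, 30, 15, 29, 17, 29, 17, 10, 11], [1, 0, 2, 0, 2, 0, 2, 0, 1, 0, 1, 0, 1, 0, 2, 0, 1, 0, 2, 0, 1, 0, 2, 0, 8]), (5, [10], [2, 18, 22, 18, 17, 19, 21,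 4, 7, 9, 10, 11, 13, 14], [1, 0, 2, 0]), (6, [4, 10, 11, 0, 11], [27, 27, 15, 18, 15, 16, 21, 0, 7, 9, 12], [1, 0, 1, 0, 2, 0, 1, 0, 2, 0, 2, 0, 2, 0, 1, 0, 2, 0, 1, 8])]

theorem mx_all : MXL.all (fun p => kL p.2.1 && kL p.2.2.1 && kL p.2.2.2 &&
    chk (GI p.1 ++ p.2.1) (p.2.2.1 ++ (3 :: (p.2.2.2 ++ GI p.1)))) = true := by
  decide +kernel

/-- a conjugate of x in E -/
def xu : List ℕ := [3, 8, 2, 0, 1, 0, 2, 3, 1, 0, 2, 0, 1, 0, 2, 0, 1, 0, 2, 4, 8]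
def xe : List ℕ := [4, 7, 9, 11, 14]
theorem x_conj : chk (xe ++ xu) (xu ++ [0]) = true := by decide +kernel

theorem rel_t : chk [3, 3] [] = true := by decide +kernel
theorem rel_tx : chk [3, 0] [0, 3] = true := by decide +kernel
def wz0 : List ℕ := [1, 0, 1, 0, 2, 0, 2, 0, 1, 0, 1, 0, 1]
theorem rel_tz : chk (3 :: wz0) (wz0 ++ [3]) = true := by decide +kernel
def v7 : List ℕ := [1, 0, 1, 0, 1, 0, 1]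
def w2a : List ℕ := [2, 2, 0, 2, 0, 2, 0, 2, 0, 2, 0, 2, 0, 2, 2, 0, 2, 0, 2, 0]
def w2b : List ℕ := [0, 1, 0, 1, 0, 1, 1, 0, 1, 0, 1, 0, 1, 0, 1, 0, 1, 0, 1, 1]
theorem rel_w2 : chk (w2a ++ w2b) [] = true := by decide +kernel
theorem rel_11 : chk ((List.replicate 2 (v7 ++ (v7 ++ (v7 ++ (3 :: (w2a ++ (3 :: w2b))))))).flatten) [] = true := by decide +kernel

def p29 : List ℕ := [3, 2, 3, 2, 0, 1, 0, 1]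
theorem p29_pow : chkpow 29 p29 = true := by decide +kernel
theorem p29_ne : ev p29 ≠ 1 := ev_ne 1 (by decide +kernel)

def p31 : List ℕ := [0, 1, 0, 1, 0, 3, 1]
theorem p31_pow : chkpow 31 p31 = true := by decide +kernel
theorem p31_ne : ev p31 ≠ 1 := ev_ne 2 (by decide +kernel)

def p37 : List ℕ := [1, 0, 3]
theorem p37_pow : chkpow 37 p37 = true := by decide +kernel
theorem p37_ne : ev p37 ≠ 1 := ev_ne 1 (by decide +kernel)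

def p43 : List ℕ := [3, 2, 3, 2, 0, 2, 3, 2, 0]
theorem p43_pow : chkpow 43 p43 = true := by decide +kernel
theorem p43_ne : ev p43 ≠ 1 := ev_ne 3 (by decide +kernel)

def a11 : List ℕ := [0, 1, 0, 1, 0, 1, 0, 2, 0, 2, 0, 2]
def b11 : List ℕ := [2, 22, 28, 24, 17, 20, 15, 25, 0, 4, 6, 9, 10, 13, 3, 1, 0, 1, 3, 21, 27, 19, 22, 26, 4, 5, 6, 8, 10, 11, 12]
def a11i : List ℕ := [1, 0, 1, 0, 1, 0, 2, 0, 2, 0, 2, 0]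
def b11i : List ℕ := [12, 11, 10, 8, 6, 5, 4, 1, 0, 2, 0, 1, 0, 1, 0, 2, 0, 1, 0, 1, 0, 1, 0, 2, 0, 1, 0, 2, 0, 2, 0, 1, 0, 1, 0, 2, 0, 2, 0, 2, 0, 1, 0, 1, 0, 2, 0, 3, 2, 0, 2, 3, 13, 10, 9, 6, 4, 0, 1, 0, 2, 0, 1, 0, 2, 0, 2, 0, 2, 0, 2, 0, 2, 0, 2, 0, 1, 0, 2, 0, 1, 0, 2, 0, 2, 0, 1, 0, 2, 0, 1, 0, 2, 0, 2, 0, 1, 0, 1, 0, 1, 0, 2, 0, 1, 0, 2, 0, 1, 0, 1, 0, 1, 0, 1]
def c11 : List ℕ := a11i ++ (b11i ++ (a11 ++ b11))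
theorem a11_pow : chkpow 11 a11 = true := by decide +kernel
theorem b11_pow : chkpow 11 b11 = true := by decide +kernel
theorem a11_inv : chk (a11i ++ a11) [] = true := by decide +kernel
theorem b11_inv : chk (b11i ++ b11) [] = true := by decide +kernel
theorem c11_a : chk (c11 ++ a11) (a11 ++ c11) = true := by decide +kernel
theorem c11_b : chk (c11 ++ b11) (b11 ++ c11) = true := by decide +kernel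
theorem c11_ne : ev c11 ≠ 1 := ev_ne 1 (by decide +kernel)

theorem x_ne : ev [0] ≠ 1 := ev_ne 232 (by decide +kernel)
theorem y_ne : ev [1] ≠ 1 := ev_ne 114 (by decide +kernel)
theorem xy_ne : ev [2, 0, 4, 0, 1, 4] ≠ 1 := ev_ne 224 (by decide +kernel)
theorem yY : chk [1, 2] [] = true := by decide +kernel

end Cfsg.Agent.HH.PM
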