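import Cfsg.Agent.HH.J4T

set_option autoImplicit false
set_option maxRecDepth 100000
set_option maxHeartbeats 4000000

/-! Data of the centraliser of an involution (generated). -/

namespace Cfsg.Agent.HH.PM

open Cfsg.Agent.Golay

def cw : List ℕ := [2, 0, 1, 0, 2, 3, 1, 0, 2, 0, 1, 8, 3]
def cwi : List ℕ := [3, 8, 2, 0, 1, 0, 2, 3, 1, 0, 2, 0, 1]
def sa : List ℕ := [1, 30, 28, 17, 21, 21, 0]
def sb : List ℕ := [27, 23, 28, 24, 18]
def Dl (i : ℕ) : List ℕ := ([[4], [5], [9], [11], [13], [7, 14], [10]] : List (List ℕ)).getD i []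
def dwl (l : List ℕ) : List ℕ := l.flatMap Dl
def qwl (p : List ℕ × List ℕ) : List ℕ := dwl p.1 ++ (cwi ++ (dwl p.2 ++ cw))
def GN (a : ℕ) : List ℕ := ([sa, sb, cw, [4], [5], [6], [7], [8], [9], [10], [11], [12], [13], [14]] : List (List ℕ)).getD a []
def qg (i : ℕ) : List ℕ := if i < 6 then Dl i else cwi ++ (Dl (i - 6) ++ cw)
def RDT (i : ℕ) : List ℕ := ([[4], [1, 2, 3, 4, 5], [3], [0, 1, 3, 4, 5], [1], [1, 3, 4, 5]] : List (List ℕ)).getD i []
def RET (i : ℕ) : List ℕ := ([[3], [1, 3, 4, 5], [1], [1, 2, 3, 5], [0, 1, 3, 5], [1, 3, 5]] : List (List ℕ)).getD i []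
def NQT (a i : ℕ) : List ℕ × List ℕ := (([[([0, 2, 3, 4, 5], []), ([0, 5, 6], []), ([0, 1, 3, 4, 6], []), ([2, 4, 5, 6], []), ([2, 3, 5, 6], []), ([0, 1, 2, 3, 4, 5, 6], []), ([0, 1, 3, 4, 5], [0, 2, 3]), ([0, 3, 6], [0, 3, 4]), ([1, 3, 5, 6], [0, 1, 2, 3, 4]), ([1, 3, 5, 6], [0, 1, 4]), ([3, 4], [2, 3, 4]), ([0, 2, 4, 5, 6], [0, 1, 3, 4, 5])],
  [([0, 2, 3, 4, 5], []), ([2, 3, 4, 6], []), ([1, 3, 4, 6], []), ([0, 1, 6], []), ([0, 1, 2, 3, 5, 6], []), ([0, 2, 3, 5, 6], []), ([0, 1, 2, 5, 6], [2, 4, 5]), ([0, 1, 4, 6], [0, 1, 2, 5]), ([0, 1, 2], [2, 3, 5]), ([0, 2, 3, 5, 6], [0, 1, 4, 5]), ([1, 2, 3, 4], [0, 1]), ([2, 4, 5], [0, 3])],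
  [([], [0]), ([], [1]), ([], [2]), ([], [3]), ([], [4]), ([], [5]), ([2, 6], [1, 2, 3, 4, 5]), ([0, 1, 3, 5], [5]), ([4], [2, 4]), ([1], [1, 3]), ([3], [1, 3, 5]), ([0, 1, 3, 6], [0, 3, 4])],
  [([0], []), ([1], []), ([2], []), ([3], []), ([4], []), ([5], []), ([], [0]), ([], [1]), ([], [2]), ([], [3]), ([6], [4]), ([6], [5])],
  [([0], []), ([1], []), ([2], []), ([3], []), ([4], []), ([5], []), ([], [0]), ([], [1]), ([6], [2]), ([], [3]), ([], [4]), ([], [5])],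
  [([0], []), ([1], []), ([2], []), ([3], []), ([4], []), ([5], []), ([0, 6], [0]), ([1], [1]), ([1, 3, 4, 5], [2]), ([], [3]), ([3], [4]), ([3, 6], [5])],
  [([0], []), ([1], []), ([2], []), ([3], []), ([4], []), ([5], []), ([1, 2, 3, 4, 5, 6], [0]), ([5, 6], [1]), ([4], [2]), ([3], [3]), ([], [4]), ([4, 5, 6], [5])],
  [([0], []), ([1], []), ([2], []), ([3], []), ([4], []), ([5], []), ([2], [0]), ([0, 1, 3, 5], [1]), ([], [2]), ([1, 5], [3]), ([4], [4]), ([0, 2, 3, 6], [5])],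
  [([0], []), ([1], []), ([2], []), ([3], []), ([4], []), ([5], []), ([], [0]), ([], [1]), ([], [2]), ([6], [3]), ([], [4]), ([6], [5])],
  [([0], []), ([1], []), ([2], []), ([3], []), ([4], []), ([5], []), ([], [0]), ([], [1]), ([], [2]), ([], [3]), ([], [4]), ([], [5])],
  [([0], []), ([1], []), ([2], []), ([3], []), ([4], []), ([5], []), ([6], [0]), ([], [1]), ([], [2]), ([], [3]), ([], [4]), ([], [5])],
  [([0], []), ([1], []), ([2], []), ([3], []), ([4], []), ([5], []), ([1, 3, 4, 5], [0]), ([0, 1, 3], [1]), ([2, 4], [2]), ([3, 5], [3]), ([1, 3, 4, 5, 6], [4]), ([2, 4], [5])],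
  [([0], []), ([1], []), ([2], []), ([3], []), ([4], []), ([5], []), ([], [0]), ([6], [1]), ([], [2]), ([], [3]), ([], [4]), ([6], [5])],
  [([0], []), ([1], []), ([2], []), ([3], []), ([4], []), ([5], []), ([1, 2, 3, 4, 5], [0]), ([5, 6], [1]), ([4, 6], [2]), ([3], [3]), ([], [4]), ([4, 5], [5])]] : List (List (List ℕ × List ℕ))).getD a []).getD i ([], [])
def d3w : List ℕ := [15, 30, 18, 29, 22, 27, 20]
def NDT (a : ℕ) : ℕ × (List ℕ × List ℕ) := ([(1, ([1, 2, 3, 5], [0, 1, 4, 5])), (2, ([], [])), (1, ([0, 1, 3, 4, 5], [0, 3])), (1, ([0, 1, 6], [])), (1, ([0], [])), (1, ([0, 1, 2, 3], [])), (1, ([0, 3, 4, 5, 6], [])), (1, ([0, 2, 3, 6], [])), (1, ([0, 1, 2, 3, 5], [])), (1, ([], [])), (1, ([3, 4, 5, 6], [])), (1, ([4, 6], [])), (1, ([1, 2, 4, 5, 6], [])), (1, ([0, 1, 2], []))] : List (ℕ × (List ℕ × List ℕ))).getD a (0, ([], []))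
def I7 : List ℕ := [3, 0, 2, 13]
def I11 : List ℕ := [2, 6, 7, 5, 2]

theorem cw_inv : chk (cwi ++ cw) [] = true := by decide +kernel
theorem gn_z : (List.range 14).all (fun a => chk ([10] ++ GN a) (GN a ++ [10])) = true := by decide +kernel
theorem gn_let : (List.range 14).all (fun a => (GN a).all (fun c => Nat.blt c 31)) = true := by decide +kernel
theorem gram1 : (List.range 6).all (fun i => (List.range 6).all (fun j =>
    chk (Dl i ++ (cwi ++ (dwl (RDT j) ++ cw))) ((cwi ++ (dwl (RDT j) ++ cw)) ++ (Dl i ++ (if i = j then [10] else []))))) = true := by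
  decide +kernel
theorem gram2 : (List.range 6).all (fun i => (List.range 6).all (fun j =>
    chk ((cwi ++ (Dl j ++ cw)) ++ dwl (RET i)) (dwl (RET i) ++ ((cwi ++ (Dl j ++ cw)) ++ (if i = j then [10] else []))))) = true := by
  decide +kernel
theorem nq_ok : (List.range 14).all (fun a => (List.range 12).all (fun i =>
    (NQT a i).1.all (fun c => Nat.blt c 7) && (NQT a i).2.all (fun c => Nat.blt c 7))) = true := by
  decide +kernel
theorem rt_ok : (List.range 6).all (fun i => (RDT i).all (fun c => Nat.blt c 7) && (RET i).all (fun c => Nat.blt c 7)) = true := by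
  decide +kernel
theorem nd_ok : (List.range 14).all (fun a => (NDT a).2.1.all (fun c => Nat.blt c 7) && (NDT a).2.2.all (fun c => Nat.blt c 7) &&
    (Nat.beq (NDT a).1 1 || Nat.beq (NDT a).1 2)) = true := by
  decide +kernel
theorem d3_pow : chkpow 3 d3w = true := by decide +kernel
theorem d3_kl : d3w.all (fun c => Nat.blt c 31 && !(Nat.beq c 3)) = true := by decide +kernel
theorem d3_z : chk ([10] ++ d3w) (d3w ++ [10]) = true := by decide +kernel
theorem nd_all : (List.range 14).all (fun a =>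
    chk (d3w ++ GN a) (GN a ++ ((List.replicate (NDT a).1 d3w).flatten ++ qwl (NDT a).2))) = true := by
  decide +kernel
theorem e7_pow : chkpow 7 (I7.flatMap GN) = true := by decide +kernel
theorem e11_pow : chkpow 11 (I11.flatMap GN) = true := by decide +kernel

end Cfsg.Agent.HH.PM
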