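import Cfsg.Agent.HH.Cocyc
import Cfsg.Agent.M24X.Cocode
import Cfsg.Agent.Golay.Steiner
import Cfsg.Agent.H8.LeechInv
import Cfsg.Prelude.Def_Spor_Mathieu

set_option autoImplicit false
set_option maxHeartbeats 1000000

/-!
The extension of the Mathieu group of degree 23 by its cocode module.
-/

namespace Cfsg.Agent.HH.M23E

open Cfsg Cfsg.Spor Cfsg.Agent.Golay Cfsg.Agent.M24X
open scoped Pointwise

/-- the word of a mask -/
def wd (m : ℕ) : V24 := fun p => if m.testBit (idx p) then 1 else 0

/-- integral weight -/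
def wtn (x : V24) : ℕ := ∑ p, (x p).val

/-- integral intersection -/
def itn (x y : V24) : ℕ := ∑ p, (x p * y p).val

/-- the cubic form -/
def qf (x : V24) : ZMod 2 := ((wtn x / 4 : ℕ) : ZMod 2)

/-- its first polarization -/
def bf (x y : V24) : ZMod 2 := ((itn x y / 2 : ℕ) : ZMod 2)

/-- the basis words -/
def bw (k : Fin 11) : V24 := wd (codeBasis.getD k.val 0)

/-- the information positions -/
def ip (k : Fin 11) : GolayPt := pt (12 + k.val)

/-- the codewords vanishing at the extra point -/
def C0 : Submodule (ZMod 2) V24 := golayCode ⊓ LinearMap.ker (LinearMap.proj (R := ZMod 2) (φ := fun _ : GolayPt => ZMod 2) none)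

lemma mem_C0 {x : V24} : x ∈ C0 ↔ x ∈ golayCode ∧ x none = 0 := by
  unfold C0
  rw [Submodule.mem_inf, LinearMap.mem_ker, LinearMap.proj_apply]

lemma wtn_eq (x : V24) : wtn x = (support₂ x).card := by
  unfold wtn support₂
  rw [Finset.card_filter]
  apply Finset.sum_congr rfl
  intro p _
  have : ∀ a : ZMod 2, a.val = if a ≠ 0 then 1 else 0 := by decide
  exact this _

lemma wtn_dvd {x : V24} (hx : x ∈ golayCode) : 4 ∣ wtn x := by
  rw [wtn_eq]
  exact Cfsg.Agent.H8.four_dvd_card ⟨x, hx, rfl⟩

lemma wtn_add (x y : V24) : wtn (x + y) + 2 * itn x y = wtn x + wtn y := by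
  unfold wtn itn
  rw [Finset.mul_sum, ← Finset.sum_add_distrib, ← Finset.sum_add_distrib]
  apply Finset.sum_congr rfl
  intro p _
  have : ∀ a b : ZMod 2, (a + b).val + 2 * (a * b).val = a.val + b.val := by decide
  exact this _ _

lemma itn_even {x y : V24} (hx : x ∈ golayCode) (hy : y ∈ golayCode) : 2 ∣ itn x y := by
  have h1 := wtn_dvd hx
  have h2 := wtn_dvd hy
  have h3 := wtn_dvd (add_mem hx hy)
  have h4 := wtn_add x y
  omega

lemma itn_self (x : V24) : itn x x = wtn x := by
  unfold wtn itn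
  apply Finset.sum_congr rfl
  intro p _
  rw [z2_mul_self]

lemma itn_comm (x y : V24) : itn x y = itn y x := by
  unfold itn
  apply Finset.sum_congr rfl
  intro p _
  rw [mul_comm]

lemma itn_add (x y z : V24) : itn (x + y) z + 2 * (∑ p, (x p * y p * z p).val) = itn x z + itn y z := by
  unfold itn
  rw [Finset.mul_sum, ← Finset.sum_add_distrib, ← Finset.sum_add_distrib]
  apply Finset.sum_congr rfl
  intro p _
  have : ∀ a b c : ZMod 2, ((a + b) * c).val + 2 * (a * b * c).val = (a * c).val + (b * c).val := by decide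
  exact this _ _ _

lemma qf_add {x y : V24} (hx : x ∈ golayCode) (hy : y ∈ golayCode) : qf (x + y) = qf x + qf y + bf x y := by
  obtain ⟨a, ha⟩ := wtn_dvd hx
  obtain ⟨b, hb⟩ := wtn_dvd hy
  obtain ⟨c, hc⟩ := wtn_dvd (add_mem hx hy)
  obtain ⟨d, hd⟩ := itn_even hx hy
  have h := wtn_add x y
  have e : c + d = a + b := by omega
  unfold qf bf
  rw [ha, hb, hc, hd, Nat.mul_div_cancel_left _ (by norm_num), Nat.mul_div_cancel_left _ (by norm_num),
    Nat.mul_div_cancel_left _ (by norm_num), Nat.mul_div_cancel_left _ (by norm_num)]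
  have e2 := congrArg (Nat.cast : ℕ → ZMod 2) e
  rw [Nat.cast_add, Nat.cast_add] at e2
  have e3 := z2_add_self (d : ZMod 2)
  linear_combination e2 - e3

lemma bf_add {x y z : V24} (hx : x ∈ golayCode) (hy : y ∈ golayCode) (hz : z ∈ golayCode) :
    bf (x + y) z = bf x z + bf y z + ∑ p, x p * y p * z p := by
  obtain ⟨a, ha⟩ := itn_even hx hz
  obtain ⟨b, hb⟩ := itn_even hy hz
  obtain ⟨c, hc⟩ := itn_even (add_mem hx hy) hz
  have h := itn_add x y z
  have e : c + (∑ p, (x p * y p * z p).val) = a + b := by omega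
  unfold bf
  rw [ha, hb, hc, Nat.mul_div_cancel_left _ (by norm_num), Nat.mul_div_cancel_left _ (by norm_num),
    Nat.mul_div_cancel_left _ (by norm_num)]
  have e2 := congrArg (Nat.cast : ℕ → ZMod 2) e
  rw [Nat.cast_add, Nat.cast_add, Nat.cast_sum] at e2
  have e4 : ∑ p, (((x p * y p * z p).val : ℕ) : ZMod 2) = ∑ p, x p * y p * z p := by
    apply Finset.sum_congr rfl
    intro p _
    exact ZMod.natCast_zmod_val _
  rw [e4] at e2
  have e3 := z2_add_self (∑ p, x p * y p * z p)
  linear_combination e2 - e3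

lemma bf_comm (x y : V24) : bf x y = bf y x := by
  unfold bf; rw [itn_comm]

lemma bf_self {x : V24} (hx : x ∈ golayCode) : bf x x = 0 := by
  obtain ⟨a, ha⟩ := wtn_dvd hx
  unfold bf
  rw [itn_self, ha, show 4 * a / 2 = 2 * a by omega]
  push_cast
  rw [show (2 : ZMod 2) = 0 from rfl, zero_mul]

lemma top_zero {y : V24} (hy : y ∈ golayCode) (h : ∀ i, 12 ≤ i → i < 24 → y (pt i) = 0) : y = 0 := by
  have h1 := mem_golayCode_iff.1 hy
  rw [inCode_def] at h1
  have h2 : (maskOf (support₂ y)) >>> 12 = 0 := by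
    apply Nat.eq_of_testBit_eq
    intro j
    rw [Nat.testBit_shiftRight, Nat.zero_testBit]
    rcases lt_or_ge (12 + j) 24 with h3 | h3
    · rw [testBit_maskOf_lt _ h3, decide_eq_false_iff_not]
      simp only [support₂, Finset.mem_filter, Finset.mem_univ, true_and, not_not]
      exact h _ (by omega) h3
    · exact Nat.testBit_lt_two_pow (lt_of_lt_of_le (maskOf_lt _) (Nat.pow_le_pow_right (by norm_num) h3))
  rw [h2, enc_zero] at h1
  funext p
  have h3 := testBit_maskOf (support₂ y) p
  rw [← h1, Nat.zero_testBit, eq_comm, decide_eq_false_iff_not] at h3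
  simpa [support₂] using h3

lemma wd_mem {m : ℕ} (h : inCode m = true) : wd m ∈ golayCode := by
  rw [mem_golayCode_iff_support]
  have : support₂ (wd m) = ofMask m := by
    ext p
    simp [support₂, wd]
  rw [this]
  exact ofMask_mem_supports h

lemma bw_mem (k : Fin 11) : bw k ∈ C0 := by
  rw [mem_C0]
  constructor
  · apply wd_mem
    revert k; decide
  · revert k; decide

lemma bw_ip : ∀ i j : Fin 11, bw j (ip i) = if i = j then 1 else 0 := by decide +kernel

lemma bw_none : ∀ j : Fin 11, bw j none = 0 := fun j => (mem_C0.1 (bw_mem j)).2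

/-- basis of `C0` -/
def bC (k : Fin 11) : C0 := ⟨bw k, bw_mem k⟩

/-- coordinates -/
def cC (k : Fin 11) : C0 →ₗ[ZMod 2] ZMod 2 := (LinearMap.proj (R := ZMod 2) (φ := fun _ : GolayPt => ZMod 2) (ip k)).comp C0.subtype

lemma expand (x : C0) : x = ∑ i, cC i x • bC i := by
  apply Subtype.ext
  rw [← sub_eq_zero]
  have hx := mem_C0.1 x.2
  have hs : ((∑ i, cC i x • bC i : C0) : V24) = ∑ i, (x : V24) (ip i) • bw i := by
    rw [Submodule.coe_sum]; rfl
  rw [hs]
  have hval : ∀ p, (∑ i, (x : V24) (ip i) • bw i) p = ∑ i, (x : V24) (ip i) * bw i p := by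
    intro p
    rw [Finset.sum_apply]; rfl
  apply top_zero
  · apply sub_mem hx.1
    apply Submodule.sum_mem
    intro i _
    exact Submodule.smul_mem _ _ (mem_C0.1 (bw_mem i)).1
  · intro i h1 h2
    rw [Pi.sub_apply, hval]
    rcases Nat.lt_or_ge i 23 with h3 | h3
    · have e : pt i = ip ⟨i - 12, by omega⟩ := by
        unfold ip; congr 1; simp; omega
      rw [e]
      simp only [bw_ip]
      simp
    · have e : pt i = none := by
        have : i = 23 := by omega
        subst this; rfl
      rw [e, hx.2]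
      simp [bw_none]

/-- the trilinear form -/
def aC (x y : C0) : C0 →ₗ[ZMod 2] ZMod 2 where
  toFun z := ∑ p, (x : V24) p * (y : V24) p * (z : V24) p
  map_add' z z' := by
    rw [← Finset.sum_add_distrib]
    apply Finset.sum_congr rfl
    intro p _
    change _ * ((z : V24) p + (z' : V24) p) = _
    ring
  map_smul' t z := by
    rw [RingHom.id_apply, smul_eq_mul, Finset.mul_sum]
    apply Finset.sum_congr rfl
    intro p _
    change _ * (t * (z : V24) p) = _
    ring

/-- the cocycle -/
def th (x y : C0) : ZMod 2 := theta bC cC (fun x => qf x) (fun x y => bf x y) x y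

lemma th_assoc (x y z : C0) : th y z + th (x + y) z + th x (y + z) + th x y = aC x y z :=
  theta_assoc bC cC (fun x => qf x) (fun x y => bf x y) aC expand
    (fun x y z => bf_add (mem_C0.1 x.2).1 (mem_C0.1 y.2).1 (mem_C0.1 z.2).1) x y z

lemma th_comm (x y : C0) : th x y + th y x = bf x y :=
  theta_comm bC cC (fun x => qf x) (fun x y => bf x y) aC expand (fun i j => bw_ip i j)
    (fun x y => bf_comm _ _) (fun x => bf_self (mem_C0.1 x.2).1)
    (fun x y z => bf_add (mem_C0.1 x.2).1 (mem_C0.1 y.2).1 (mem_C0.1 z.2).1) x y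

lemma th_diag (x : C0) : th x x = qf x :=
  theta_diag bC cC (fun x => qf x) (fun x y => bf x y) aC expand (fun i j => bw_ip i j)
    (fun x y => bf_comm _ _) (fun x => bf_self (mem_C0.1 x.2).1)
    (fun x y z => bf_add (mem_C0.1 x.2).1 (mem_C0.1 y.2).1 (mem_C0.1 z.2).1)
    (fun x y => by
      change ∑ p, (x : V24) p * (y : V24) p * (x : V24) p = 0
      rw [← golay_dot (mem_C0.1 x.2).1 (mem_C0.1 y.2).1]
      apply Finset.sum_congr rfl
      intro p _
      have : ∀ a b : ZMod 2, a * b * a = a * b := by decide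
      exact this _ _)
    (fun x y => by
      change ∑ p, (x : V24) p * (y : V24) p * (y : V24) p = 0
      rw [← golay_dot (mem_C0.1 x.2).1 (mem_C0.1 y.2).1]
      apply Finset.sum_congr rfl
      intro p _
      have : ∀ a b : ZMod 2, a * b * b = a * b := by decide
      exact this _ _)
    (fun x y => qf_add (mem_C0.1 x.2).1 (mem_C0.1 y.2).1) x

end Cfsg.Agent.HH.M23E
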