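import Cfsg.Agent.HH.M23Ext

set_option autoImplicit false
set_option maxHeartbeats 1000000

/-!
The extension of the Mathieu group of degree 23 by its cocode module: the group.
-/

namespace Cfsg.Agent.HH.M23E

open Cfsg Cfsg.Spor Cfsg.Agent.Golay Cfsg.Agent.M24X
open scoped Pointwise

/-! ### the action on the shortened code -/

/-- the action of the group on the shortened code -/
def act (s : M23) : C0 →ₗ[ZMod 2] C0 where
  toFun x := ⟨pact (s : Equiv.Perm GolayPt) x, by
    obtain ⟨s, hs⟩ := s
    rw [mem_C0]
    have hx := mem_C0.1 x.2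
    refine ⟨pact_mem hs.1 hx.1, ?_⟩
    rw [pact_apply]
    have : s⁻¹ none = none := by
      rw [Equiv.Perm.inv_eq_iff_eq]
      exact (MulAction.mem_stabilizer_iff.1 hs.2).symm
    change (x : V24) (s⁻¹ none) = 0
    rw [this]; exact hx.2⟩
  map_add' x y := by
    apply Subtype.ext
    exact map_add (pact _) _ _
  map_smul' t x := by
    apply Subtype.ext
    exact map_smul (pact _) _ _

lemma act_coe (s : M23) (x : C0) : (act s x : V24) = pact (s : Equiv.Perm GolayPt) x := rfl

lemma act_mul (s t : M23) (x : C0) : act (s * t) x = act s (act t x) := by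
  apply Subtype.ext
  exact pact_mul _ _ _

lemma act_one (x : C0) : act 1 x = x := by
  apply Subtype.ext
  exact pact_one _

lemma act_inv_act (s : M23) (x : C0) : act s⁻¹ (act s x) = x := by
  rw [← act_mul, inv_mul_cancel, act_one]

lemma act_act_inv (s : M23) (x : C0) : act s (act s⁻¹ x) = x := by
  rw [← act_mul, mul_inv_cancel, act_one]

lemma wtn_pact (s : Equiv.Perm GolayPt) (x : V24) : wtn (pact s x) = wtn x := by
  unfold wtn
  exact Equiv.sum_comp s⁻¹ (fun p => (x p).val)

lemma itn_pact (s : Equiv.Perm GolayPt) (x y : V24) : itn (pact s x) (pact s y) = itn x y := by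
  unfold itn
  exact Equiv.sum_comp s⁻¹ (fun p => (x p * y p).val)

lemma qf_act (s : M23) (x : C0) : qf (act s x : V24) = qf x := by
  rw [act_coe]; unfold qf; rw [wtn_pact]

lemma bf_act (s : M23) (x y : C0) : bf (act s x : V24) (act s y) = bf x y := by
  rw [act_coe, act_coe]; unfold bf; rw [itn_pact]

lemma aC_act (s : M23) (x y z : C0) : aC (act s x) (act s y) (act s z) = aC x y z := by
  change ∑ p, (pact (s : Equiv.Perm GolayPt) x) p * (pact (s : Equiv.Perm GolayPt) y) p * (pact (s : Equiv.Perm GolayPt) z) p =
    ∑ p, (x : V24) p * (y : V24) p * (z : V24) p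
  exact Equiv.sum_comp (s : Equiv.Perm GolayPt)⁻¹ (fun p => (x : V24) p * (y : V24) p * (z : V24) p)

/-- the obstruction cocycle -/
def kap (s : M23) (x y : C0) : ZMod 2 := th x y + th (act s⁻¹ x) (act s⁻¹ y)

lemma kap_one (x y : C0) : kap 1 x y = 0 := by
  unfold kap
  rw [inv_one, act_one, act_one, z2_add_self]

lemma kap_mul (s t : M23) (x y : C0) : kap (s * t) x y = kap s x y + kap t (act s⁻¹ x) (act s⁻¹ y) := by
  unfold kap
  rw [mul_inv_rev, act_mul, act_mul]
  have e := z2_add_self (th (act s⁻¹ x) (act s⁻¹ y))
  linear_combination - e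

lemma kap_symm (s : M23) (x y : C0) : kap s x y = kap s y x := by
  unfold kap
  have h1 := th_comm x y
  have h2 := th_comm (act s⁻¹ x) (act s⁻¹ y)
  have h3 := bf_act s⁻¹ x y
  have e1 := z2_add_self (th y x)
  have e2 := z2_add_self (th (act s⁻¹ y) (act s⁻¹ x))
  have e3 := z2_add_self (bf (x : V24) y)
  linear_combination h1 + h2 + h3 - e1 - e2 + e3

lemma kap_diag (s : M23) (x : C0) : kap s x x = 0 := by
  unfold kap
  rw [th_diag, th_diag, qf_act, z2_add_self]

lemma kap_assoc (s : M23) (x y z : C0) : kap s y z + kap s (x + y) z + kap s x (y + z) + kap s x y = 0 := by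
  unfold kap
  rw [map_add, map_add]
  have h1 := th_assoc x y z
  have h2 := th_assoc (act s⁻¹ x) (act s⁻¹ y) (act s⁻¹ z)
  have h3 := aC_act s⁻¹ x y z
  have e3 := z2_add_self (aC x y z)
  linear_combination h1 + h2 + h3 + e3

/-! ### the group -/

/-- the extension -/
@[ext] structure E where
  /-- the permutation -/
  s : M23
  /-- the cochain -/
  f : C0 → ZMod 2
  /-- its coboundary -/
  h : ∀ x y, f (x + y) = f x + f y + kap s x y

instance : Mul E where
  mul a b := ⟨a.s * b.s, fun x => a.f x + b.f (act a.s⁻¹ x), fun x y => by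
    rw [map_add, a.h, b.h, kap_mul]; ring⟩

instance : One E where
  one := ⟨1, fun _ => 0, fun x y => by rw [kap_one]; ring⟩

lemma kap_inv (s : M23) (x y : C0) : kap s⁻¹ x y = kap s (act s x) (act s y) := by
  unfold kap
  rw [inv_inv, act_inv_act, act_inv_act, add_comm]

instance : Inv E where
  inv a := ⟨a.s⁻¹, fun x => a.f (act a.s x), fun x y => by
    rw [map_add, a.h, kap_inv]⟩

lemma mul_s (a b : E) : (a * b).s = a.s * b.s := rfl
lemma mul_f (a b : E) (x : C0) : (a * b).f x = a.f x + b.f (act a.s⁻¹ x) := rfl
lemma one_s : (1 : E).s = 1 := rfl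
lemma one_f (x : C0) : (1 : E).f x = 0 := rfl
lemma inv_s (a : E) : (a⁻¹).s = a.s⁻¹ := rfl
lemma inv_f (a : E) (x : C0) : (a⁻¹).f x = a.f (act a.s x) := rfl

instance : Group E where
  mul_assoc a b c := by
    apply E.ext
    · exact mul_assoc _ _ _
    · funext x
      rw [mul_f, mul_f, mul_f, mul_f, mul_s, mul_inv_rev, act_mul]
      ring
  one_mul a := by
    apply E.ext
    · exact one_mul _
    · funext x
      rw [mul_f, one_f, one_s, inv_one, act_one, zero_add]
  mul_one a := by
    apply E.ext
    · exact mul_one _
    · funext x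
      rw [mul_f, one_f, add_zero]
  inv_mul_cancel a := by
    apply E.ext
    · exact inv_mul_cancel _
    · funext x
      rw [mul_f, inv_f, inv_s, inv_inv, one_f, z2_add_self]

instance : Finite C0 := inferInstance

instance : Finite E := by
  have : Function.Injective (fun a : E => (a.s, a.f)) := by
    intro a b hab
    rw [Prod.mk.injEq] at hab
    exact E.ext hab.1 hab.2
  exact Finite.of_injective _ this

/-- the projection -/
def prj : E →* M23 where
  toFun := E.s
  map_one' := rfl
  map_mul' _ _ := rfl

lemma prj_surj : Function.Surjective prj := by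
  intro s
  obtain ⟨f, hf⟩ := exists_coboundary (kap s) (kap_symm s) (kap_diag s) (kap_assoc s)
  exact ⟨⟨s, f, hf⟩, rfl⟩

/-- dot product with a word -/
def dotw (w : V24) : C0 →+ ZMod 2 where
  toFun x := ∑ p, w p * (x : V24) p
  map_zero' := by simp
  map_add' x y := by
    rw [← Finset.sum_add_distrib]
    apply Finset.sum_congr rfl
    intro p _
    change w p * ((x : V24) p + (y : V24) p) = _
    ring

/-- the parametrization of the kernel -/
def thE : V24 →+ Additive prj.ker where
  toFun w := Additive.ofMul ⟨⟨1, dotw w, fun x y => by rw [map_add, kap_one, add_zero]⟩, rfl⟩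
  map_zero' := by
    apply congrArg Additive.ofMul
    apply Subtype.ext
    apply E.ext
    · rfl
    · funext x
      change ∑ p, (0 : V24) p * (x : V24) p = 0
      simp
  map_add' w v := by
    apply congrArg Additive.ofMul
    apply Subtype.ext
    apply E.ext
    · exact (mul_one 1).symm
    · funext x
      change ∑ p, (w + v) p * (x : V24) p = ∑ p, w p * (x : V24) p + ∑ p, v p * (act (1 : M23)⁻¹ x : V24) p
      rw [inv_one, act_one, ← Finset.sum_add_distrib]
      apply Finset.sum_congr rfl
      intro p _
      rw [Pi.add_apply]; ring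

lemma thE_val_s (w : V24) : (((thE w).toMul : prj.ker) : E).s = 1 := rfl
lemma thE_val_f (w : V24) (x : C0) : (((thE w).toMul : prj.ker) : E).f x = ∑ p, w p * (x : V24) p := rfl

lemma thE_surj : Function.Surjective thE := by
  intro n
  obtain ⟨⟨⟨s, f, hf⟩, hn⟩, rfl⟩ := Additive.ofMul.surjective n
  have hs : s = 1 := hn
  subst hs
  have hadd : ∀ x y, f (x + y) = f x + f y := by
    intro x y; rw [hf, kap_one, add_zero]
  let fa : C0 →+ ZMod 2 := AddMonoidHom.mk' f hadd
  let fl : C0 →ₗ[ZMod 2] ZMod 2 := fa.toZModLinearMap 2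
  obtain ⟨g, hg⟩ := fl.exists_extend
  refine ⟨fun p => g (Pi.single p 1), ?_⟩
  apply congrArg Additive.ofMul
  apply Subtype.ext
  apply E.ext
  · rfl
  · funext x
    have h1 : g (x : V24) = f x := LinearMap.congr_fun hg x
    change ∑ p, g (Pi.single p 1) * (x : V24) p = f x
    rw [← h1]
    conv_rhs => rw [← Finset.univ_sum_single (x : V24), map_sum]
    apply Finset.sum_congr rfl
    intro p _
    have : (Pi.single p ((x : V24) p) : V24) = (x : V24) p • Pi.single p 1 := by
      rw [← Pi.single_smul, smul_eq_mul, mul_one]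
    rw [this, map_smul, smul_eq_mul, mul_comm]

lemma golay_perp {w : V24} (h : ∀ x ∈ golayCode, ∑ p, w p * x p = 0) : w ∈ golayCode := by
  -- the dot product
  let B : V24 →ₗ[ZMod 2] Module.Dual (ZMod 2) golayCode :=
    { toFun := fun w =>
        { toFun := fun x => ∑ p, w p * (x : V24) p
          map_add' := fun x y => by
            rw [← Finset.sum_add_distrib]
            apply Finset.sum_congr rfl
            intro p _
            change w p * ((x : V24) p + (y : V24) p) = _
            ring
          map_smul' := fun t x => by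
            rw [RingHom.id_apply, smul_eq_mul, Finset.mul_sum]
            apply Finset.sum_congr rfl
            intro p _
            change w p * (t * (x : V24) p) = _
            ring }
      map_add' := fun w v => by
        ext x
        change ∑ p, (w p + v p) * (x : V24) p = ∑ p, w p * (x : V24) p + ∑ p, v p * (x : V24) p
        rw [← Finset.sum_add_distrib]
        apply Finset.sum_congr rfl
        intro p _
        ring
      map_smul' := fun t w => by
        ext x
        change ∑ p, (t * w p) * (x : V24) p = t * ∑ p, w p * (x : V24) p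
        rw [Finset.mul_sum]
        apply Finset.sum_congr rfl
        intro p _
        ring }
  have hB : ∀ w (x : golayCode), B w x = ∑ p, w p * (x : V24) p := fun _ _ => rfl
  have hsurj : Function.Surjective B := by
    intro l
    obtain ⟨g, hg⟩ := LinearMap.exists_extend l
    refine ⟨fun p => g (Pi.single p 1), ?_⟩
    ext x
    have h1 : g (x : V24) = l x := LinearMap.congr_fun hg x
    rw [hB, ← h1]
    conv_rhs => rw [← Finset.univ_sum_single (x : V24), map_sum]
    apply Finset.sum_congr rfl
    intro p _
    have : (Pi.single p ((x : V24) p) : V24) = (x : V24) p • Pi.single p 1 := by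
      rw [← Pi.single_smul, smul_eq_mul, mul_one]
    rw [this, map_smul, smul_eq_mul, mul_comm]
  have h24 : Module.finrank (ZMod 2) V24 = 24 := by
    rw [Module.finrank_fintype_fun_eq_card]; rfl
  have hr := B.finrank_range_add_finrank_ker
  rw [LinearMap.range_eq_top.2 hsurj, finrank_top, Subspace.dual_finrank_eq, finrank_golayCode, h24] at hr
  have hle : golayCode ≤ LinearMap.ker B := by
    intro v hv
    rw [LinearMap.mem_ker]
    ext x
    rw [hB]
    exact golay_dot hv x.2
  have heq : golayCode = LinearMap.ker B := by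
    apply Submodule.eq_of_le_of_finrank_eq hle
    have hf : Module.finrank (ZMod 2) golayCode = 12 := finrank_golayCode
    have hk : Module.finrank (ZMod 2) (LinearMap.ker B) = 12 := by omega
    rw [hk]; exact hf
  rw [heq, LinearMap.mem_ker]
  ext x
  exact h x x.2

lemma thE_zero_iff (w : V24) : thE w = 0 ↔ (w ∈ golayCode ∨ w + Pi.single none 1 ∈ golayCode) := by
  have h1 : thE w = 0 ↔ ∀ x : C0, ∑ p, w p * (x : V24) p = 0 := by
    constructor
    · intro h x
      rw [← thE_val_f, h]; rfl
    · intro h
      apply congrArg Additive.ofMul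
      apply Subtype.ext
      apply E.ext
      · rfl
      · funext x
        exact h x
  rw [h1]
  constructor
  · intro h
    by_cases hc : ∀ x ∈ golayCode, ∑ p, w p * x p = 0
    · exact Or.inl (golay_perp hc)
    · right
      push Not at hc
      obtain ⟨y, hy, hy1⟩ := hc
      apply golay_perp
      intro x hx
      have hz : ∀ v : V24, ∑ p, (w + Pi.single none 1 : V24) p * v p = ∑ p, w p * v p + v none := by
        intro v
        have : ∀ p, (w + Pi.single none 1 : V24) p * v p = w p * v p + (Pi.single none 1 : V24) p * v p := by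
          intro p; rw [Pi.add_apply, add_mul]
        have key : ∑ p, (Pi.single none 1 : V24) p * v p = v none := by
          rw [Finset.sum_eq_single (none : GolayPt)]
          · rw [Pi.single_eq_same, one_mul]
          · intro p _ hp
            rw [Pi.single_eq_of_ne hp, zero_mul]
          · intro hn
            exact absurd (Finset.mem_univ _) hn
        rw [Finset.sum_congr rfl (fun p _ => this p), Finset.sum_add_distrib, key]
      rw [hz]
      have hsub : ∀ u v : V24, ∑ p, w p * (u + v) p = ∑ p, w p * u p + ∑ p, w p * v p := by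
        intro u v
        rw [← Finset.sum_add_distrib]
        apply Finset.sum_congr rfl
        intro p _
        rw [Pi.add_apply]; ring
      have z2 : ∀ a : ZMod 2, a = 0 ∨ a = 1 := by decide
      have hyn : y none = 1 := by
        rcases z2 (y none) with h2 | h2
        · exact absurd (h ⟨y, mem_C0.2 ⟨hy, h2⟩⟩) hy1
        · exact h2
      have hy2 : ∑ p, w p * y p = 1 := (z2 _).resolve_left hy1
      rcases z2 (x none) with h2 | h2
      · rw [h ⟨x, mem_C0.2 ⟨hx, h2⟩⟩, h2, add_zero]
      · have h3 := h ⟨x + y, mem_C0.2 ⟨add_mem hx hy, by rw [Pi.add_apply, h2, hyn]; rfl⟩⟩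
        rw [hsub, hy2] at h3
        rw [h2]
        exact h3
  · rintro (h | h) x
    · exact golay_dot h (mem_C0.1 x.2).1
    · have h2 := golay_dot h (mem_C0.1 x.2).1
      rw [← h2]
      apply Finset.sum_congr rfl
      intro p _
      rw [Pi.add_apply, add_mul]
      by_cases hp : p = none
      · subst hp
        rw [(mem_C0.1 x.2).2]; simp
      · rw [Pi.single_eq_of_ne hp, zero_mul, add_zero]

lemma thE_equivariant (g : E) (w : V24) :
    ((thE (w ∘ ⇑(((prj g : M23) : Equiv.Perm GolayPt)⁻¹))).toMul : E) = g * ((thE w).toMul : E) * g⁻¹ := by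
  apply E.ext
  · rw [mul_s, mul_s, thE_val_s, thE_val_s, inv_s, mul_one, mul_inv_cancel]
  · funext x
    rw [mul_f, mul_f, thE_val_f, thE_val_f, inv_f, mul_s, thE_val_s, mul_one, act_act_inv]
    have : ∑ p, (w ∘ ⇑(((prj g : M23) : Equiv.Perm GolayPt)⁻¹)) p * (x : V24) p = ∑ p, w p * (act g.s⁻¹ x : V24) p := by
      rw [← Equiv.sum_comp (g.s : Equiv.Perm GolayPt)]
      apply Finset.sum_congr rfl
      intro p _
      rw [act_coe, pact_apply]
      have e1 : (prj g : M23) = g.s := rfl
      have e2 : ((g.s : Equiv.Perm GolayPt)⁻¹) ((g.s : Equiv.Perm GolayPt) p) = p := by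
        rw [Equiv.Perm.inv_eq_iff_eq]
      rw [e1, Function.comp_apply, e2, Subgroup.coe_inv, inv_inv]
    rw [this]
    have e := z2_add_self (g.f x)
    linear_combination -e

end Cfsg.Agent.HH.M23E
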