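import Cfsg.Agent.HH.M23Ext2
import Cfsg.Agent.Fus.PermCert

set_option autoImplicit false
set_option maxHeartbeats 1000000

/-!
The extension of the Mathieu group of degree 23 by its cocode module does not split.
-/

namespace Cfsg.Agent.HH.M23E

open Cfsg Cfsg.Spor Cfsg.Agent.Golay Cfsg.Agent.Golay.Orb Cfsg.Agent.Golay.Coset Cfsg.Agent.M24X Cfsg.Agent.Fus.Mat
open scoped Pointwise

/-- a word of the shortened code -/
def W (m : ℕ) (h : inCode m = true) (h' : m.testBit 23 = false) : C0 := ⟨wd m, mem_C0.2 ⟨wd_mem h, by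
  unfold wd
  change (if m.testBit 23 = true then (1 : ZMod 2) else 0) = 0
  rw [h']; rfl⟩⟩

lemma wd_eq (m : ℕ) : wd m = wordOf (ofMask m) := by
  funext p
  unfold wd wordOf
  simp only [mem_ofMask]

lemma pact_wd {n : ℕ} {σ : Equiv.Perm GolayPt} (h : IsTable n σ) {m : ℕ} (hm : m < 2 ^ 24) :
    pact σ (wd m) = wd (pmask n m) := by
  rw [wd_eq, wd_eq, pact_wordOf, smul_ofMask h hm]

lemma act_W {n : ℕ} {s : M23} (hs : IsTable n (s : Equiv.Perm GolayPt)) {m m' : ℕ} (h : inCode m = true)
    (h' : m.testBit 23 = false) (k : inCode m' = true) (k' : m'.testBit 23 = false) (e : pmask n m = m') :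
    act s (W m h h') = W m' k k' := by
  apply Subtype.ext
  rw [act_coe]
  change pact (s : Equiv.Perm GolayPt) (wd m) = wd m'
  rw [pact_wd hs (inCode_lt h), e]

/-- explicit value of the cocycle -/
def tv (m m' : ℕ) : ZMod 2 :=
  ∑ k : Fin 11, wd m' (ip k) * (bf (wd m) (bw k) + wd m (ip k) * qf (bw k) +
    ∑ i : Fin 11, if i < k then wd m (ip i) * bf (bw i) (bw k) else 0)

lemma th_W {m m' : ℕ} (h : inCode m = true) (h' : m.testBit 23 = false) (k : inCode m' = true) (k' : m'.testBit 23 = false) :
    th (W m h h') (W m' k k') = tv m m' := rfl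

lemma W_add {a b c : ℕ} (ha : inCode a = true) (ha' : a.testBit 23 = false) (hb : inCode b = true) (hb' : b.testBit 23 = false)
    (hc : inCode c = true) (hc' : c.testBit 23 = false) (e : a ^^^ b = c) : W a ha ha' + W b hb hb' = W c hc hc' := by
  apply Subtype.ext
  funext p
  change wd a p + wd b p = wd c p
  unfold wd
  rw [← e, Nat.testBit_xor]
  cases a.testBit (idx p) <;> cases b.testBit (idx p) <;> decide

/-- table of the first element -/
def tA : ℕ := 0xbd8472c9f07212a181b1a926b35181
/-- table of the second element -/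
def tB : ℕ := 0xbd9804c89030cb478a6b521ae884f5
/-- table of the inverse of the first element -/
def tAi : ℕ := 0xbd8e22c9108bd21231aea0e665d40a
/-- table of the inverse of the second element -/
def tBi : ℕ := 0xbd80c4c870590b541e660bdb172854
/-- table of the inverse of the product -/
def tABi : ℕ := 0xbd82a6c8d01ae628d4a46392f40287

lemma validA : validM24 tA = true := by decide +kernel
lemma validB : validM24 tB = true := by decide +kernel
lemma validAi : validM24 tAi = true := by decide +kernel
lemma validBi : validM24 tBi = true := by decide +kernel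
lemma validABi : validM24 tABi = true := by decide +kernel

lemma mul_A : tmul tAi tA = Fus.Mat.idTab := by decide +kernel
lemma mul_B : tmul tBi tB = Fus.Mat.idTab := by decide +kernel
lemma mul_AB : tmul tABi (tmul tA tB) = Fus.Mat.idTab := by decide +kernel
lemma mul_AABB : tmul tA tA = tmul tB tB := by decide +kernel
lemma mul_ABAB : tmul (tmul tA tB) tA = tB := by decide +kernel

lemma isA : IsTable tA (permOf tA) := isTable_permOf (validM24_iff.1 validA).1
lemma isB : IsTable tB (permOf tB) := isTable_permOf (validM24_iff.1 validB).1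
lemma isAi' : IsTable tAi (permOf tAi) := isTable_permOf (validM24_iff.1 validAi).1
lemma isBi' : IsTable tBi (permOf tBi) := isTable_permOf (validM24_iff.1 validBi).1
lemma isABi' : IsTable tABi (permOf tABi) := isTable_permOf (validM24_iff.1 validABi).1

lemma fix_none {n : ℕ} {σ : Equiv.Perm GolayPt} (h : IsTable n σ) (h23 : papp n 23 = 23) : σ none = none := by
  apply idx_injective
  have := h none
  rw [this]
  exact h23

/-- first element -/
noncomputable def eA : M23 := ⟨permOf tA, permOf_mem_M24 validA, MulAction.mem_stabilizer_iff.2 (fix_none isA (by decide +kernel))⟩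
/-- second element -/
noncomputable def eB : M23 := ⟨permOf tB, permOf_mem_M24 validB, MulAction.mem_stabilizer_iff.2 (fix_none isB (by decide +kernel))⟩

lemma isAi : IsTable tAi ((eA⁻¹ : M23) : Equiv.Perm GolayPt) := by
  have h := IsTable.tmul isAi' isA
  rw [mul_A] at h
  have h2 : permOf tAi = (permOf tA)⁻¹ := eq_inv_of_mul_eq_one_left (isTable_unique h isTable_id)
  have h3 := isAi'
  rw [h2] at h3
  exact h3

lemma isBi : IsTable tBi ((eB⁻¹ : M23) : Equiv.Perm GolayPt) := by
  have h := IsTable.tmul isBi' isB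
  rw [mul_B] at h
  have h2 : permOf tBi = (permOf tB)⁻¹ := eq_inv_of_mul_eq_one_left (isTable_unique h isTable_id)
  have h3 := isBi'
  rw [h2] at h3
  exact h3

lemma isABi : IsTable tABi (((eA * eB)⁻¹ : M23) : Equiv.Perm GolayPt) := by
  have h := IsTable.tmul isABi' (IsTable.tmul isA isB)
  rw [mul_AB] at h
  have h2 : permOf tABi = (permOf tA * permOf tB)⁻¹ := eq_inv_of_mul_eq_one_left (isTable_unique h isTable_id)
  have h3 := isABi'
  rw [h2] at h3
  exact h3

lemma relAABB : eA * eA = eB * eB := by
  apply Subtype.ext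
  change permOf tA * permOf tA = permOf tB * permOf tB
  have h1 := IsTable.tmul isA isA
  have h2 := IsTable.tmul isB isB
  rw [mul_AABB] at h1
  exact isTable_unique h1 h2

lemma relABA : eA * eB * eA = eB := by
  apply Subtype.ext
  change permOf tA * permOf tB * permOf tA = permOf tB
  have h1 := IsTable.tmul (IsTable.tmul isA isB) isA
  rw [mul_ABAB] at h1
  exact isTable_unique h1 isB

/-- the value of the obstruction -/
lemma tvals : tv 352547 902657 + tv 902657 504864 + (tv 5833010 5350928 + tv 4800613 4403780) +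
    ((tv 352547 1384564 + tv 1384564 504864) + (tv 4800613 5833010 + tv 5350928 4403780)) = 1 := by
  decide +kernel

theorem no_lift (A B : E) (hA : A.s = eA) (hB : B.s = eB) (h1 : A * A = B * B) (h2 : A * B * A = B) : False := by
  -- the words
  let w1 : C0 := W 352547 (by decide) (by decide)
  let w2 : C0 := W 902657 (by decide) (by decide)
  let w3 : C0 := W 5833010 (by decide) (by decide)
  let w4 : C0 := W 5350928 (by decide) (by decide)
  let w5 : C0 := W 1384564 (by decide) (by decide)
  let w6 : C0 := W 4800613 (by decide) (by decide)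
  let w7 : C0 := W 504864 (by decide) (by decide)
  let w8 : C0 := W 4403780 (by decide) (by decide)
  -- action
  have a1 : act eA⁻¹ w1 = w2 := act_W isAi _ _ _ _ (by decide +kernel)
  have a2 : act eA⁻¹ w2 = w7 := act_W isAi _ _ _ _ (by decide +kernel)
  have a3 : act eA⁻¹ w3 = w6 := act_W isAi _ _ _ _ (by decide +kernel)
  have a4 : act eA⁻¹ w4 = w8 := act_W isAi _ _ _ _ (by decide +kernel)
  have b1 : act eB⁻¹ w1 = w5 := act_W isBi _ _ _ _ (by decide +kernel)
  have b5 : act eB⁻¹ w5 = w7 := act_W isBi _ _ _ _ (by decide +kernel)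
  have b6 : act eB⁻¹ w6 = w4 := act_W isBi _ _ _ _ (by decide +kernel)
  have b3 : act eB⁻¹ w3 = w8 := act_W isBi _ _ _ _ (by decide +kernel)
  have ab3 : act (eA * eB)⁻¹ w3 = w4 := act_W isABi _ _ _ _ (by decide +kernel)
  -- evaluate the relations
  have e1 := congrArg (fun g : E => g.f w1) h1
  have e2 := congrArg (fun g : E => g.f w3) h2
  simp only [mul_f, mul_s, hA, hB, a1, b1, a3, ab3] at e1 e2
  -- cochain relations
  have f1 := A.h w1 w2
  have f2 := A.h w3 w4
  have g1 := B.h w1 w5
  have g2 := B.h w6 w3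
  have s1 : w1 + w2 = w3 + w4 := by
    rw [W_add (c := 352547 ^^^ 902657) _ _ _ _ (by decide) (by decide) rfl, W_add (c := 5833010 ^^^ 5350928) _ _ _ _ (by decide) (by decide) rfl]
    congr 1
  have s2 : w1 + w5 = w6 + w3 := by
    rw [W_add (c := 352547 ^^^ 1384564) _ _ _ _ (by decide) (by decide) rfl, W_add (c := 4800613 ^^^ 5833010) _ _ _ _ (by decide) (by decide) rfl]
    congr 1
  rw [s1] at f1
  rw [s2] at g1
  rw [hA] at f1 f2
  rw [hB] at g1 g2
  have k1 : kap eA w1 w2 = tv 352547 902657 + tv 902657 504864 := by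
    unfold kap; rw [a1, a2]; rfl
  have k2 : kap eA w3 w4 = tv 5833010 5350928 + tv 4800613 4403780 := by
    unfold kap; rw [a3, a4]; rfl
  have k3 : kap eB w1 w5 = tv 352547 1384564 + tv 1384564 504864 := by
    unfold kap; rw [b1, b5]; rfl
  have k4 : kap eB w6 w3 = tv 4800613 5833010 + tv 5350928 4403780 := by
    unfold kap; rw [b6, b3]; rfl
  have tot := tvals
  rw [← k1, ← k2, ← k3, ← k4] at tot
  have hfin : (0 : ZMod 2) = 1 := by
    rw [← tot]
    have z1 := z2_add_self (A.f w1)
    have z2 := z2_add_self (A.f w2)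
    have z3 := z2_add_self (A.f w3)
    have z4 := z2_add_self (A.f w4)
    have z5 := z2_add_self (B.f w1)
    have z6 := z2_add_self (B.f w5)
    have z7 := z2_add_self (B.f w6)
    have z8 := z2_add_self (B.f w3)
    have z9 := z2_add_self (A.f (w3 + w4))
    have z10 := z2_add_self (B.f (w6 + w3))
    linear_combination f1 + f2 + g1 + g2 - z9 - z10 + e1 + e2 + z5 + z6 + z8
  exact absurd hfin (by decide)

end Cfsg.Agent.HH.M23E
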