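import Cfsg.Agent.HH.PackMat

set_option autoImplicit false
set_option maxHeartbeats 4000000
set_option maxRecDepth 100000

/-!
Seven matrices of degree 45 over the field with 7 elements satisfying the relations of the O'Nan group up to scalars.
-/

namespace Cfsg.Agent.HH.ON45

open Cfsg.Agent.HH.PM

/-- matrix `g` -/
def mg : List (List (ℕ × ℕ)) := [
  [(0, 2), (1, 3), (2, 4), (3, 2), (4, 1), (5, 6), (7, 6), (9, 1), (10, 4), (11, 3), (12, 1), (13, 6), (14, 3), (15, 2), (16, 1), (18, 4), (19, 5), (20, 3), (21, 2), (22, 1), (23, 3), (24, 6), (25, 1), (26, 2), (27, 5), (28, 1), (29, 4), (30, 1), (31, 4), (32, 4), (33, 3), (34, 4), (35, 1), (36, 4), (37, 3), (38, 4), (39, 4), (40, 1), (41, 4), (42, 2), (43, 1), (44, 6)],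
  [(0, 6), (1, 6), (4, 5), (5, 5), (7, 4), (8, 2), (9, 5), (10, 2), (11, 2), (12, 5), (13, 4), (14, 5), (15, 4), (16, 4), (17, 2), (18, 6), (20, 4), (21, 3), (22, 4), (24, 6), (25, 5), (27, 4), (28, 1), (29, 1), (30, 1), (32, 1), (33, 4), (34, 3), (35, 4), (36, 2), (37, 5), (40, 3), (41, 5), (43, 5), (44, 3)],
  [(0, 5), (2, 6), (3, 3), (4, 2), (5, 3), (6, 3), (7, 3), (8, 1), (9, 4), (10, 4), (12, 5), (13, 3), (14, 2), (15, 4), (16, 5), (17, 3), (19, 5), (20, 1), (21, 3), (22, 1), (23, 2), (24, 2), (25, 3), (26, 5), (27, 3), (28, 1), (29, 6), (30, 2), (31, 5), (32, 5), (33, 1), (34, 1), (35, 5), (36, 3), (37, 3), (38, 3), (39, 4), (40, 2), (42, 1), (43, 4)],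
  [(0, 5), (1, 4), (2, 2), (3, 1), (4, 5), (5, 6), (6, 5), (8, 6), (10, 2), (11, 3), (14, 3), (15, 4), (16, 1), (17, 2), (19, 3), (20, 2), (21, 3), (22, 4), (24, 4), (26, 1), (28, 6), (29, 1), (30, 3), (31, 1), (32, 3), (33, 3), (34, 2), (35, 4), (36, 1), (38, 1), (40, 1), (41, 1), (42, 2), (44, 4)],
  [(0, 4), (1, 5), (4, 3), (5, 2), (6, 2), (7, 5), (8, 2), (10, 5), (11, 1), (14, 2), (15, 1), (16, 4), (17, 4), (19, 1), (20, 4), (21, 2), (22, 2), (23, 4), (24, 2), (25, 4), (26, 5), (27, 6), (28, 5), (29, 4), (30, 4), (31, 3), (32, 5), (33, 5), (34, 4), (35, 4), (36, 4), (37, 2), (38, 2), (39, 3), (40, 5), (41, 2), (42, 6), (43, 5)],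
  [(0, 5), (2, 6), (3, 3), (5, 3), (6, 2), (7, 6), (8, 6), (9, 5), (11, 2), (12, 4), (13, 2), (14, 1), (15, 4), (16, 1), (18, 4), (20, 2), (21, 4), (22, 6), (23, 3), (24, 1), (26, 1), (27, 3), (28, 2), (31, 5), (32, 6), (33, 6), (34, 2), (35, 1), (36, 2), (38, 4), (39, 5), (40, 1), (41, 1), (42, 5), (43, 6), (44, 6)],
  [(1, 6), (2, 3), (3, 2), (4, 1), (5, 1), (7, 5), (9, 1), (10, 1), (14, 2), (15, 5), (16, 3), (18, 6), (19, 3), (21, 3), (22, 3), (23, 1), (24, 3), (25, 2), (26, 1), (28, 3), (29, 5), (31, 6), (32, 2), (33, 2), (34, 6), (36, 4), (37, 2), (38, 2), (39, 2), (40, 4), (41, 5), (42, 5), (43, 6), (44, 3)],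
  [(1, 6), (2, 3), (3, 2), (4, 1), (5, 1), (6, 6), (7, 5), (9, 1), (10, 1), (14, 2), (16, 5), (17, 6), (18, 2), (19, 4), (20, 4), (21, 1), (22, 1), (23, 2), (24, 6), (27, 2), (28, 5), (29, 2), (30, 1), (31, 3), (33, 6), (34, 6), (35, 2), (36, 5), (37, 6), (38, 1), (39, 3), (42, 6), (43, 6)],
  [(0, 3), (2, 5), (3, 4), (4, 3), (5, 3), (6, 3), (7, 2), (8, 4), (9, 3), (10, 4), (11, 5), (12, 6), (13, 1), (15, 4), (16, 4), (17, 4), (18, 6), (19, 4), (20, 4), (21, 1), (22, 6), (23, 6), (25, 5), (26, 5), (27, 2), (28, 4), (29, 5), (31, 1), (32, 6), (33, 5), (34, 3), (35, 1), (36, 4), (37, 3), (39, 4), (40, 2), (41, 1), (42, 5), (43, 4), (44, 3)],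
  [(0, 6), (1, 5), (2, 2), (4, 1), (5, 4), (6, 4), (7, 5), (8, 1), (10, 1), (12, 4), (13, 6), (14, 2), (15, 1), (16, 1), (17, 6), (19, 5), (20, 2), (21, 6), (23, 4), (24, 3), (25, 6), (26, 5), (27, 5), (29, 4), (30, 4), (33, 4), (36, 1), (37, 4), (38, 5), (39, 2), (40, 1), (41, 4), (43, 3), (44, 1)],
  [(0, 3), (1, 6), (2, 1), (4, 2), (5, 3), (6, 2), (7, 6), (8, 2), (10, 5), (11, 5), (12, 1), (13, 3), (14, 4), (15, 4), (16, 2), (17, 2), (18, 1), (19, 1), (20, 6), (21, 6), (22, 5), (23, 3), (24, 2), (25, 3), (27, 2), (28, 2), (29, 1), (30, 4), (31, 5), (32, 2), (33, 6), (34, 5), (35, 3), (38, 6), (39, 4), (40, 6), (41, 2), (42, 1), (43, 4), (44, 1)],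
  [(0, 3), (1, 5), (2, 3), (3, 4), (4, 5), (5, 5), (6, 5), (7, 6), (8, 6), (9, 4), (10, 4), (11, 6), (12, 6), (13, 6), (14, 4), (15, 2), (16, 2), (18, 1), (19, 3), (20, 4), (21, 1), (22, 4), (23, 6), (24, 6), (25, 6), (26, 5), (27, 3), (28, 6), (29, 6), (30, 4), (31, 6), (32, 5), (33, 2), (34, 4), (35, 6), (36, 6), (37, 5), (38, 6), (39, 4), (40, 6), (41, 1), (42, 4), (43, 5), (44, 1)],
  [(0, 4), (1, 2), (2, 1), (3, 2), (4, 3), (5, 3), (7, 3), (8, 1), (10, 6), (11, 1), (13, 4), (14, 5), (15, 6), (16, 2), (17, 5), (18, 4), (19, 3), (20, 2), (21, 6), (22, 3), (23, 2), (24, 2), (26, 4), (27, 3), (29, 1), (30, 3), (31, 6), (33, 6), (34, 1), (35, 4), (36, 1), (37, 5), (38, 3), (39, 5), (40, 3), (41, 3), (42, 3), (43, 2), (44, 2)],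
  [(0, 3), (1, 2), (3, 1), (4, 1), (5, 3), (7, 5), (8, 1), (9, 5), (10, 3), (11, 6), (12, 6), (13, 2), (14, 6), (15, 3), (16, 1), (17, 5), (18, 6), (20, 5), (21, 2), (22, 6), (23, 2), (24, 5), (25, 1), (26, 5), (27, 2), (28, 1), (29, 4), (31, 3), (32, 3), (33, 4), (34, 1), (35, 4), (36, 1), (37, 1), (39, 1), (40, 3), (41, 1), (43, 6), (44, 4)],
  [(0, 6), (1, 5), (2, 2), (3, 2), (4, 4), (5, 2), (7, 1), (8, 5), (9, 3), (11, 6), (12, 5), (13, 6), (14, 5), (15, 6), (16, 6), (17, 5), (18, 6), (19, 6), (20, 6), (21, 6), (22, 5), (23, 5), (24, 5), (25, 2), (27, 4), (28, 2), (29, 5), (30, 4), (32, 6), (33, 1), (34, 6), (35, 2), (36, 6), (37, 3), (38, 6), (39, 1), (40, 5), (41, 1), (42, 4), (43, 3), (44, 1)],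
  [(0, 6), (3, 5), (4, 4), (5, 3), (6, 1), (7, 1), (9, 6), (10, 2), (11, 4), (12, 2), (13, 1), (14, 4), (16, 1), (17, 2), (18, 2), (19, 1), (20, 4), (21, 2), (23, 2), (24, 1), (25, 1), (26, 6), (28, 3), (29, 6), (30, 1), (31, 6), (32, 2), (34, 1), (36, 5), (37, 3), (38, 3), (39, 6), (40, 4), (41, 6), (43, 5), (44, 1)],
  [(0, 4), (1, 1), (2, 4), (3, 6), (4, 4), (5, 1), (6, 5), (7, 3), (10, 2), (11, 5), (12, 6), (13, 3), (14, 4), (15, 5), (16, 6), (18, 1), (19, 5), (20, 6), (21, 6), (22, 2), (23, 6), (24, 3), (25, 1), (26, 1), (27, 6), (28, 5), (29, 5), (31, 5), (32, 5), (33, 2), (35, 5), (36, 6), (37, 3), (38, 2), (39, 2), (40, 3), (42, 3), (43, 6), (44, 1)],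
  [(0, 2), (3, 4), (4, 6), (5, 1), (6, 5), (7, 4), (9, 1), (10, 2), (11, 6), (12, 3), (13, 5), (14, 4), (15, 4), (16, 3), (17, 5), (18, 4), (19, 5), (20, 3), (22, 6), (23, 2), (24, 2), (25, 3), (27, 5), (28, 5), (29, 4), (30, 4), (31, 3), (33, 6), (34, 5), (35, 3), (36, 2), (38, 3), (40, 4), (41, 2), (42, 6), (43, 6), (44, 1)],
  [(0, 1), (1, 3), (2, 2), (4, 2), (5, 3), (7, 1), (8, 6), (9, 3), (11, 5), (12, 5), (13, 5), (14, 6), (15, 2), (16, 6), (17, 1), (18, 3), (19, 3), (20, 2), (21, 4), (22, 1), (23, 2), (24, 1), (25, 3), (26, 6), (27, 2), (28, 4), (29, 6), (31, 2), (32, 5), (33, 5), (34, 1), (36, 5), (37, 1), (38, 3), (39, 1), (40, 5), (41, 6), (42, 6), (43, 1), (44, 2)],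
  [(0, 2), (1, 2), (2, 6), (3, 1), (4, 5), (5, 1), (6, 4), (7, 5), (8, 1), (9, 1), (10, 4), (11, 2), (12, 1), (13, 1), (15, 3), (16, 1), (18, 5), (19, 2), (20, 6), (21, 1), (22, 5), (23, 2), (25, 4), (26, 4), (27, 6), (28, 1), (29, 6), (30, 5), (32, 1), (33, 6), (34, 2), (35, 2), (36, 2), (37, 2), (39, 4), (41, 4), (42, 5), (43, 5)],
  [(0, 5), (1, 6), (3, 6), (4, 2), (5, 4), (7, 2), (8, 1), (9, 4), (11, 6), (13, 3), (14, 1), (16, 3), (17, 6), (18, 6), (19, 6), (20, 6), (21, 3), (22, 5), (23, 6), (25, 6), (26, 5), (27, 4), (28, 4), (29, 6), (30, 6), (31, 3), (32, 2), (33, 5), (34, 6), (37, 5), (39, 4), (40, 3), (43, 6), (44, 4)],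
  [(0, 6), (1, 4), (2, 1), (3, 6), (4, 5), (5, 4), (6, 3), (7, 5), (8, 2), (9, 4), (10, 5), (11, 4), (12, 4), (13, 6), (14, 2), (15, 6), (16, 3), (17, 5), (18, 1), (20, 1), (21, 2), (22, 2), (23, 1), (24, 5), (25, 6), (28, 4), (29, 2), (30, 2), (31, 5), (32, 5), (33, 1), (34, 3), (35, 5), (36, 6), (37, 1), (38, 6), (39, 4), (40, 4), (41, 6), (44, 5)],
  [(0, 5), (1, 1), (2, 6), (3, 1), (4, 2), (5, 1), (9, 6), (10, 1), (11, 4), (12, 1), (13, 6), (14, 5), (15, 2), (16, 2), (17, 6), (18, 3), (19, 6), (20, 3), (21, 2), (22, 3), (23, 6), (24, 6), (25, 1), (26, 4), (27, 6), (28, 6), (29, 2), (30, 4), (32, 6), (33, 2), (34, 4), (35, 4), (36, 1), (37, 2), (38, 1), (39, 1), (42, 1), (43, 6), (44, 5)],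
  [(1, 3), (2, 1), (3, 2), (4, 6), (5, 4), (6, 3), (7, 1), (8, 2), (9, 5), (11, 1), (12, 5), (13, 2), (14, 3), (15, 4), (16, 4), (17, 5), (18, 2), (20, 3), (21, 3), (23, 6), (24, 1), (25, 4), (26, 1), (28, 6), (29, 6), (30, 1), (31, 5), (32, 2), (33, 1), (34, 4), (35, 1), (36, 5), (37, 1), (38, 5), (39, 1), (40, 3), (41, 2), (42, 4), (44, 6)],
  [(0, 3), (1, 2), (2, 1), (3, 5), (4, 3), (5, 3), (8, 2), (9, 2), (11, 4), (12, 1), (13, 4), (14, 4), (15, 5), (16, 5), (17, 3), (18, 6), (19, 6), (20, 5), (22, 6), (23, 1), (24, 1), (25, 5), (26, 5), (27, 6), (28, 1), (29, 5), (30, 2), (32, 5), (33, 6), (35, 3), (36, 3), (37, 3), (38, 2), (39, 3), (40, 2), (41, 6), (43, 3), (44, 6)],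
  [(0, 1), (1, 3), (2, 3), (3, 4), (4, 1), (5, 3), (6, 1), (7, 1), (8, 5), (11, 4), (12, 3), (13, 6), (14, 1), (15, 1), (16, 3), (17, 2), (18, 6), (19, 1), (20, 4), (21, 1), (22, 6), (23, 1), (24, 4), (25, 4), (28, 3), (29, 3), (30, 6), (31, 3), (33, 2), (35, 5), (36, 6), (37, 5), (38, 1), (39, 5), (40, 1), (41, 5), (42, 5), (43, 4), (44, 2)],
  [(0, 6), (1, 5), (2, 4), (4, 3), (5, 3), (6, 6), (8, 5), (9, 5), (10, 1), (11, 4), (12, 1), (13, 3), (14, 6), (15, 2), (16, 6), (17, 6), (18, 2), (19, 3), (20, 5), (21, 6), (22, 3), (23, 2), (24, 5), (25, 2), (26, 3), (28, 5), (30, 4), (31, 6), (32, 5), (33, 1), (34, 5), (35, 4), (36, 6), (37, 5), (38, 6), (39, 4), (40, 1), (41, 6), (42, 5), (43, 3), (44, 3)],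
  [(0, 3), (2, 2), (3, 1), (4, 1), (5, 2), (6, 5), (8, 2), (9, 1), (10, 1), (11, 3), (12, 2), (13, 5), (14, 3), (15, 2), (16, 5), (17, 3), (18, 1), (19, 3), (20, 1), (21, 4), (22, 2), (23, 2), (25, 5), (26, 6), (27, 6), (28, 4), (29, 5), (30, 4), (31, 6), (32, 6), (33, 3), (34, 6), (35, 2), (36, 5), (37, 6), (38, 5), (39, 5), (40, 3), (41, 4), (43, 1), (44, 1)],
  [(0, 2), (1, 5), (2, 2), (3, 4), (4, 1), (5, 3), (6, 6), (7, 3), (8, 3), (10, 5), (11, 1), (12, 1), (13, 1), (15, 4), (16, 2), (17, 5), (18, 2), (20, 6), (21, 1), (22, 5), (23, 1), (24, 1), (25, 1), (26, 3), (27, 2), (28, 6), (29, 6), (30, 3), (31, 2), (32, 3), (33, 6), (34, 5), (35, 1), (36, 5), (37, 4), (38, 6), (39, 5), (40, 6), (41, 6), (42, 1), (43, 3)],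
  [(0, 3), (1, 5), (2, 6), (3, 5), (4, 2), (5, 3), (6, 6), (7, 2), (8, 3), (9, 1), (10, 2), (11, 2), (12, 3), (13, 6), (14, 3), (15, 4), (16, 2), (18, 3), (20, 1), (22, 4), (23, 1), (24, 4), (25, 4), (26, 2), (27, 5), (28, 5), (29, 5), (31, 4), (33, 3), (34, 4), (36, 5), (37, 4), (38, 3), (39, 2), (40, 2), (43, 5), (44, 5)],
  [(0, 2), (1, 1), (2, 6), (4, 5), (5, 3), (6, 5), (7, 5), (8, 3), (9, 3), (10, 5), (11, 6), (13, 6), (14, 1), (15, 3), (16, 2), (17, 2), (18, 6), (19, 1), (20, 2), (21, 5), (22, 3), (24, 6), (25, 1), (26, 2), (27, 2), (28, 3), (29, 6), (30, 6), (31, 5), (33, 5), (34, 6), (35, 2), (36, 2), (37, 3), (38, 3), (39, 6), (40, 6), (41, 6), (42, 1), (44, 2)],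
  [(0, 6), (1, 3), (4, 6), (6, 2), (7, 4), (8, 4), (10, 1), (11, 2), (12, 2), (13, 6), (14, 6), (15, 4), (16, 6), (17, 2), (19, 1), (20, 1), (21, 5), (22, 2), (23, 2), (24, 3), (25, 6), (27, 1), (28, 6), (29, 1), (30, 6), (31, 5), (32, 2), (33, 6), (34, 6), (35, 1), (36, 4), (38, 4), (39, 3), (40, 4), (41, 6), (43, 1), (44, 5)],
  [(0, 3), (1, 4), (2, 5), (3, 2), (4, 6), (7, 3), (8, 1), (9, 4), (10, 3), (11, 4), (13, 5), (14, 2), (15, 2), (17, 1), (18, 1), (19, 6), (20, 6), (21, 6), (22, 4), (23, 2), (24, 2), (25, 6), (26, 4), (28, 1), (29, 4), (30, 2), (31, 6), (32, 4), (33, 5), (34, 2), (36, 5), (37, 5), (38, 3), (39, 4), (41, 6), (42, 4), (43, 4), (44, 4)],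
  [(1, 1), (2, 4), (3, 5), (4, 6), (5, 6), (6, 4), (7, 5), (9, 5), (10, 5), (14, 3), (15, 3), (16, 5), (17, 3), (18, 2), (19, 6), (21, 2), (22, 3), (23, 5), (24, 1), (25, 3), (26, 1), (27, 5), (28, 2), (29, 4), (30, 5), (32, 1), (33, 4), (34, 1), (35, 6), (36, 5), (37, 4), (38, 2), (39, 1), (40, 2), (41, 4), (42, 5), (44, 4)],
  [(0, 3), (1, 2), (2, 5), (3, 6), (4, 2), (6, 3), (7, 5), (9, 5), (10, 5), (11, 3), (12, 5), (13, 5), (14, 4), (15, 4), (16, 5), (17, 3), (18, 3), (19, 3), (20, 4), (21, 3), (22, 3), (23, 3), (24, 3), (25, 4), (26, 2), (27, 6), (28, 3), (29, 6), (30, 1), (32, 2), (33, 2), (34, 5), (36, 3), (38, 3), (39, 2), (41, 1), (42, 1), (43, 6), (44, 6)],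
  [(1, 2), (2, 3), (3, 1), (4, 2), (5, 1), (6, 5), (7, 6), (8, 4), (9, 6), (10, 1), (11, 2), (12, 4), (13, 2), (14, 2), (15, 1), (16, 2), (17, 5), (18, 2), (20, 5), (21, 3), (22, 4), (23, 1), (24, 3), (25, 1), (26, 3), (28, 3), (29, 2), (30, 1), (31, 4), (32, 1), (33, 3), (35, 1), (36, 3), (37, 4), (38, 3), (40, 6), (41, 5), (42, 1), (43, 2), (44, 6)],
  [(0, 4), (1, 4), (2, 6), (3, 1), (4, 2), (6, 5), (7, 4), (8, 3), (9, 4), (10, 4), (11, 1), (12, 3), (13, 2), (14, 4), (15, 1), (17, 2), (18, 3), (19, 5), (21, 3), (22, 6), (23, 3), (24, 4), (25, 6), (26, 1), (27, 4), (28, 1), (29, 6), (30, 2), (31, 1), (32, 4), (33, 3), (34, 2), (35, 6), (36, 1), (37, 2), (39, 1), (40, 2), (41, 4), (42, 1), (43, 5), (44, 6)],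
  [(1, 2), (2, 2), (3, 6), (4, 3), (5, 4), (6, 2), (7, 3), (8, 2), (9, 1), (10, 2), (11, 4), (12, 1), (15, 2), (16, 4), (17, 4), (18, 4), (19, 4), (20, 5), (21, 4), (22, 5), (23, 5), (24, 4), (25, 5), (26, 3), (27, 1), (29, 3), (30, 3), (31, 2), (32, 3), (34, 1), (35, 4), (36, 3), (37, 4), (38, 1), (39, 5), (41, 2), (42, 3), (43, 5)],
  [(0, 3), (1, 1), (2, 3), (3, 1), (4, 1), (5, 4), (6, 1), (7, 2), (9, 4), (10, 5), (11, 1), (12, 3), (13, 3), (14, 1), (15, 6), (16, 5), (17, 5), (19, 1), (20, 4), (21, 5), (22, 5), (23, 1), (24, 4), (25, 2), (26, 3), (27, 3), (28, 3), (29, 4), (30, 2), (31, 3), (32, 3), (33, 3), (34, 6), (35, 3), (36, 3), (37, 1), (38, 4), (39, 4), (40, 3), (42, 2), (43, 6), (44, 2)],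
  [(0, 5), (1, 3), (2, 1), (3, 6), (4, 5), (5, 3), (6, 5), (7, 5), (9, 5), (10, 2), (11, 4), (12, 5), (13, 5), (14, 3), (15, 1), (16, 1), (17, 1), (18, 6), (19, 6), (20, 5), (21, 1), (22, 6), (23, 3), (24, 6), (25, 1), (26, 1), (27, 6), (28, 5), (29, 6), (30, 1), (31, 6), (33, 1), (35, 5), (36, 5), (37, 1), (38, 1), (39, 1), (40, 6), (41, 1), (42, 6), (43, 6), (44, 4)],
  [(1, 2), (2, 1), (3, 3), (4, 5), (5, 5), (6, 5), (7, 3), (9, 2), (10, 2), (14, 4), (15, 1), (16, 1), (17, 2), (20, 5), (21, 1), (22, 2), (23, 5), (24, 1), (25, 5), (26, 1), (27, 6), (28, 1), (29, 2), (30, 1), (31, 6), (32, 5), (33, 3), (34, 5), (35, 6), (36, 4), (37, 2), (38, 4), (39, 1), (41, 6), (43, 6), (44, 2)],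
  [(1, 6), (2, 3), (3, 2), (4, 1), (5, 1), (6, 4), (9, 1), (10, 1), (14, 2), (15, 5), (16, 6), (18, 5), (20, 6), (21, 6), (22, 5), (23, 3), (24, 2), (25, 5), (26, 3), (27, 3), (29, 1), (30, 1), (31, 6), (32, 5), (33, 5), (35, 4), (36, 1), (37, 2), (38, 5), (39, 2), (40, 6), (41, 1), (42, 4), (43, 6), (44, 6)],
  [(1, 5), (2, 6), (3, 4), (4, 2), (5, 2), (6, 1), (9, 3), (10, 3), (14, 6), (18, 3), (20, 5), (21, 5), (23, 5), (24, 1), (25, 2), (26, 5), (27, 2), (28, 6), (29, 5), (30, 4), (31, 3), (32, 6), (33, 5), (34, 2), (35, 6), (36, 1), (37, 2), (38, 1), (39, 4), (40, 3), (41, 2), (42, 2), (43, 3), (44, 5)],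
  [(6, 3), (7, 1), (9, 3), (10, 3), (14, 6), (15, 5), (16, 2), (17, 3), (18, 1), (19, 4), (21, 4), (22, 6), (23, 2), (24, 6), (25, 1), (26, 3), (27, 5), (28, 6), (29, 3), (30, 3), (31, 4), (32, 3), (33, 3), (34, 6), (35, 6), (38, 1), (39, 1), (40, 5), (41, 5), (42, 3), (43, 4), (44, 6)],
  [(1, 1), (2, 4), (3, 5), (4, 6), (5, 6), (6, 6), (7, 3), (9, 5), (10, 5), (14, 3), (15, 6), (17, 1), (18, 6), (19, 2), (22, 6), (23, 4), (24, 5), (25, 5), (26, 6), (27, 6), (28, 1), (29, 4), (30, 6), (31, 6), (32, 4), (34, 6), (35, 1), (36, 3), (37, 2), (38, 3), (39, 3), (40, 2), (41, 4), (42, 2)]]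

/-- matrix `a` -/
def ma : List (List (ℕ × ℕ)) := [
  [(0, 6)],
  [(1, 5), (2, 3), (3, 2), (4, 1), (5, 1), (6, 1), (7, 1)],
  [(1, 6), (2, 2), (3, 2), (4, 1), (5, 1)],
  [(1, 1), (2, 4), (3, 4), (4, 6), (5, 6), (6, 1)],
  [(1, 5), (2, 6), (3, 4), (4, 1), (5, 2), (6, 4)],
  [(5, 6), (6, 2), (7, 1)],
  [(6, 1)],
  [(7, 1)],
  [(8, 6)],
  [(9, 6), (15, 5), (17, 4), (18, 3), (19, 3), (20, 6), (21, 3), (22, 2), (23, 1), (24, 3), (25, 5), (27, 1), (28, 1), (29, 1), (30, 5), (31, 4), (33, 5), (34, 2), (35, 3), (36, 4), (37, 2), (38, 5), (39, 1)],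
  [(9, 1), (14, 2), (15, 5), (16, 4), (17, 5), (19, 4), (21, 5), (23, 6), (24, 4), (25, 6), (27, 6), (28, 5), (29, 3), (30, 3), (31, 1)],
  [(9, 1), (10, 1), (11, 6), (14, 2), (16, 1), (17, 2), (19, 4), (20, 2), (21, 4), (22, 6), (23, 6), (24, 4), (25, 6), (27, 6), (28, 5), (29, 3), (30, 3), (31, 1)],
  [(9, 6), (10, 6), (12, 6), (14, 5), (16, 6), (17, 4), (19, 3), (20, 1), (21, 5), (22, 3), (23, 1), (24, 3), (25, 1), (27, 1), (28, 2), (29, 4), (30, 4), (31, 6)],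
  [(9, 4), (10, 4), (13, 6), (14, 1), (15, 2), (16, 1), (17, 3), (19, 2), (20, 2), (21, 5), (22, 6), (23, 3), (24, 2), (25, 3), (27, 3), (28, 6), (29, 5), (30, 5), (31, 4)],
  [(9, 4), (10, 4), (15, 6), (17, 3), (20, 3), (21, 2), (22, 4), (23, 3), (24, 2), (25, 3), (26, 1), (27, 6), (28, 3), (30, 2), (31, 6)],
  [(15, 4), (16, 6), (20, 3), (21, 2), (22, 2), (26, 4), (27, 5), (28, 2), (29, 1), (30, 2), (31, 1)],
  [(15, 2), (16, 5), (20, 2), (21, 6), (22, 6), (26, 5), (27, 1), (28, 6), (29, 3), (30, 6), (31, 3)],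
  [(15, 1), (16, 2), (17, 1), (20, 1), (21, 3), (22, 3), (26, 6), (27, 4), (28, 3), (29, 5), (30, 3), (31, 5)],
  [(15, 5), (16, 4), (18, 2), (19, 5), (20, 5), (21, 6), (22, 4), (23, 1), (24, 3), (25, 5), (27, 6), (28, 2), (29, 2), (30, 6), (31, 2), (32, 1), (33, 4), (34, 5), (36, 6), (37, 6), (38, 1), (39, 3)],
  [(15, 5), (16, 2), (17, 1), (19, 1), (21, 6), (22, 5), (27, 5), (28, 2), (30, 5), (31, 1)],
  [(15, 2), (17, 3), (21, 3), (22, 3), (26, 2), (27, 4), (28, 3), (29, 4), (30, 6), (31, 5)],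
  [(17, 3), (20, 5), (22, 1), (26, 6), (29, 5), (30, 6)],
  [(15, 1), (16, 1), (17, 3), (20, 4), (21, 5), (22, 4), (26, 1), (27, 3), (28, 4), (29, 2), (30, 4), (31, 2)],
  [(16, 5), (17, 2), (18, 2), (19, 2), (20, 6), (21, 1), (22, 5), (23, 2), (24, 2), (25, 1), (26, 3), (27, 5), (28, 1), (29, 2), (30, 6), (31, 4), (33, 5), (34, 6), (35, 2), (36, 5), (37, 6), (38, 1), (39, 3), (40, 2), (41, 5), (42, 1), (43, 2), (44, 5)],
  [(17, 6), (18, 2), (19, 1), (20, 1), (21, 4), (22, 5), (23, 3), (24, 1), (25, 1), (27, 2), (28, 5), (29, 2), (30, 1), (31, 5), (32, 1), (33, 2), (34, 1), (35, 6), (36, 5), (37, 4), (38, 1), (39, 3), (40, 4), (41, 3), (42, 2), (43, 4), (44, 3)],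
  [(18, 2), (19, 2), (21, 4), (22, 1), (23, 3), (24, 2), (26, 1), (28, 4), (30, 4), (31, 2), (32, 4), (33, 1), (35, 4), (36, 5), (37, 5), (38, 1), (39, 3)],
  [(26, 3), (27, 4), (28, 1), (29, 3), (30, 6), (32, 2), (33, 3), (34, 4), (35, 1), (37, 3), (40, 2), (41, 6), (42, 4), (43, 1), (44, 6)],
  [(19, 2), (20, 4), (21, 4), (22, 3), (27, 5), (28, 2), (29, 6), (32, 1), (33, 5), (34, 2), (35, 4), (37, 5), (40, 3), (41, 1)],
  [(19, 4), (20, 1), (21, 1), (22, 6), (26, 1), (27, 3), (28, 2), (29, 3), (30, 3), (32, 3), (33, 1), (34, 6), (35, 5), (37, 1), (41, 5), (42, 2), (43, 4), (44, 3)],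
  [(19, 5), (20, 3), (21, 3), (22, 4), (26, 3), (27, 6), (28, 5), (29, 1), (30, 6), (32, 3), (33, 6), (34, 6), (35, 5), (37, 1), (40, 6), (41, 3)],
  [(19, 4), (20, 1), (21, 1), (22, 6), (26, 6), (27, 5), (28, 3), (29, 4), (30, 4), (32, 6), (33, 6), (34, 5), (35, 3), (37, 2), (41, 2), (42, 3), (43, 6), (44, 1)],
  [(19, 4), (20, 1), (21, 1), (22, 6), (26, 3), (27, 5), (28, 1), (31, 1), (32, 1), (33, 6), (34, 2), (35, 4), (37, 5), (40, 6), (41, 3), (42, 2), (43, 4), (44, 3)],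
  [(19, 6), (20, 5), (21, 5), (22, 2), (26, 5), (27, 2), (28, 3), (29, 5), (30, 6), (31, 6), (32, 4), (33, 4), (34, 5), (35, 6), (36, 4), (37, 2), (38, 4), (39, 1), (40, 2), (41, 5), (42, 5), (43, 3), (44, 4)],
  [(33, 1)],
  [(26, 1), (27, 2), (30, 1), (31, 5), (33, 2), (34, 5), (36, 5), (37, 1), (38, 5), (39, 3), (40, 1), (41, 1), (42, 2), (43, 3), (44, 4)],
  [(26, 2), (27, 3), (28, 4), (29, 4), (30, 5), (31, 1), (32, 3), (33, 5), (34, 6), (35, 4), (37, 1), (40, 5), (41, 6), (42, 5), (43, 3), (44, 4)],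
  [(26, 4), (27, 6), (28, 3), (29, 6), (30, 4), (31, 6), (32, 3), (33, 2), (34, 4), (35, 5), (36, 2), (37, 3), (38, 4), (39, 4), (40, 3), (41, 5), (43, 6), (44, 1)],
  [(31, 3), (32, 5), (33, 6), (34, 3), (35, 6), (37, 3), (40, 4), (41, 1), (42, 6), (43, 4), (44, 3)],
  [(38, 3), (39, 6), (41, 2), (43, 4), (44, 3)],
  [(38, 1), (39, 4), (41, 1), (43, 2), (44, 5)],
  [(40, 1)],
  [(41, 1)],
  [(42, 1)],
  [(43, 1)],
  [(44, 1)]]

/-- matrix `b` -/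
def mb : List (List (ℕ × ℕ)) := [
  [(0, 4), (1, 3), (2, 4), (3, 5), (4, 3), (5, 3), (6, 5), (7, 5)],
  [(0, 2), (1, 3), (3, 6), (4, 4), (5, 5), (6, 6), (7, 1)],
  [(2, 5), (3, 6), (5, 5), (6, 6), (7, 2)],
  [(2, 3), (4, 6), (5, 3), (6, 3), (7, 4)],
  [(2, 3), (3, 3), (4, 6), (5, 6), (6, 3), (7, 1)],
  [(3, 5), (4, 6), (5, 3), (7, 3)],
  [(2, 6), (3, 5), (4, 3), (6, 5)],
  [(2, 3), (3, 3), (5, 6), (6, 3)],
  [(8, 1), (10, 5), (11, 2), (13, 4), (15, 2), (16, 3), (17, 5), (18, 6), (19, 6), (20, 5), (21, 2), (22, 3), (23, 4), (24, 6), (25, 2), (26, 6), (27, 2), (28, 1), (29, 1), (30, 1), (31, 6), (33, 1), (34, 3), (35, 3), (36, 4), (37, 6), (38, 4), (39, 6), (40, 6), (41, 1), (42, 6), (43, 4), (44, 6)],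
  [(8, 1), (9, 6), (10, 6), (11, 5), (12, 6), (13, 2), (14, 4), (15, 5), (17, 4), (18, 6), (19, 4), (21, 3), (22, 6), (23, 3), (24, 3), (25, 4), (26, 6), (28, 2), (29, 5), (30, 3), (31, 1), (32, 2), (33, 2), (34, 4), (35, 4), (36, 5), (37, 5), (39, 1), (40, 6), (41, 1), (42, 2), (43, 6), (44, 3)],
  [(10, 1), (11, 3), (12, 1), (13, 4), (14, 2), (15, 3), (16, 5), (18, 4), (19, 1), (20, 5), (21, 3), (22, 1), (23, 2), (24, 5), (25, 3), (26, 2), (27, 3), (28, 1), (29, 6), (31, 4), (32, 1), (35, 1), (36, 3), (37, 3), (38, 2), (39, 6), (40, 1), (41, 5), (42, 5), (43, 3), (44, 4)],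
  [(10, 2), (11, 3), (12, 3), (13, 2), (14, 6), (15, 2), (16, 1), (17, 3), (18, 5), (19, 3), (20, 5), (21, 3), (22, 6), (23, 1), (24, 2), (25, 6), (26, 3), (27, 2), (28, 2), (29, 4), (30, 4), (31, 5), (33, 4), (34, 1), (35, 5), (36, 2), (37, 1), (38, 6), (39, 4), (41, 6), (42, 1), (43, 2), (44, 5)],
  [(10, 1), (11, 5), (12, 3), (13, 5), (14, 5), (15, 4), (18, 3), (19, 6), (20, 2), (21, 5), (22, 3), (23, 6), (24, 1), (25, 4), (26, 1), (27, 6), (28, 3), (29, 5), (30, 5), (31, 3), (32, 4), (33, 1), (34, 3), (35, 5), (36, 4), (37, 1), (38, 5), (39, 1), (40, 4), (41, 3), (42, 2), (43, 4), (44, 3)],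
  [(14, 6), (15, 2), (16, 5), (18, 5), (19, 3), (20, 1), (22, 2), (23, 4), (24, 3), (25, 2), (27, 5), (28, 2), (29, 3), (30, 4), (31, 5), (33, 5), (34, 1), (35, 5), (36, 2), (37, 1), (38, 6), (39, 4), (41, 6), (42, 1), (43, 2), (44, 5)],
  [(11, 6), (13, 1), (17, 4), (19, 5), (20, 1), (21, 4), (22, 6), (23, 6), (25, 1), (26, 1), (27, 6), (28, 3), (29, 3), (30, 4), (31, 2), (32, 3), (33, 3), (34, 3), (35, 2), (36, 4), (37, 2), (38, 4), (39, 1), (40, 2), (41, 6), (42, 2), (43, 2), (44, 5)],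
  [(10, 1), (11, 5), (12, 4), (13, 3), (16, 4), (17, 6), (20, 3), (21, 2), (22, 2), (23, 5), (24, 1), (25, 1), (26, 1), (27, 3), (28, 3), (29, 1), (30, 3), (31, 1), (32, 3), (33, 2), (34, 2), (35, 1), (36, 3), (38, 3), (39, 6), (40, 6), (41, 5), (42, 4), (43, 3), (44, 4)],
  [(11, 4), (12, 1), (13, 1), (17, 5), (20, 2), (21, 6), (22, 1), (23, 3), (24, 2), (25, 2), (26, 1), (27, 6), (28, 6), (29, 6), (30, 4), (32, 3), (33, 5), (34, 4), (35, 3), (36, 5), (37, 4), (38, 5), (39, 3), (40, 1), (42, 1), (43, 3), (44, 4)],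
  [(10, 1), (11, 5), (12, 4), (13, 3), (16, 4), (17, 6), (20, 2), (21, 6), (22, 2), (23, 3), (24, 2), (25, 2), (26, 1), (29, 5), (32, 2), (33, 2), (34, 1), (35, 5), (36, 4), (37, 4), (38, 4), (39, 1), (40, 6), (41, 3), (42, 5), (43, 1), (44, 6)],
  [(10, 6), (11, 2), (12, 4), (13, 5), (14, 1), (15, 2), (16, 5), (17, 4), (19, 1), (20, 1), (21, 3), (22, 3), (23, 1), (24, 3), (25, 2), (26, 6), (27, 3), (28, 6), (29, 3), (30, 5), (31, 2), (32, 3), (33, 4), (34, 3), (35, 4), (36, 5), (37, 4), (38, 1), (39, 4), (41, 2), (42, 1), (43, 5), (44, 1)],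
  [(10, 1), (11, 5), (12, 3), (13, 5), (14, 3), (15, 1), (16, 3), (17, 6), (20, 5), (22, 6), (23, 3), (24, 6), (25, 5), (26, 3), (27, 5), (28, 6), (29, 2), (30, 6), (32, 1), (35, 3), (36, 1), (37, 1), (38, 6), (39, 2), (40, 2), (41, 5), (42, 1), (43, 3), (44, 2)],
  [(20, 3), (21, 3), (22, 4), (23, 2), (25, 5), (27, 3), (28, 3), (29, 2), (30, 5), (32, 6), (33, 6), (34, 3), (35, 3), (37, 1), (38, 1), (40, 1), (41, 1), (42, 4), (43, 5), (44, 3)],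
  [(20, 5), (21, 6), (22, 3), (23, 5), (24, 5), (25, 4), (26, 6), (27, 6), (28, 4), (29, 2), (30, 6), (31, 6), (32, 4), (33, 5), (34, 2), (35, 2), (37, 3), (38, 3), (40, 5), (41, 4), (42, 4), (43, 6), (44, 4)],
  [(20, 1), (21, 6), (22, 1), (23, 1), (24, 5), (25, 1), (26, 6), (27, 5), (28, 5), (29, 1), (30, 2), (31, 5), (32, 2), (33, 2), (34, 6), (35, 5), (36, 4), (37, 3), (38, 5), (39, 1), (40, 5), (41, 2), (43, 2), (44, 6)],
  [(15, 2), (17, 5), (20, 6), (21, 2), (22, 6), (23, 6), (24, 1), (25, 6), (26, 5), (27, 5), (28, 4), (30, 6), (31, 2), (32, 1), (33, 1), (34, 5), (35, 4), (36, 5), (37, 4), (38, 5), (39, 4), (40, 6), (41, 1), (42, 5), (43, 2), (44, 3)],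
  [(15, 1), (17, 6), (20, 4), (21, 3), (22, 5), (23, 1), (24, 3), (25, 2), (26, 6), (27, 2), (28, 1), (31, 5), (32, 3), (33, 4), (34, 6), (35, 4), (36, 2), (37, 5), (38, 1), (39, 4), (40, 1), (42, 2), (43, 2), (44, 4)],
  [(15, 2), (17, 5), (20, 4), (21, 5), (22, 4), (23, 6), (24, 4), (25, 3), (26, 3), (27, 5), (28, 3), (29, 1), (30, 5), (31, 1), (32, 5), (33, 2), (34, 4), (35, 6), (36, 1), (37, 6), (38, 2), (39, 2), (40, 1), (41, 4), (42, 5), (43, 2), (44, 6)],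
  [(15, 2), (17, 5), (20, 4), (21, 2), (22, 4), (23, 6), (24, 2), (25, 6), (26, 1), (27, 4), (30, 5), (31, 2), (32, 6), (33, 5), (34, 5), (35, 4), (36, 6), (37, 6), (38, 3), (39, 5), (40, 3), (41, 4), (42, 5), (43, 2), (44, 5)],
  [(21, 5), (24, 1), (25, 6), (26, 4), (27, 4), (29, 1), (31, 4), (32, 2), (34, 1), (35, 2), (36, 6), (37, 5), (38, 4), (39, 2), (40, 1), (41, 1), (43, 5), (44, 1)],
  [(20, 4), (21, 4), (22, 2), (23, 1), (25, 6), (27, 1), (28, 1), (29, 5), (31, 4), (32, 2), (33, 1), (34, 3), (35, 4), (37, 3), (38, 2), (39, 1), (41, 6), (43, 5), (44, 6)],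
  [(20, 2), (21, 4), (22, 4), (23, 2), (25, 5), (27, 1), (28, 6), (29, 3), (30, 3), (31, 6), (32, 5), (33, 5), (34, 6), (35, 6), (36, 4), (37, 2), (39, 4), (40, 5), (41, 6), (42, 6), (43, 6), (44, 3)],
  [(20, 6), (21, 5), (22, 2), (23, 1), (24, 6), (26, 3), (27, 1), (28, 4), (29, 1), (30, 4), (31, 5), (32, 1), (33, 6), (34, 6), (35, 3), (36, 3), (37, 4), (41, 4), (43, 1), (44, 1)],
  [(20, 5), (21, 6), (22, 1), (23, 4), (24, 6), (25, 4), (26, 3), (27, 2), (28, 6), (29, 3), (30, 6), (31, 3), (33, 5), (34, 5), (35, 6), (36, 4), (37, 6), (39, 2), (40, 1), (41, 1), (42, 4), (43, 1), (44, 6)],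
  [(22, 1), (23, 4), (24, 5), (25, 5), (26, 6), (27, 1), (28, 4), (29, 4), (30, 3), (31, 6), (32, 5), (33, 4), (34, 5), (35, 5), (36, 1), (37, 2), (40, 1), (41, 2), (42, 4), (43, 6), (44, 2)],
  [(22, 3), (23, 5), (24, 1), (25, 1), (26, 4), (28, 4), (29, 2), (30, 1), (31, 3), (32, 6), (33, 2), (35, 5), (36, 6), (37, 5), (41, 5), (43, 6), (44, 6)],
  [(27, 1), (28, 5), (29, 1), (30, 5), (31, 5), (32, 4), (33, 3), (35, 5), (36, 4), (37, 1), (39, 5), (40, 1), (42, 6), (43, 4), (44, 6)],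
  [(34, 1), (35, 3), (36, 4), (37, 1), (40, 2), (41, 2), (43, 4), (44, 4)],
  [(27, 6), (28, 2), (29, 6), (30, 2), (31, 2), (32, 3), (33, 4), (34, 5), (35, 5), (36, 5), (37, 5), (39, 2), (40, 4), (41, 5), (42, 1), (43, 4), (44, 2)],
  [(27, 3), (28, 1), (29, 3), (30, 1), (31, 1), (32, 5), (33, 2), (34, 4), (35, 1), (36, 5), (37, 4), (39, 1), (40, 3), (42, 4), (43, 5), (44, 4)],
  [(27, 3), (28, 5), (29, 6), (30, 3), (31, 4), (33, 4), (34, 4), (35, 3), (37, 6), (39, 1), (40, 4), (42, 5), (43, 5), (44, 1)],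
  [(34, 5), (35, 3), (36, 6), (37, 5), (39, 1), (40, 3), (41, 3), (43, 6), (44, 6)],
  [(34, 4), (35, 2), (36, 5), (37, 5), (40, 4), (41, 3), (43, 5), (44, 5)],
  [(35, 2), (36, 6), (37, 2), (40, 4), (41, 5), (43, 6), (44, 6)],
  [(42, 1)],
  [(43, 1)],
  [(44, 1)]]

/-- matrix `c` -/
def mc : List (List (ℕ × ℕ)) := [
  [(0, 6)],
  [(0, 4), (1, 2), (2, 4), (3, 5), (4, 6), (5, 6), (6, 6), (7, 6)],
  [(0, 6), (1, 5), (3, 3), (4, 5), (5, 5), (6, 4), (7, 4)],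
  [(1, 5), (2, 6), (3, 3), (4, 1), (5, 1), (6, 6)],
  [(1, 5), (2, 6), (3, 4), (5, 1), (6, 6)],
  [(1, 2), (2, 1), (3, 3), (4, 1), (6, 1), (7, 5)],
  [(1, 6), (2, 3), (3, 2), (4, 1), (5, 1), (6, 2), (7, 3)],
  [(7, 6)],
  [(8, 6)],
  [(8, 1), (9, 5), (10, 4), (11, 2), (12, 4), (13, 5), (14, 1), (15, 5), (16, 4), (17, 6), (19, 2), (21, 4), (22, 6), (23, 3), (24, 5), (25, 2), (26, 2), (27, 5), (29, 4), (30, 1), (31, 4), (32, 1), (33, 3), (34, 6), (35, 4), (36, 3), (37, 6), (38, 6), (39, 6)],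
  [(8, 6), (10, 1), (11, 5), (12, 3), (13, 2), (14, 6), (15, 6), (16, 2), (17, 2), (18, 1), (19, 6), (20, 2), (21, 4), (23, 1), (25, 5), (26, 6), (27, 2), (28, 5), (29, 4), (30, 4), (31, 4), (32, 5), (34, 2), (35, 1), (36, 2), (37, 4), (38, 3), (39, 1), (40, 5), (41, 6), (42, 3), (43, 2), (44, 4)],
  [(9, 4), (10, 4), (11, 6), (12, 1), (13, 2), (14, 5), (16, 5), (20, 5), (21, 5), (22, 1), (23, 5), (24, 4), (25, 5), (26, 3), (28, 5), (29, 4), (30, 4), (31, 1), (32, 5), (33, 4), (34, 5), (35, 2), (36, 3), (37, 6), (40, 5), (41, 3), (42, 4), (43, 5), (44, 4)],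
  [(9, 1), (10, 1), (12, 4), (14, 2), (15, 1), (16, 1), (20, 2), (21, 3), (22, 5), (23, 6), (24, 5), (25, 3), (26, 6), (27, 5), (29, 1), (30, 3), (31, 3), (32, 6), (33, 5), (34, 4), (35, 1), (36, 3), (37, 1), (40, 6), (41, 3), (42, 4), (43, 5), (44, 4)],
  [(9, 4), (10, 4), (12, 1), (13, 3), (14, 4), (15, 1), (16, 6), (17, 5), (19, 6), (20, 6), (21, 4), (22, 4), (23, 5), (24, 4), (25, 5), (26, 4), (27, 4), (28, 4), (29, 2), (31, 6), (32, 6), (34, 5), (35, 1), (36, 4), (37, 2), (40, 6), (41, 4), (42, 3), (43, 2), (44, 3)],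
  [(9, 2), (10, 2), (12, 6), (13, 6), (14, 2), (15, 5), (17, 1), (18, 2), (20, 4), (21, 2), (23, 1), (24, 6), (25, 3), (26, 6), (27, 5), (28, 6), (29, 3), (30, 3), (31, 5), (32, 5), (34, 3), (35, 5), (36, 5), (37, 2), (38, 1), (39, 6), (40, 1), (41, 2), (42, 1), (43, 2), (44, 5)],
  [(9, 1), (10, 1), (12, 3), (13, 3), (14, 4), (16, 6), (17, 2), (18, 6), (19, 6), (20, 2), (22, 5), (23, 1), (24, 1), (25, 1), (26, 2), (28, 3), (29, 3), (30, 2), (31, 4), (34, 5), (35, 5), (36, 2), (37, 4), (38, 3), (39, 4), (40, 3), (41, 5), (43, 4), (44, 3)],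
  [(12, 2), (13, 2), (14, 6), (15, 6), (17, 3), (18, 6), (19, 2), (20, 1), (21, 5), (23, 2), (26, 6), (29, 6), (30, 1), (31, 2), (33, 5), (34, 3), (35, 3), (36, 3), (37, 1), (38, 3), (39, 4), (41, 1), (42, 1), (44, 6)],
  [(12, 1), (13, 1), (14, 3), (15, 3), (16, 4), (17, 1), (18, 5), (21, 3), (22, 6), (23, 4), (24, 2), (25, 1), (26, 6), (27, 6), (28, 4), (29, 1), (30, 6), (33, 4), (36, 2), (38, 6), (39, 1), (40, 5), (41, 1), (42, 2), (44, 1)],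
  [(12, 3), (13, 5), (14, 4), (15, 4), (16, 4), (17, 1), (18, 6), (19, 3), (20, 4), (21, 2), (23, 2), (24, 5), (26, 4), (27, 6), (28, 2), (31, 5), (33, 1), (34, 4), (35, 2), (36, 3), (37, 1), (38, 2), (39, 5), (40, 3), (41, 3), (42, 5), (43, 4), (44, 5)],
  [(12, 4), (13, 5), (14, 6), (15, 6), (16, 3), (17, 2), (18, 6), (19, 1), (22, 4), (23, 1), (24, 4), (25, 1), (27, 3), (28, 2), (29, 6), (30, 4), (32, 2), (33, 2), (34, 1), (35, 1), (36, 5), (39, 1), (40, 6), (41, 5), (42, 1), (43, 3), (44, 2)],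
  [(12, 5), (13, 6), (14, 1), (15, 4), (16, 2), (17, 6), (18, 3), (19, 2), (20, 4), (21, 5), (22, 6), (23, 3), (24, 6), (26, 5), (27, 4), (28, 3), (29, 2), (31, 3), (32, 2), (33, 5), (34, 2), (35, 5), (36, 2), (37, 5), (38, 5), (39, 2), (40, 3), (42, 3), (43, 5), (44, 4)],
  [(13, 2), (14, 5), (15, 3), (16, 3), (17, 2), (19, 2), (20, 4), (21, 2), (22, 2), (23, 3), (24, 3), (25, 2), (26, 4), (27, 1), (28, 4), (30, 2), (32, 6), (33, 3), (34, 4), (35, 2), (36, 4), (37, 4), (38, 5), (39, 5), (40, 3), (41, 1), (42, 4), (43, 1)],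
  [(14, 2), (15, 3), (16, 3), (17, 6), (18, 2), (20, 2), (21, 4), (22, 1), (23, 4), (25, 4), (26, 4), (28, 1), (29, 1), (30, 1), (31, 2), (32, 4), (33, 3), (35, 1), (36, 5), (37, 2), (39, 5), (40, 2), (41, 4), (42, 2), (43, 4)],
  [(16, 2), (18, 1), (19, 6), (20, 5), (21, 4), (23, 6), (24, 3), (25, 1), (26, 1), (27, 6), (29, 1), (30, 2), (31, 1), (32, 4), (34, 4), (36, 4), (37, 1), (39, 5), (41, 5), (42, 5), (43, 1), (44, 4)],
  [(17, 5), (18, 5), (19, 6), (20, 1), (21, 2), (22, 1), (23, 4), (24, 5), (25, 6), (27, 1), (28, 6), (29, 1), (30, 6), (31, 6), (32, 1), (33, 2), (35, 4), (36, 4), (37, 4), (38, 4), (39, 1), (41, 1), (42, 2), (43, 4), (44, 1)],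
  [(17, 3), (18, 6), (19, 1), (20, 2), (21, 3), (23, 2), (24, 1), (25, 3), (26, 6), (27, 4), (28, 6), (29, 3), (30, 2), (32, 4), (33, 6), (34, 5), (35, 6), (36, 6), (37, 1), (38, 6), (41, 4), (42, 1), (44, 6)],
  [(17, 1), (18, 6), (19, 3), (20, 5), (21, 4), (23, 2), (24, 5), (25, 4), (26, 3), (27, 1), (28, 5), (29, 6), (30, 1), (32, 3), (33, 6), (34, 5), (35, 6), (36, 6), (37, 6), (38, 6), (39, 2), (42, 3), (43, 4), (44, 3)],
  [(17, 6), (18, 2), (19, 3), (20, 5), (21, 1), (22, 1), (23, 3), (24, 2), (26, 1), (27, 6), (28, 2), (29, 5), (30, 5), (31, 6), (32, 4), (33, 1), (34, 4), (35, 1), (36, 6), (37, 6), (38, 6), (39, 4), (40, 4), (41, 5), (42, 5), (43, 3), (44, 2)],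
  [(17, 3), (19, 4), (20, 6), (21, 2), (24, 3), (25, 2), (27, 3), (28, 5), (29, 3), (30, 3), (33, 4), (35, 2), (36, 4), (37, 1), (38, 4), (39, 1), (40, 4), (42, 5), (43, 1), (44, 2)],
  [(18, 5), (19, 5), (21, 3), (22, 6), (23, 4), (24, 5), (25, 6), (27, 5), (28, 1), (30, 2), (31, 4), (32, 3), (33, 5), (34, 2), (35, 6), (36, 6), (38, 3), (39, 5), (40, 1), (41, 4), (42, 2), (43, 1), (44, 1)],
  [(24, 1), (25, 6), (26, 4), (27, 1), (28, 3), (29, 2), (30, 2), (31, 1), (32, 4), (33, 3), (34, 6), (35, 1), (36, 2), (37, 5), (38, 6), (39, 3), (41, 1), (42, 6), (43, 6), (44, 6)],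
  [(24, 3), (25, 6), (26, 3), (27, 5), (28, 6), (29, 1), (30, 1), (31, 5), (33, 2), (35, 2), (36, 4), (37, 2), (38, 5), (39, 6), (40, 5), (41, 1), (42, 2), (43, 1), (44, 2)],
  [(24, 1), (26, 3), (27, 6), (28, 4), (30, 5), (31, 3), (32, 5), (33, 4), (34, 1), (35, 2), (36, 6), (37, 6), (39, 2), (40, 2), (41, 1), (42, 2), (43, 5), (44, 2)],
  [(33, 6), (40, 5), (41, 1)],
  [(24, 1), (25, 4), (26, 6), (27, 5), (28, 1), (29, 6), (30, 6), (31, 6), (32, 1), (33, 5), (34, 2), (35, 1), (36, 4), (37, 1), (40, 2), (42, 1), (43, 1), (44, 3)],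
  [(24, 3), (25, 2), (29, 3), (30, 5), (32, 5), (33, 2), (34, 2), (35, 4), (36, 2), (37, 6), (39, 1), (41, 4), (42, 3), (43, 4), (44, 5)],
  [(25, 5), (26, 2), (27, 1), (28, 4), (29, 1), (30, 2), (31, 1), (32, 1), (33, 1), (34, 6), (35, 1), (36, 2), (37, 2), (39, 6), (40, 3), (41, 1), (42, 1), (43, 4), (44, 6)],
  [(27, 5), (28, 4), (29, 5), (30, 4), (31, 4), (32, 6), (33, 1), (34, 6), (35, 3), (36, 2), (37, 1), (39, 2), (41, 1), (42, 2), (43, 4), (44, 5)],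
  [(27, 1), (28, 5), (29, 1), (30, 5), (31, 1), (32, 2), (33, 2), (35, 1), (36, 6), (37, 2), (39, 3), (40, 4), (41, 3), (42, 5), (44, 6)],
  [(27, 2), (28, 3), (29, 2), (30, 3), (31, 3), (32, 1), (33, 6), (34, 1), (35, 4), (36, 5), (39, 6), (40, 6), (41, 6), (42, 5), (43, 3), (44, 2)],
  [(40, 6)],
  [(40, 3), (41, 1)],
  [(40, 4), (41, 5), (42, 6), (43, 2)],
  [(43, 1)],
  [(44, 1)]]

/-- matrix `d` -/
def md : List (List (ℕ × ℕ)) := [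
  [(0, 3), (1, 1), (3, 6), (4, 6), (5, 1), (6, 1), (7, 6)],
  [(0, 1), (1, 5), (2, 6), (3, 6), (4, 1), (5, 3), (6, 6), (7, 4), (8, 1), (9, 1), (10, 2), (11, 1), (12, 3), (13, 5), (14, 1), (15, 3), (16, 2), (17, 4), (18, 4), (19, 1), (20, 5), (21, 6), (23, 3), (24, 4), (25, 2), (26, 2), (27, 1), (28, 1), (30, 3), (31, 1), (33, 5), (34, 2), (35, 4), (36, 1), (38, 5), (39, 2), (40, 1), (42, 3), (43, 6), (44, 6)],
  [(0, 6), (1, 2), (2, 5), (3, 3), (4, 5), (5, 6), (6, 2), (7, 1), (8, 4), (10, 4), (11, 4), (12, 5), (13, 6), (14, 3), (15, 3), (16, 6), (17, 1), (19, 5), (21, 4), (22, 4), (23, 6), (24, 5), (25, 4), (26, 2), (27, 1), (28, 6), (29, 1), (30, 3), (31, 1), (32, 2), (33, 5), (34, 6), (35, 1), (36, 6), (37, 4), (38, 4), (40, 3), (41, 6), (42, 4), (43, 1), (44, 1)],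
  [(0, 2), (1, 5), (2, 2), (3, 6), (4, 2), (5, 4), (6, 5), (7, 5), (9, 6), (10, 6), (14, 5), (15, 3), (16, 3), (17, 5), (18, 3), (19, 2), (20, 2), (21, 2), (22, 1), (23, 2), (24, 6), (25, 6), (26, 2), (27, 1), (28, 4), (29, 2), (30, 3), (31, 1), (32, 4), (33, 5), (34, 3), (35, 5), (36, 4), (37, 1), (38, 3), (39, 5), (40, 5), (41, 5), (42, 5), (43, 3), (44, 3)],
  [(1, 5), (3, 1), (4, 1), (5, 5), (6, 5), (8, 2), (10, 2), (11, 2), (12, 6), (13, 3), (14, 5), (15, 5), (16, 3), (17, 4), (19, 6), (21, 2), (22, 2), (23, 3), (24, 6), (25, 2), (26, 1), (27, 4), (28, 3), (29, 4), (30, 5), (31, 4), (32, 1), (33, 6), (34, 3), (35, 4), (36, 3), (37, 2), (38, 2), (40, 5), (41, 3), (42, 2), (43, 4), (44, 4)],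
  [(1, 5), (2, 1), (3, 5), (4, 2), (6, 5), (7, 1), (8, 1), (10, 1), (11, 1), (12, 3), (13, 5), (14, 6), (15, 6), (16, 5), (17, 2), (19, 3), (21, 1), (22, 1), (23, 5), (24, 3), (25, 1), (26, 4), (27, 2), (28, 5), (29, 2), (30, 6), (31, 2), (32, 4), (33, 3), (34, 5), (35, 2), (36, 5), (37, 1), (38, 1), (40, 6), (41, 5), (42, 1), (43, 2), (44, 2)],
  [(1, 2), (2, 1), (3, 3), (4, 5), (5, 5), (6, 1), (7, 1), (9, 2), (10, 2), (14, 4), (15, 1), (16, 1), (17, 4), (18, 1), (19, 3), (20, 3), (21, 3), (22, 5), (23, 3), (24, 2), (25, 2), (26, 3), (27, 5), (28, 6), (29, 3), (30, 1), (31, 5), (32, 6), (33, 4), (34, 1), (35, 4), (36, 6), (37, 5), (38, 1), (39, 4), (40, 4), (41, 4), (42, 4), (43, 1), (44, 1)],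
  [(1, 5), (2, 6), (3, 4), (4, 2), (5, 2), (6, 5), (7, 5), (9, 4), (10, 4), (14, 1), (15, 2), (16, 2), (17, 1), (18, 2), (19, 6), (20, 6), (21, 6), (22, 3), (23, 6), (24, 4), (25, 4), (26, 6), (27, 3), (28, 5), (29, 6), (30, 2), (31, 3), (32, 5), (33, 1), (34, 2), (35, 1), (36, 5), (37, 3), (38, 2), (39, 1), (40, 1), (41, 1), (42, 1), (43, 2), (44, 2)],
  [(8, 6), (9, 1), (10, 1), (13, 2), (14, 3), (15, 2), (16, 6), (17, 6), (18, 4), (19, 6), (20, 5), (21, 6), (22, 6), (23, 1), (24, 4), (25, 5), (26, 6), (27, 5), (28, 3), (29, 5), (31, 1), (32, 5), (33, 4), (34, 4), (36, 5), (37, 6), (38, 5), (39, 6), (40, 3), (41, 4), (42, 1), (43, 4), (44, 3)],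
  [(8, 1), (9, 6), (10, 6), (11, 5), (12, 6), (13, 2), (14, 2), (15, 2), (16, 3), (17, 4), (18, 6), (20, 2), (21, 4), (22, 1), (23, 2), (25, 6), (26, 4), (27, 3), (28, 3), (29, 2), (31, 4), (32, 3), (33, 3), (34, 2), (35, 3), (36, 2), (37, 3), (39, 1), (41, 1), (42, 1), (43, 4)],
  [(8, 6), (9, 2), (10, 2), (11, 2), (12, 1), (13, 5), (14, 5), (16, 4), (17, 4), (18, 1), (20, 5), (21, 3), (22, 2), (23, 3), (24, 1), (25, 2), (26, 1), (28, 6), (29, 1), (30, 3), (32, 4), (34, 4), (35, 6), (36, 1), (37, 1), (38, 4), (39, 1), (40, 2), (41, 3), (42, 6), (43, 2)],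
  [(8, 3), (9, 4), (10, 2), (11, 5), (12, 4), (13, 5), (14, 3), (15, 3), (18, 4), (19, 5), (20, 3), (21, 2), (22, 6), (23, 6), (24, 2), (25, 2), (26, 1), (27, 4), (28, 5), (30, 1), (31, 2), (32, 5), (33, 5), (34, 6), (35, 3), (36, 6), (37, 2), (38, 2), (39, 4), (40, 4), (41, 1), (42, 6), (43, 1), (44, 5)],
  [(10, 3), (11, 1), (12, 5), (13, 2), (15, 1), (16, 5), (17, 2), (19, 1), (20, 4), (21, 3), (22, 4), (23, 5), (24, 6), (25, 3), (26, 3), (27, 1), (28, 5), (29, 4), (30, 4), (31, 6), (33, 4), (34, 3), (35, 2), (36, 5), (37, 6), (40, 1), (41, 4), (42, 4), (44, 2)],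
  [(10, 6), (11, 2), (12, 5), (13, 5), (14, 1), (15, 6), (16, 5), (21, 2), (22, 1), (23, 6), (24, 1), (27, 3), (28, 2), (29, 5), (30, 5), (31, 2), (32, 6), (33, 1), (34, 3), (35, 6), (36, 5), (40, 2), (41, 4), (42, 4), (44, 2)],
  [(9, 4), (10, 5), (11, 5), (12, 1), (13, 3), (14, 2), (15, 5), (16, 3), (18, 6), (19, 6), (20, 4), (21, 5), (22, 1), (23, 4), (24, 6), (25, 4), (26, 1), (27, 6), (29, 5), (30, 5), (31, 2), (32, 3), (33, 1), (34, 3), (35, 3), (37, 6), (38, 2), (39, 1), (40, 4), (41, 1), (42, 5), (43, 6), (44, 3)],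
  [(10, 4), (11, 6), (12, 4), (13, 5), (14, 1), (16, 4), (17, 6), (20, 2), (22, 5), (23, 3), (24, 6), (25, 2), (27, 2), (28, 3), (29, 2), (31, 3), (32, 5), (33, 1), (34, 1), (35, 6), (36, 6), (37, 2), (40, 3), (42, 2), (43, 6), (44, 6)],
  [(9, 5), (10, 3), (11, 4), (12, 5), (13, 1), (14, 6), (15, 6), (16, 3), (17, 4), (18, 6), (19, 1), (20, 5), (21, 1), (22, 5), (23, 6), (24, 2), (25, 4), (26, 1), (27, 5), (28, 2), (29, 1), (30, 5), (31, 5), (32, 3), (33, 4), (34, 1), (35, 4), (36, 6), (37, 2), (38, 2), (39, 1), (41, 2), (43, 2), (44, 3)],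
  [(10, 6), (11, 2), (12, 6), (13, 4), (14, 5), (15, 4), (16, 6), (17, 3), (18, 4), (19, 5), (20, 1), (21, 5), (22, 6), (24, 6), (25, 5), (26, 1), (27, 2), (28, 2), (29, 2), (30, 4), (31, 5), (32, 3), (33, 6), (34, 6), (35, 2), (36, 1), (37, 5), (38, 6), (39, 3), (40, 4), (41, 1), (42, 6), (43, 4), (44, 1)],
  [(10, 4), (11, 6), (12, 3), (13, 5), (15, 4), (16, 2), (17, 3), (18, 1), (19, 6), (20, 6), (21, 6), (22, 4), (23, 5), (24, 1), (25, 3), (26, 3), (27, 6), (28, 3), (29, 4), (30, 2), (31, 3), (32, 5), (35, 3), (36, 3), (37, 2), (38, 3), (39, 4), (40, 4), (41, 4), (42, 4), (43, 2)],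
  [(10, 3), (11, 1), (12, 6), (13, 2), (14, 1), (17, 2), (18, 6), (19, 6), (20, 4), (21, 1), (22, 6), (23, 5), (26, 4), (27, 3), (29, 1), (31, 3), (32, 5), (33, 4), (34, 4), (35, 6), (36, 2), (37, 5), (38, 1), (39, 2), (41, 1), (42, 2), (43, 2), (44, 5)],
  [(10, 2), (11, 3), (12, 5), (13, 6), (14, 1), (15, 5), (16, 3), (17, 6), (18, 6), (19, 2), (21, 3), (22, 5), (25, 1), (26, 2), (27, 1), (28, 6), (29, 4), (30, 1), (31, 2), (32, 4), (33, 1), (34, 3), (35, 3), (36, 5), (37, 1), (38, 5), (39, 5), (40, 1), (41, 6), (42, 5), (43, 2), (44, 1)],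
  [(12, 6), (14, 5), (15, 4), (16, 3), (17, 3), (19, 4), (21, 3), (22, 3), (23, 2), (24, 6), (25, 4), (27, 1), (28, 4), (29, 5), (30, 1), (31, 1), (32, 2), (33, 6), (34, 6), (36, 3), (37, 6), (38, 4), (39, 3), (40, 3), (41, 6), (42, 5)],
  [(14, 3), (15, 5), (16, 6), (17, 3), (18, 1), (19, 2), (20, 5), (21, 6), (22, 1), (23, 3), (24, 5), (25, 1), (26, 4), (27, 5), (29, 3), (31, 6), (32, 4), (33, 2), (34, 1), (35, 1), (37, 3), (38, 6), (39, 5), (40, 2), (41, 6), (42, 4), (43, 1), (44, 5)],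
  [(14, 1), (15, 6), (16, 2), (17, 6), (18, 4), (20, 2), (21, 2), (22, 2), (23, 2), (24, 6), (25, 1), (26, 3), (27, 5), (28, 1), (29, 2), (30, 2), (31, 2), (32, 1), (33, 1), (34, 4), (35, 4), (37, 1), (38, 2), (39, 5), (40, 2), (41, 1), (43, 6)],
  [(15, 6), (17, 5), (18, 1), (19, 3), (20, 5), (21, 2), (22, 2), (23, 1), (24, 1), (26, 5), (27, 1), (28, 5), (29, 3), (30, 5), (32, 6), (33, 6), (34, 2), (35, 6), (36, 5), (37, 3), (38, 1), (39, 4), (40, 3), (41, 5), (43, 6), (44, 2)],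
  [(15, 2), (17, 4), (18, 6), (19, 4), (20, 1), (21, 2), (22, 1), (23, 2), (24, 3), (25, 1), (27, 5), (28, 6), (29, 3), (30, 5), (31, 3), (33, 3), (34, 2), (35, 3), (36, 1), (37, 6), (38, 4), (39, 3), (40, 2), (41, 6), (42, 4), (43, 1), (44, 1)],
  [(15, 6), (17, 3), (18, 1), (19, 3), (20, 4), (21, 6), (22, 3), (23, 3), (24, 5), (25, 5), (26, 4), (27, 6), (29, 6), (31, 3), (32, 6), (34, 2), (35, 4), (37, 5), (38, 5), (39, 6), (40, 5), (41, 6), (42, 6), (43, 1), (44, 2)],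
  [(15, 3), (17, 6), (18, 6), (19, 4), (21, 6), (22, 5), (23, 2), (24, 6), (25, 5), (26, 5), (27, 6), (29, 1), (30, 5), (32, 3), (33, 2), (34, 5), (35, 5), (36, 5), (39, 3), (40, 4), (41, 3), (42, 2), (43, 5), (44, 2)],
  [(17, 6), (18, 1), (19, 3), (21, 1), (23, 4), (24, 3), (25, 5), (26, 3), (27, 1), (28, 4), (29, 3), (30, 6), (31, 4), (32, 6), (33, 5), (34, 3), (35, 6), (36, 6), (37, 1), (38, 6), (39, 4), (42, 2), (44, 5)],
  [(17, 1), (18, 5), (19, 1), (20, 3), (22, 4), (24, 6), (25, 4), (26, 2), (27, 6), (28, 2), (29, 4), (30, 6), (31, 1), (32, 6), (33, 1), (34, 5), (35, 5), (37, 1), (38, 2), (39, 4), (40, 6), (41, 1), (42, 2), (43, 2), (44, 4)],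
  [(17, 3), (18, 1), (19, 3), (20, 2), (23, 1), (24, 2), (26, 1), (27, 2), (28, 2), (29, 4), (32, 2), (33, 4), (34, 4), (35, 1), (36, 1), (38, 5), (39, 5), (40, 1), (41, 6), (42, 3), (43, 2), (44, 5)],
  [(17, 3), (20, 5), (21, 1), (22, 3), (23, 1), (24, 5), (25, 1), (26, 2), (27, 2), (28, 6), (30, 4), (31, 3), (32, 5), (33, 3), (34, 5), (35, 2), (37, 3), (38, 4), (39, 2), (41, 4), (42, 4), (43, 5), (44, 6)],
  [(24, 5), (25, 2), (26, 4), (27, 4), (28, 5), (29, 3), (30, 5), (31, 3), (32, 1), (34, 1), (35, 2), (36, 5), (37, 4), (38, 6), (39, 2), (41, 1), (42, 6), (43, 2)],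
  [(33, 1), (41, 3)],
  [(22, 5), (23, 6), (24, 1), (26, 2), (27, 4), (28, 5), (30, 2), (31, 6), (32, 3), (33, 1), (36, 6), (37, 5), (40, 1), (42, 2), (43, 3), (44, 4)],
  [(28, 5), (29, 2), (30, 6), (31, 2), (32, 6), (33, 3), (35, 6), (37, 1), (38, 3), (39, 4), (40, 2), (41, 2), (42, 6), (43, 2), (44, 1)],
  [(24, 3), (25, 4), (27, 3), (28, 6), (29, 6), (30, 3), (31, 4), (32, 1), (34, 6), (35, 4), (36, 4), (37, 5), (38, 4), (39, 3), (42, 3), (43, 6), (44, 3)],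
  [(24, 5), (25, 2), (27, 5), (28, 5), (29, 1), (30, 6), (32, 5), (34, 3), (35, 2), (36, 6), (37, 4), (38, 6), (39, 1), (40, 5), (41, 6), (42, 4), (43, 1), (44, 2)],
  [(26, 1), (27, 5), (28, 4), (31, 2), (32, 6), (33, 3), (34, 3), (35, 2), (36, 4), (37, 2), (38, 2), (39, 4), (40, 1), (41, 4), (42, 2), (43, 5)],
  [(28, 2), (29, 5), (30, 1), (31, 5), (32, 1), (37, 6), (38, 4), (39, 2), (40, 5), (41, 6), (42, 5), (43, 5), (44, 3)],
  [(33, 2), (40, 6), (41, 3)],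
  [(41, 6)],
  [(42, 1), (44, 2)],
  [(42, 3), (43, 6), (44, 3)],
  [(44, 6)]]

/-- matrix `e` -/
def me : List (List (ℕ × ℕ)) := [
  [(0, 3), (1, 2), (2, 1), (3, 2), (4, 3), (5, 4), (6, 2), (7, 4), (9, 6), (10, 6), (11, 5), (12, 2), (13, 3), (16, 3), (18, 5), (19, 3), (20, 1), (21, 5), (22, 5), (23, 1), (26, 1), (27, 3), (28, 2), (29, 6), (30, 2), (31, 5), (32, 4), (33, 6), (34, 1), (35, 5), (36, 6), (37, 3), (38, 6), (40, 2), (41, 2), (42, 4), (43, 1), (44, 6)],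
  [(0, 5), (1, 6), (2, 2), (3, 1), (4, 4), (5, 2), (6, 1), (7, 4), (8, 4), (10, 6), (11, 5), (13, 2), (14, 2), (16, 3), (17, 4), (18, 6), (19, 4), (20, 5), (21, 5), (22, 6), (23, 1), (24, 3), (25, 4), (26, 4), (27, 5), (28, 2), (31, 6), (32, 4), (33, 2), (35, 2), (36, 4), (37, 1), (38, 3), (39, 6), (40, 3), (42, 3), (43, 5), (44, 6)],
  [(0, 3), (1, 3), (3, 1), (5, 2), (6, 1), (7, 5), (8, 3), (9, 1), (10, 3), (12, 6), (13, 5), (14, 2), (16, 3), (18, 4), (19, 5), (20, 1), (21, 4), (22, 2), (23, 5), (24, 3), (25, 3), (26, 1), (27, 3), (28, 3), (29, 5), (30, 1), (31, 6), (33, 2), (34, 1), (35, 4), (36, 1), (37, 2), (38, 5), (39, 6), (40, 3), (41, 5), (42, 5), (43, 3)],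
  [(0, 4), (1, 6), (2, 5), (3, 4), (4, 2), (5, 5), (6, 1), (7, 2), (8, 3), (9, 5), (10, 1), (11, 3), (12, 2), (13, 5), (14, 1), (15, 5), (16, 1), (17, 3), (18, 5), (19, 5), (20, 5), (21, 2), (22, 2), (23, 4), (24, 4), (25, 1), (26, 4), (28, 6), (30, 4), (31, 1), (32, 6), (33, 1), (34, 4), (35, 6), (36, 1), (37, 2), (38, 5), (39, 4), (40, 1), (41, 3), (42, 4), (43, 5), (44, 2)],
  [(0, 2), (1, 2), (2, 3), (3, 3), (4, 6), (5, 6), (6, 3), (7, 1), (8, 6), (9, 2), (10, 5), (11, 5), (12, 5), (13, 6), (14, 2), (15, 6), (16, 6), (17, 4), (18, 5), (19, 1), (20, 2), (22, 1), (23, 6), (25, 5), (26, 5), (28, 6), (29, 5), (30, 6), (31, 3), (32, 2), (33, 5), (36, 4), (37, 4), (38, 2), (39, 2), (40, 1), (41, 2), (44, 4)],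
  [(1, 2), (2, 2), (3, 5), (4, 3), (5, 3), (6, 3), (7, 6), (8, 4), (9, 3), (10, 1), (11, 1), (12, 1), (13, 6), (15, 4), (16, 5), (18, 2), (19, 1), (20, 3), (21, 4), (22, 2), (23, 6), (24, 4), (25, 6), (26, 5), (27, 5), (28, 5), (29, 5), (30, 2), (31, 2), (32, 5), (33, 2), (34, 5), (35, 5), (36, 2), (37, 4), (38, 3), (40, 2), (41, 2), (42, 4), (43, 6), (44, 5)],
  [(1, 1), (2, 4), (3, 5), (4, 6), (5, 6), (6, 5), (7, 2), (9, 2), (10, 2), (14, 4), (15, 4), (16, 4), (18, 1), (19, 3), (20, 5), (21, 2), (22, 4), (23, 3), (24, 2), (25, 2), (26, 1), (27, 3), (28, 2), (29, 5), (30, 4), (31, 3), (33, 3), (34, 1), (35, 1), (36, 2), (37, 5), (38, 5), (39, 1), (40, 3), (41, 2), (42, 5), (43, 4), (44, 2)],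
  [(7, 6), (18, 3), (19, 6), (20, 6), (21, 5), (22, 6), (23, 1), (24, 3), (25, 5), (26, 5), (27, 1), (28, 3), (29, 2), (30, 5), (31, 1), (32, 1), (33, 2), (34, 4), (36, 4), (38, 4), (39, 3), (40, 1), (41, 4), (42, 3), (43, 1), (44, 2)],
  [(8, 6), (9, 2), (10, 2), (11, 2), (12, 3), (13, 6), (14, 6), (15, 4), (16, 6), (18, 1), (19, 5), (20, 4), (21, 6), (22, 2), (23, 6), (24, 4), (25, 3), (26, 2), (27, 1), (28, 5), (29, 5), (31, 4), (32, 3), (34, 1), (35, 1), (36, 3), (37, 3), (38, 4), (39, 1), (40, 2), (41, 6), (42, 2), (43, 2), (44, 5)],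
  [(8, 6), (9, 2), (10, 4), (11, 5), (12, 1), (13, 4), (14, 5), (16, 2), (17, 3), (19, 6), (20, 4), (21, 4), (22, 3), (23, 1), (24, 2), (25, 4), (26, 5), (27, 5), (28, 1), (29, 4), (30, 3), (31, 6), (32, 6), (33, 6), (34, 6), (35, 1), (36, 3), (37, 2), (38, 1), (39, 1), (40, 4), (41, 4), (42, 1), (43, 6)],
  [(8, 1), (10, 5), (11, 2), (12, 6), (13, 3), (14, 6), (15, 2), (17, 3), (18, 6), (20, 2), (21, 5), (23, 5), (24, 6), (25, 4), (27, 3), (28, 5), (29, 4), (30, 3), (31, 5), (32, 3), (33, 1), (34, 4), (35, 6), (36, 6), (37, 1), (39, 1), (40, 4), (41, 6), (42, 6), (43, 3)],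
  [(8, 2), (9, 2), (10, 1), (11, 5), (13, 6), (16, 2), (17, 6), (18, 5), (19, 2), (21, 6), (22, 5), (23, 6), (24, 4), (25, 6), (26, 4), (28, 5), (29, 1), (30, 5), (31, 3), (32, 2), (33, 4), (34, 1), (36, 3), (37, 3), (39, 2), (41, 5), (42, 2), (44, 5)],
  [(8, 1), (9, 6), (10, 1), (11, 1), (12, 4), (13, 1), (14, 4), (15, 3), (16, 5), (17, 4), (18, 6), (19, 1), (20, 2), (21, 1), (22, 4), (24, 2), (25, 6), (26, 1), (27, 5), (28, 4), (29, 4), (30, 2), (31, 2), (32, 6), (33, 3), (34, 2), (35, 6), (36, 6), (37, 5), (39, 1), (40, 2), (41, 6), (42, 6), (43, 3)],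
  [(10, 6), (12, 1), (13, 1), (14, 1), (15, 3), (16, 5), (17, 4), (20, 6), (21, 5), (22, 3), (27, 1), (28, 6), (29, 2), (30, 3), (31, 6), (32, 5), (33, 1), (35, 1), (36, 6), (37, 4), (40, 3), (42, 2), (43, 4), (44, 6)],
  [(9, 5), (10, 6), (11, 6), (12, 1), (13, 5), (14, 3), (15, 1), (16, 3), (17, 6), (18, 4), (19, 5), (20, 3), (21, 3), (22, 4), (23, 5), (25, 1), (26, 3), (27, 6), (28, 5), (29, 4), (30, 4), (31, 6), (32, 3), (33, 5), (35, 3), (36, 5), (37, 6), (38, 5), (39, 3), (40, 1), (41, 2), (42, 1), (44, 5)],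
  [(9, 1), (10, 5), (11, 3), (12, 4), (13, 6), (14, 6), (15, 4), (16, 4), (17, 3), (18, 6), (19, 2), (20, 5), (21, 3), (22, 6), (23, 3), (24, 5), (26, 3), (27, 2), (28, 2), (29, 4), (30, 1), (31, 3), (32, 5), (33, 5), (34, 1), (35, 3), (36, 1), (37, 4), (38, 4), (39, 1), (40, 2), (42, 6), (43, 3), (44, 2)],
  [(9, 2), (11, 2), (12, 5), (13, 4), (14, 2), (15, 1), (16, 5), (17, 4), (19, 3), (20, 6), (21, 5), (22, 5), (23, 4), (25, 6), (26, 5), (27, 2), (28, 4), (29, 6), (33, 1), (35, 1), (36, 1), (37, 5), (42, 5), (43, 3), (44, 1)],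
  [(9, 1), (11, 1), (12, 6), (13, 2), (14, 1), (15, 1), (16, 5), (18, 1), (19, 1), (20, 4), (21, 3), (22, 4), (24, 1), (26, 6), (27, 1), (28, 6), (30, 3), (32, 2), (33, 4), (34, 6), (35, 6), (36, 1), (37, 6), (38, 3), (39, 6), (40, 3), (41, 1), (42, 1), (43, 6), (44, 2)],
  [(10, 4), (11, 1), (12, 1), (13, 2), (14, 2), (15, 6), (16, 5), (17, 1), (18, 2), (19, 5), (20, 3), (22, 4), (23, 2), (24, 3), (25, 2), (26, 6), (27, 1), (28, 3), (29, 4), (30, 6), (31, 4), (32, 4), (33, 4), (34, 4), (35, 5), (36, 1), (37, 4), (38, 5), (39, 5), (40, 4), (41, 4), (42, 1), (43, 5), (44, 2)],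
  [(10, 3), (11, 3), (12, 5), (13, 6), (14, 5), (15, 3), (16, 2), (17, 2), (19, 1), (20, 6), (22, 5), (23, 6), (25, 3), (26, 5), (27, 5), (28, 2), (29, 5), (30, 5), (31, 4), (32, 2), (33, 5), (34, 3), (36, 1), (37, 6), (39, 4), (41, 4), (42, 4), (44, 3)],
  [(10, 2), (11, 4), (12, 4), (13, 1), (14, 5), (15, 1), (16, 5), (17, 2), (18, 4), (20, 1), (21, 2), (22, 5), (23, 4), (24, 1), (26, 2), (27, 2), (28, 5), (29, 6), (30, 3), (31, 6), (32, 3), (33, 4), (34, 3), (35, 4), (36, 1), (37, 5), (38, 5), (39, 4), (40, 2), (41, 3), (43, 1), (44, 3)],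
  [(11, 5), (12, 4), (13, 3), (14, 1), (15, 5), (16, 2), (17, 1), (18, 5), (19, 2), (21, 5), (22, 6), (23, 4), (24, 6), (26, 2), (27, 1), (28, 3), (29, 2), (31, 2), (34, 2), (35, 2), (36, 6), (38, 1), (39, 4), (42, 6), (44, 5)],
  [(14, 5), (15, 1), (16, 2), (17, 5), (19, 3), (20, 6), (21, 6), (22, 2), (23, 1), (24, 5), (25, 4), (26, 3), (27, 6), (28, 6), (29, 4), (30, 1), (31, 4), (33, 1), (34, 3), (35, 2), (36, 6), (37, 3), (39, 3), (40, 3), (41, 3), (42, 3), (43, 2), (44, 6)],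
  [(14, 3), (15, 5), (16, 2), (17, 4), (19, 6), (20, 1), (22, 2), (23, 6), (24, 6), (25, 5), (27, 6), (28, 6), (30, 4), (31, 1), (32, 1), (33, 4), (34, 1), (35, 6), (36, 4), (37, 4), (38, 6), (39, 5), (40, 6), (41, 1), (42, 4), (43, 3), (44, 3)],
  [(14, 5), (15, 2), (16, 2), (17, 4), (18, 2), (19, 2), (20, 1), (22, 5), (23, 4), (25, 6), (26, 2), (27, 2), (28, 1), (30, 4), (31, 6), (33, 1), (34, 3), (35, 4), (37, 1), (38, 2), (39, 1), (40, 3), (41, 5), (43, 3), (44, 4)],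
  [(15, 3), (16, 1), (17, 2), (18, 3), (19, 2), (20, 1), (21, 6), (23, 2), (24, 3), (25, 3), (26, 1), (27, 5), (29, 6), (30, 1), (31, 6), (32, 1), (34, 3), (35, 3), (36, 4), (37, 4), (38, 1), (39, 3), (40, 3), (41, 1), (42, 4), (43, 6), (44, 5)],
  [(15, 1), (16, 6), (17, 1), (18, 1), (19, 3), (20, 5), (21, 2), (22, 4), (23, 5), (25, 6), (26, 2), (28, 5), (29, 5), (30, 1), (31, 4), (32, 2), (33, 1), (35, 6), (36, 5), (37, 2), (38, 2), (39, 2), (40, 6), (41, 6), (42, 2), (43, 4), (44, 6)],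
  [(15, 6), (16, 1), (17, 6), (18, 1), (19, 3), (20, 3), (21, 3), (22, 4), (24, 4), (25, 6), (26, 5), (28, 2), (29, 1), (30, 3), (31, 4), (32, 4), (33, 5), (34, 3), (35, 5), (36, 4), (37, 3), (38, 3), (39, 6), (40, 1), (41, 6), (42, 2), (43, 6), (44, 3)],
  [(15, 3), (16, 6), (17, 6), (18, 3), (19, 2), (20, 1), (21, 6), (22, 6), (23, 5), (24, 5), (25, 3), (26, 4), (27, 3), (28, 1), (29, 4), (30, 2), (32, 4), (33, 1), (34, 2), (35, 4), (36, 5), (38, 2), (39, 6), (40, 1), (41, 6), (42, 4), (43, 2)],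
  [(16, 2), (17, 3), (18, 4), (19, 5), (20, 2), (21, 3), (23, 1), (25, 6), (26, 3), (27, 6), (28, 1), (30, 4), (33, 5), (34, 6), (35, 2), (36, 5), (37, 1), (38, 5), (39, 1), (40, 4), (41, 4), (43, 3), (44, 5)],
  [(16, 6), (17, 2), (18, 5), (19, 1), (20, 6), (21, 2), (22, 6), (25, 3), (26, 6), (27, 6), (28, 4), (29, 1), (30, 2), (31, 1), (32, 4), (33, 4), (34, 5), (36, 2), (38, 1), (39, 3), (40, 6), (41, 5), (42, 6), (43, 6), (44, 1)],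
  [(18, 5), (19, 1), (20, 6), (21, 2), (22, 4), (23, 6), (24, 4), (25, 1), (28, 6), (29, 5), (30, 3), (31, 5), (32, 4), (33, 2), (34, 5), (35, 6), (36, 4), (38, 1), (39, 3), (40, 4), (41, 1), (43, 2), (44, 6)],
  [(22, 6), (23, 3), (24, 2), (25, 6), (26, 4), (27, 3), (28, 4), (30, 2), (31, 1), (32, 3), (35, 3), (36, 6), (37, 6), (40, 3), (41, 1), (42, 2), (43, 1), (44, 3)],
  [(33, 3), (40, 5), (41, 5)],
  [(22, 6), (23, 3), (24, 2), (25, 1), (26, 2), (27, 1), (28, 2), (29, 5), (30, 2), (31, 2), (32, 4), (33, 2), (34, 5), (36, 4), (37, 3), (40, 6), (41, 3), (42, 1), (44, 3)],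
  [(22, 4), (23, 2), (24, 6), (25, 6), (26, 3), (28, 3), (29, 5), (30, 6), (31, 4), (32, 1), (33, 4), (34, 2), (35, 3), (36, 3), (37, 2), (40, 1), (41, 3), (43, 4), (44, 1)],
  [(25, 1), (26, 6), (27, 6), (28, 6), (29, 6), (31, 4), (32, 1), (33, 2), (34, 4), (35, 6), (36, 3), (41, 6), (42, 6), (43, 2), (44, 3)],
  [(25, 4), (26, 3), (27, 3), (28, 3), (29, 3), (31, 2), (32, 4), (33, 2), (34, 2), (35, 3), (36, 2), (37, 6), (40, 3), (41, 6), (42, 3), (43, 6), (44, 2)],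
  [(26, 6), (28, 5), (30, 3), (31, 4), (32, 6), (33, 2), (34, 5), (40, 6), (41, 3), (42, 4), (43, 5), (44, 1)],
  [(27, 2), (28, 3), (29, 2), (30, 3), (31, 3), (32, 1), (33, 6), (34, 2), (35, 6), (37, 4), (40, 3), (41, 4), (42, 1), (43, 2), (44, 5)],
  [(33, 6), (40, 3), (41, 4)],
  [(33, 5), (40, 1)],
  [(42, 6), (43, 4), (44, 6)],
  [(43, 3), (44, 6)],
  [(43, 1), (44, 4)]]

/-- matrix `f` -/
def mf : List (List (ℕ × ℕ)) := [
  [(0, 5), (1, 1), (2, 4), (3, 1), (4, 5), (5, 2), (6, 1), (7, 2), (8, 4), (9, 4), (10, 4), (11, 3), (12, 5), (13, 6), (14, 4), (15, 4), (16, 3), (17, 6), (18, 2), (19, 4), (20, 3), (22, 3), (23, 1), (24, 2), (25, 2), (26, 1), (27, 2), (28, 4), (29, 1), (30, 2), (31, 1), (32, 4), (34, 1), (35, 2), (36, 1), (37, 5), (38, 6), (39, 1), (40, 6), (42, 2), (43, 5), (44, 2)],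
  [(0, 5), (1, 4), (3, 1), (4, 3), (5, 2), (6, 1), (7, 6), (8, 4), (10, 4), (11, 4), (12, 5), (13, 6), (14, 3), (15, 3), (16, 6), (17, 1), (19, 5), (21, 4), (22, 4), (23, 6), (24, 5), (25, 4), (26, 2), (27, 1), (28, 6), (29, 1), (30, 3), (31, 1), (32, 2), (33, 5), (34, 6), (35, 1), (36, 6), (37, 4), (38, 4), (40, 3), (41, 6), (42, 4), (43, 1), (44, 1)],
  [(0, 6), (1, 2), (2, 5), (3, 3), (4, 5), (5, 6), (6, 3), (7, 5), (8, 5), (9, 6), (10, 5), (12, 1), (13, 4), (16, 3), (18, 3), (19, 3), (20, 1), (21, 6), (25, 2), (26, 1), (27, 1), (28, 1), (29, 3), (30, 4), (31, 3), (32, 2), (33, 4), (35, 1), (37, 3), (38, 1), (39, 5), (40, 3), (41, 2), (42, 2), (43, 2), (44, 1)],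
  [(0, 5), (1, 4), (3, 1), (4, 2), (6, 3), (7, 3), (9, 5), (10, 1), (11, 6), (14, 3), (15, 5), (16, 1), (18, 6), (19, 4), (20, 1), (21, 1), (22, 5), (24, 5), (25, 6), (26, 4), (28, 1), (29, 5), (30, 3), (31, 6), (32, 5), (33, 4), (34, 6), (35, 3), (36, 5), (38, 6), (39, 3), (40, 5), (41, 3), (43, 1), (44, 5)],
  [(0, 3), (1, 1), (2, 2), (4, 2), (5, 2), (6, 3), (7, 6), (8, 3), (9, 2), (10, 5), (11, 3), (12, 2), (13, 1), (14, 1), (15, 5), (16, 2), (17, 3), (18, 1), (19, 5), (20, 3), (21, 6), (22, 1), (23, 4), (24, 4), (25, 5), (26, 1), (27, 4), (29, 2), (30, 5), (31, 4), (32, 4), (33, 6), (34, 2), (35, 3), (37, 1), (38, 4), (39, 4), (40, 1), (41, 5)],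
  [(0, 2), (1, 3), (2, 4), (3, 4), (4, 3), (5, 3), (6, 5), (7, 4), (9, 4), (10, 2), (11, 3), (14, 1), (15, 5), (16, 3), (17, 3), (18, 2), (19, 6), (20, 1), (21, 1), (22, 1), (23, 4), (24, 4), (25, 1), (26, 6), (27, 2), (28, 5), (29, 3), (30, 4), (31, 5), (33, 5), (34, 2), (35, 1), (37, 2), (38, 2), (39, 1), (40, 2), (41, 1), (42, 3), (43, 3), (44, 5)],
  [(6, 6), (9, 4), (10, 4), (14, 1), (15, 2), (16, 2), (17, 1), (18, 2), (19, 6), (20, 6), (21, 6), (22, 3), (23, 6), (24, 4), (25, 4), (26, 6), (27, 3), (28, 5), (29, 6), (30, 2), (31, 3), (32, 5), (33, 1), (34, 2), (35, 1), (36, 5), (37, 3), (38, 2), (39, 1), (40, 1), (41, 1), (42, 1), (43, 2), (44, 2)],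
  [(1, 5), (2, 6), (3, 4), (4, 2), (5, 2), (6, 2), (9, 1), (10, 1), (14, 2), (15, 4), (16, 4), (17, 2), (18, 4), (19, 5), (20, 5), (21, 5), (22, 6), (23, 5), (24, 1), (25, 1), (26, 5), (27, 6), (28, 3), (29, 5), (30, 4), (31, 6), (32, 3), (33, 2), (34, 4), (35, 2), (36, 3), (37, 6), (38, 4), (39, 2), (40, 2), (41, 2), (42, 2), (43, 4), (44, 4)],
  [(8, 6), (9, 2), (10, 2), (11, 2), (12, 3), (13, 6), (14, 6), (15, 4), (16, 6), (18, 1), (19, 5), (20, 4), (21, 6), (22, 2), (23, 6), (24, 4), (25, 3), (26, 2), (27, 1), (28, 5), (29, 5), (31, 4), (32, 3), (34, 1), (35, 1), (36, 3), (37, 3), (38, 4), (39, 1), (40, 2), (41, 6), (42, 2), (43, 2), (44, 5)],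
  [(8, 6), (9, 1), (10, 1), (11, 2), (12, 1), (13, 5), (14, 3), (15, 2), (17, 3), (18, 1), (19, 3), (21, 4), (22, 1), (23, 4), (24, 4), (25, 3), (26, 1), (28, 5), (29, 2), (30, 4), (31, 6), (32, 5), (33, 5), (34, 3), (35, 3), (36, 2), (37, 2), (39, 6), (40, 1), (41, 6), (42, 5), (43, 1), (44, 4)],
  [(8, 1), (9, 6), (10, 6), (11, 5), (12, 6), (13, 2), (14, 2), (15, 4), (16, 3), (17, 4), (18, 3), (19, 4), (20, 5), (22, 5), (23, 1), (24, 4), (25, 1), (27, 2), (28, 1), (29, 1), (30, 1), (31, 2), (32, 3), (33, 4), (34, 1), (38, 2), (39, 1), (41, 6), (42, 6), (43, 1), (44, 2)],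
  [(8, 3), (9, 4), (10, 6), (11, 4), (12, 6), (13, 3), (14, 3), (15, 1), (17, 4), (18, 2), (19, 6), (20, 2), (22, 2), (26, 5), (28, 2), (29, 3), (30, 2), (31, 6), (32, 2), (33, 3), (34, 4), (35, 4), (36, 6), (37, 5), (38, 6), (39, 3), (40, 1), (41, 2), (42, 4), (43, 2), (44, 5)],
  [(8, 6), (9, 1), (10, 6), (11, 6), (13, 6), (14, 5), (15, 4), (16, 6), (17, 6), (18, 4), (19, 3), (20, 5), (21, 5), (23, 2), (25, 6), (26, 2), (27, 2), (28, 4), (29, 4), (30, 3), (31, 4), (32, 2), (33, 1), (34, 3), (36, 4), (37, 2), (38, 5), (39, 6), (40, 1), (41, 2), (42, 1), (43, 3), (44, 2)],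
  [(8, 3), (9, 4), (12, 1), (13, 5), (14, 4), (15, 6), (16, 1), (18, 2), (19, 1), (20, 3), (21, 2), (22, 1), (23, 4), (25, 2), (26, 3), (28, 3), (29, 5), (30, 5), (32, 6), (33, 2), (34, 2), (36, 6), (37, 3), (38, 6), (39, 3), (40, 5), (41, 2), (42, 4), (43, 2), (44, 5)],
  [(10, 2), (11, 4), (12, 3), (13, 1), (15, 4), (16, 2), (17, 5), (19, 5), (20, 5), (21, 3), (22, 2), (24, 1), (26, 1), (27, 2), (28, 2), (29, 3), (30, 1), (31, 6), (32, 3), (33, 4), (34, 1), (35, 1), (36, 6), (37, 6), (38, 4), (39, 6), (40, 4), (41, 6), (42, 6), (44, 6)],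
  [(10, 1), (11, 2), (12, 5), (13, 4), (15, 5), (16, 4), (17, 1), (20, 6), (21, 1), (22, 2), (23, 4), (24, 3), (26, 4), (27, 3), (29, 2), (30, 1), (31, 4), (32, 5), (33, 5), (34, 4), (35, 2), (36, 3), (37, 2), (38, 3), (39, 1), (40, 5), (41, 5), (42, 2), (43, 4), (44, 4)],
  [(10, 3), (11, 6), (12, 1), (13, 5), (15, 5), (16, 6), (20, 6), (21, 2), (22, 5), (23, 5), (24, 2), (26, 2), (28, 2), (30, 5), (31, 1), (32, 2), (33, 1), (35, 3), (36, 2), (37, 4), (38, 5), (39, 4), (40, 5), (42, 2), (43, 1)],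
  [(10, 5), (11, 3), (12, 4), (13, 6), (15, 3), (16, 2), (17, 1), (20, 5), (22, 5), (23, 6), (24, 1), (26, 2), (27, 3), (28, 5), (29, 2), (30, 3), (32, 5), (33, 4), (34, 1), (36, 1), (37, 1), (38, 4), (39, 6), (40, 1), (41, 3), (42, 3), (43, 3), (44, 5)],
  [(9, 2), (10, 4), (11, 5), (12, 5), (13, 3), (14, 1), (16, 3), (17, 2), (19, 1), (20, 5), (21, 4), (22, 1), (23, 5), (25, 6), (26, 3), (27, 6), (28, 2), (29, 4), (30, 6), (31, 1), (32, 3), (33, 4), (36, 3), (37, 1), (38, 1), (39, 3), (40, 1), (41, 2), (42, 1), (43, 1)],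
  [(10, 3), (11, 3), (12, 2), (13, 6), (15, 5), (16, 6), (17, 4), (19, 1), (21, 4), (22, 1), (23, 6), (24, 6), (25, 2), (26, 6), (27, 1), (28, 4), (29, 5), (30, 1), (31, 3), (32, 4), (33, 4), (34, 3), (35, 3), (36, 5), (37, 5), (38, 6), (39, 5), (40, 3), (41, 5), (42, 4), (43, 5), (44, 5)],
  [(10, 1), (11, 6), (12, 6), (13, 5), (15, 6), (16, 5), (17, 2), (20, 6), (21, 4), (22, 6), (24, 3), (25, 4), (27, 5), (28, 5), (29, 6), (30, 1), (31, 5), (32, 4), (33, 1), (36, 4), (37, 3), (38, 1), (40, 5), (41, 1), (42, 5), (43, 4), (44, 3)],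
  [(10, 1), (11, 3), (13, 6), (16, 4), (17, 4), (20, 1), (21, 6), (22, 1), (24, 2), (25, 5), (26, 1), (27, 1), (28, 6), (29, 5), (30, 6), (31, 4), (32, 5), (33, 3), (34, 2), (35, 5), (36, 2), (37, 5), (38, 3), (40, 4), (41, 4), (42, 2), (43, 4)],
  [(15, 4), (16, 6), (17, 3), (20, 3), (21, 2), (22, 3), (23, 3), (24, 1), (25, 3), (26, 1), (27, 2), (28, 4), (30, 2), (31, 4), (32, 1), (33, 3), (34, 4), (35, 5), (36, 4), (37, 3), (38, 5), (39, 6), (40, 6), (41, 2), (42, 3), (43, 3), (44, 2)],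
  [(14, 1), (16, 5), (17, 5), (19, 2), (20, 4), (21, 4), (22, 6), (23, 3), (24, 4), (26, 2), (27, 2), (29, 3), (30, 4), (31, 6), (32, 1), (33, 4), (34, 2), (36, 6), (37, 6), (38, 5), (39, 3), (41, 1), (42, 5), (43, 6), (44, 3)],
  [(14, 1), (15, 1), (16, 1), (19, 2), (20, 6), (21, 3), (22, 5), (23, 5), (24, 4), (25, 5), (26, 2), (27, 6), (30, 4), (31, 1), (32, 3), (33, 4), (34, 1), (35, 1), (36, 5), (37, 4), (38, 1), (39, 3), (40, 5), (43, 3), (44, 6)],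
  [(14, 1), (15, 3), (16, 3), (17, 3), (19, 2), (20, 2), (21, 5), (22, 1), (23, 5), (24, 3), (25, 6), (26, 6), (27, 4), (28, 3), (29, 6), (30, 6), (31, 4), (32, 5), (33, 6), (34, 2), (35, 1), (36, 1), (37, 3), (38, 2), (39, 5), (40, 3), (41, 4), (42, 6), (43, 3), (44, 6)],
  [(15, 5), (16, 6), (20, 3), (21, 2), (22, 2), (23, 3), (24, 3), (25, 1), (26, 2), (27, 6), (28, 6), (29, 4), (30, 6), (34, 5), (35, 5), (36, 3), (37, 5), (38, 3), (39, 2), (41, 4), (42, 1), (43, 1), (44, 2)],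
  [(15, 4), (16, 1), (17, 1), (20, 4), (21, 5), (22, 1), (26, 1), (27, 5), (28, 1), (29, 1), (30, 5), (31, 3), (33, 2), (34, 6), (35, 2), (36, 5), (37, 1), (38, 4), (39, 5), (40, 3), (41, 1), (42, 1), (43, 5)],
  [(16, 6), (17, 1), (20, 3), (21, 2), (22, 1), (23, 5), (24, 5), (25, 4), (26, 2), (27, 5), (29, 1), (30, 2), (31, 5), (32, 6), (33, 3), (34, 3), (35, 6), (36, 3), (37, 2), (38, 2), (39, 6), (40, 6), (41, 6), (42, 4), (43, 1), (44, 5)],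
  [(15, 3), (16, 2), (17, 3), (20, 1), (21, 3), (22, 3), (23, 2), (24, 3), (25, 2), (26, 5), (28, 5), (29, 4), (30, 5), (31, 4), (32, 5), (34, 6), (35, 2), (36, 6), (37, 1), (39, 3), (40, 6), (41, 6), (42, 1), (43, 4), (44, 6)],
  [(16, 6), (17, 4), (20, 1), (21, 3), (22, 3), (24, 5), (25, 2), (27, 5), (28, 6), (30, 5), (31, 5), (32, 2), (33, 3), (35, 4), (36, 6), (37, 4), (41, 4), (43, 1), (44, 1)],
  [(17, 4), (20, 2), (21, 6), (23, 4), (25, 3), (27, 6), (28, 6), (29, 2), (30, 5), (31, 5), (32, 5), (33, 2), (34, 3), (35, 3), (37, 2), (39, 5), (40, 1), (41, 1), (42, 3), (43, 3), (44, 5)],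
  [(22, 4), (23, 2), (25, 5), (28, 1), (29, 6), (30, 4), (31, 3), (33, 1), (34, 5), (35, 6), (37, 6), (40, 5), (41, 2), (42, 3), (43, 2), (44, 4)],
  [(33, 3), (40, 3), (41, 5)],
  [(22, 6), (23, 3), (24, 5), (25, 6), (26, 6), (27, 4), (28, 1), (29, 4), (30, 2), (31, 2), (32, 1), (35, 5), (36, 3), (37, 2), (39, 2), (42, 1), (43, 3), (44, 2)],
  [(22, 6), (23, 3), (24, 2), (25, 2), (26, 1), (27, 2), (28, 4), (29, 6), (30, 5), (31, 2), (32, 6), (33, 5), (35, 4), (36, 4), (37, 5), (40, 1), (41, 2), (43, 4), (44, 4)],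
  [(22, 6), (23, 3), (24, 6), (25, 5), (26, 3), (27, 1), (28, 5), (29, 2), (30, 6), (32, 1), (33, 1), (34, 3), (35, 2), (36, 1), (37, 1), (39, 5), (40, 4), (41, 5), (42, 6), (43, 2), (44, 3)],
  [(24, 2), (25, 5), (26, 1), (27, 2), (28, 6), (29, 4), (30, 6), (31, 1), (32, 4), (33, 1), (34, 1), (35, 5), (36, 2), (37, 4), (39, 6), (40, 2), (42, 3), (43, 2), (44, 6)],
  [(26, 1), (27, 4), (28, 5), (30, 5), (31, 5), (32, 5), (33, 5), (34, 6), (35, 5), (37, 6), (39, 6), (42, 2), (43, 2), (44, 1)],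
  [(27, 5), (28, 4), (29, 5), (30, 4), (31, 4), (32, 6), (33, 1), (34, 6), (35, 6), (36, 6), (39, 6), (40, 6), (41, 3), (43, 6), (44, 5)],
  [(33, 1), (40, 5), (41, 3)],
  [(33, 2), (40, 5), (41, 5)],
  [(42, 6), (44, 5)],
  [(43, 6), (44, 5)],
  [(44, 1)]]

/-- the scalar matrix -/
def ms : List (List (ℕ × ℕ)) := [
  [(0, 2)], [(1, 2)], [(2, 2)], [(3, 2)], [(4, 2)], [(5, 2)], [(6, 2)], [(7, 2)], [(8, 2)], [(9, 2)], [(10, 2)], [(11, 2)], [(12, 2)], [(13, 2)], [(14, 2)], [(15, 2)], [(16, 2)], [(17, 2)], [(18, 2)], [(19, 2)], [(20, 2)], [(21, 2)], [(22, 2)], [(23, 2)], [(24, 2)], [(25, 2)], [(26, 2)], [(27, 2)], [(28, 2)], [(29, 2)], [(30, 2)], [(31, 2)], [(32, 2)], [(33, 2)], [(34, 2)], [(35, 2)], [(36, 2)], [(37, 2)], [(38, 2)], [(39, 2)], [(40, 2)], [(41, 2)], [(42, 2)], [(43, 2)], [(44, 2)]]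

/-- the matrices -/
def T : List (List (List (ℕ × ℕ))) := [mg, ma, mb, mc, md, me, mf, ms]

/-- short words -/
def W1 : List (List ℕ) := [
  [1, 1],
  [2, 2],
  [3, 3],
  [4, 4],
  [5, 5],
  [6, 6],
  [1, 2, 1, 2, 1, 2],
  [1, 3, 1, 3],
  [1, 4, 1, 4],
  [1, 5, 1, 5],
  [1, 6, 1, 6],
  [2, 1, 2, 1, 2, 1],
  [2, 3, 2, 3, 2, 3],
  [2, 4, 2, 4],
  [2, 5, 2, 5],
  [2, 6, 2, 6],
  [3, 1, 3, 1],
  [3, 2, 3, 2, 3, 2],
  [3, 4, 3, 4, 3, 4, 3, 4, 3, 4, 3, 4, 3, 4, 3, 4],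
  [3, 5, 3, 5],
  [3, 6, 3, 6],
  [4, 1, 4, 1],
  [4, 2, 4, 2],
  [4, 3, 4, 3, 4, 3, 4, 3, 4, 3, 4, 3, 4, 3, 4, 3],
  [4, 5, 4, 5, 4, 5],
  [4, 6, 4, 6],
  [5, 1, 5, 1],
  [5, 2, 5, 2],
  [5, 3, 5, 3],
  [5, 4, 5, 4, 5, 4],
  [5, 6, 5, 6, 5, 6],
  [6, 1, 6, 1],
  [6, 2, 6, 2],
  [6, 3, 6, 3],
  [6, 4, 6, 4],
  [6, 5, 6, 5, 6, 5]]

/-- further words -/
def W2 : List (List ℕ) := [
  [0, 0, 0, 0],
  [1, 6, 0, 0],
  [1, 6, 4, 3, 4, 3, 4, 3, 4, 3],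
  [3, 0, 0, 0, 4, 0, 0, 0, 4, 3, 4, 0, 4, 0],
  [4, 0, 0, 0, 3, 0, 0, 0, 3, 4, 3, 0, 3, 0],
  [2, 3, 4, 0, 2, 3, 4, 0, 2, 3, 4, 0, 2, 3, 4, 0, 2, 3, 4, 0, 7],
  [0, 2, 3, 0, 3, 2, 0, 2, 3, 0, 3, 7],
  [0, 5, 4, 0, 4, 5, 0, 5, 4, 0, 4, 7]]


lemma valid_T : T.all (valid 45 7 45) = true := by decide +kernel

lemma chk_W1 : chkW 7 9363 45 T W1 = true := by decide +kernel

lemma chk_W2 : chkW 7 9363 45 T W2 = true := by decide +kernel

end Cfsg.Agent.HH.ON45
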