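import Cfsg.Agent.Golay.Table
import Mathlib.Data.Matrix.Mul
import Mathlib.Algebra.BigOperators.Fin
import Mathlib.Data.ZMod.Basic
import Mathlib.Data.Nat.Bitwise

set_option autoImplicit false
set_option maxRecDepth 100000

/-!
Matrices of size 112 over the field with two elements, packed in natural numbers: the entry `(i, j)` is bit `112 i + j`.
-/

namespace Cfsg.Agent.HH.PM

open Cfsg.Agent.Golay

/-- the numbers `2 ^ (112 i)`, `i < 112` -/
def MK : ℕ := 0x100000000000000000000000000010000000000000000000000000001000000000000000000000000000100000000000000000000000000010000000000000000000000000001000000000000000000000000000100000000000000000000000000010000000000000000000000000001000000000000000000000000000100000000000000000000000000010000000000000000000000000001000000000000000000000000000100000000000000000000000000010000000000000000000000000001000000000000000000000000000100000000000000000000000000010000000000000000000000000001000000000000000000000000000100000000000000000000000000010000000000000000000000000001000000000000000000000000000100000000000000000000000000010000000000000000000000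0000010000000000000000000000000001000000000000000000000000000100000000000000000000000000010000000000000000000000000001000000000000000000000000000100000000000000000000000000010000000000000000000000000001000000000000000000000000000100000000000000000000000000010000000000000000000000000001000000000000000000000000000100000000000000000000000000010000000000000000000000000001000000000000000000000000000100000000000000000000000000010000000000000000000000000001000000000000000000000000000100000000000000000000000000010000000000000000000000000001000000000000000000000000000100000000000000000000000000010000000000000000000000000001000000000000000000000000000100000000000000000000000000010000000000000000000000000001000000000000000000000000000100000000000000000000000000010000000000000000000000000001000000000000000000000000000100000000000000000000000000010000000000000000000000000001000000000000000000000000000100000000000000000000000000010000000000000000000000000001000000000000000000000000000100000000000000000000000000010000000000000000000000000001000000000000000000000000000100000000000000000000000000010000000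000000000000000000001000000000000000000000000000100000000000000000000000000010000000000000000000000000001000000000000000000000000000100000000000000000000000000010000000000000000000000000001000000000000000000000000000100000000000000000000000000010000000000000000000000000001000000000000000000000000000100000000000000000000000000010000000000000000000000000001000000000000000000000000000100000000000000000000000000010000000000000000000000000001000000000000000000000000000100000000000000000000000000010000000000000000000000000001000000000000000000000000000100000000000000000000000000010000000000000000000000000001000000000000000000000000000100000000000000000000000000010000000000000000000000000001000000000000000000000000000100000000000000000000000000010000000000000000000000000001000000000000000000000000000100000000000000000000000000010000000000000000000000000001000000000000000000000000000100000000000000000000000000010000000000000000000000000001000000000000000000000000000100000000000000000000000000010000000000000000000000000001000000000000000000000000000100000000000000000000000000010000000000000000000000000001000000000000000000000000000100000000000000000000000000010000000000000000000000000001000000000000000000000000000100000000000000000000000000010000000000000000000000000001000000000000000000000000000100000000000000000000000000010000000000000000000000000001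

/-- the identity matrix -/
def idP : ℕ := 0x800000000000000000000000000040000000000000000000000000002000000000000000000000000000100000000000000000000000000008000000000000000000000000000400000000000000000000000000020000000000000000000000000001000000000000000000000000000080000000000000000000000000004000000000000000000000000000200000000000000000000000000010000000000000000000000000000800000000000000000000000000040000000000000000000000000002000000000000000000000000000100000000000000000000000000008000000000000000000000000000400000000000000000000000000020000000000000000000000000001000000000000000000000000000080000000000000000000000000004000000000000000000000000000200000000000000000000000000010000000000000000000000000000800000000000000000000000000040000000000000000000000000002000000000000000000000000000100000000000000000000000000008000000000000000000000000000400000000000000000000000000020000000000000000000000000001000000000000000000000000000080000000000000000000000000004000000000000000000000000000200000000000000000000000000010000000000000000000000000000800000000000000000000000000040000000000000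0000000000000020000000000000000000000000001000000000000000000000000000080000000000000000000000000004000000000000000000000000000200000000000000000000000000010000000000000000000000000000800000000000000000000000000040000000000000000000000000002000000000000000000000000000100000000000000000000000000008000000000000000000000000000400000000000000000000000000020000000000000000000000000001000000000000000000000000000080000000000000000000000000004000000000000000000000000000200000000000000000000000000010000000000000000000000000000800000000000000000000000000040000000000000000000000000002000000000000000000000000000100000000000000000000000000008000000000000000000000000000400000000000000000000000000020000000000000000000000000001000000000000000000000000000080000000000000000000000000004000000000000000000000000000200000000000000000000000000010000000000000000000000000000800000000000000000000000000040000000000000000000000000002000000000000000000000000000100000000000000000000000000008000000000000000000000000000400000000000000000000000000020000000000000000000000000001000000000000000000000000000080000000000000000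000000000004000000000000000000000000000200000000000000000000000000010000000000000000000000000000800000000000000000000000000040000000000000000000000000002000000000000000000000000000100000000000000000000000000008000000000000000000000000000400000000000000000000000000020000000000000000000000000001000000000000000000000000000080000000000000000000000000004000000000000000000000000000200000000000000000000000000010000000000000000000000000000800000000000000000000000000040000000000000000000000000002000000000000000000000000000100000000000000000000000000008000000000000000000000000000400000000000000000000000000020000000000000000000000000001000000000000000000000000000080000000000000000000000000004000000000000000000000000000200000000000000000000000000010000000000000000000000000000800000000000000000000000000040000000000000000000000000002000000000000000000000000000100000000000000000000000000008000000000000000000000000000400000000000000000000000000020000000000000000000000000001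

/-- a term of the product -/
def tm (a b k : ℕ) : ℕ :=
  Nat.mul (Nat.land a (Nat.shiftLeft MK k))
    (Nat.shiftLeft (Nat.land (Nat.shiftRight b (Nat.mul 112 k)) 5192296858534827628530496329220095) (Nat.sub 112 k))

/-- sum of the terms `k`, …, `k + n - 1` of the product -/
def sumT (a b n : ℕ) : ℕ → ℕ :=
  Nat.rec (motive := fun _ => ℕ → ℕ) (fun _ => 0) (fun _ ih k => Nat.xor (tm a b k) (ih (Nat.succ k))) n

/-- product of packed matrices -/
def mulP (a b : ℕ) : ℕ := Nat.shiftRight
  (Nat.xor (Nat.mul (Nat.land a (Nat.shiftLeft MK 0)) (Nat.shiftLeft (Nat.land (Nat.shiftRight b 0) 5192296858534827628530496329220095) 112))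
  (Nat.xor (Nat.mul (Nat.land a (Nat.shiftLeft MK 1)) (Nat.shiftLeft (Nat.land (Nat.shiftRight b 112) 5192296858534827628530496329220095) 111))
  (Nat.xor (Nat.mul (Nat.land a (Nat.shiftLeft MK 2)) (Nat.shiftLeft (Nat.land (Nat.shiftRight b 224) 5192296858534827628530496329220095) 110))
  (Nat.xor (Nat.mul (Nat.land a (Nat.shiftLeft MK 3)) (Nat.shiftLeft (Nat.land (Nat.shiftRight b 336) 5192296858534827628530496329220095) 109))
  (Nat.xor (Nat.mul (Nat.land a (Nat.shiftLeft MK 4)) (Nat.shiftLeft (Nat.land (Nat.shiftRight b 448) 5192296858534827628530496329220095) 108))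
  (Nat.xor (Nat.mul (Nat.land a (Nat.shiftLeft MK 5)) (Nat.shiftLeft (Nat.land (Nat.shiftRight b 560) 5192296858534827628530496329220095) 107))
  (Nat.xor (Nat.mul (Nat.land a (Nat.shiftLeft MK 6)) (Nat.shiftLeft (Nat.land (Nat.shiftRight b 672) 5192296858534827628530496329220095) 106))
  (Nat.xor (Nat.mul (Nat.land a (Nat.shiftLeft MK 7)) (Nat.shiftLeft (Nat.land (Nat.shiftRight b 784) 5192296858534827628530496329220095) 105))
  (Nat.xor (Nat.mul (Nat.land a (Nat.shiftLeft MK 8)) (Nat.shiftLeft (Nat.land (Nat.shiftRight b 896) 5192296858534827628530496329220095) 104))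
  (Nat.xor (Nat.mul (Nat.land a (Nat.shiftLeft MK 9)) (Nat.shiftLeft (Nat.land (Nat.shiftRight b 1008) 5192296858534827628530496329220095) 103))
  (Nat.xor (Nat.mul (Nat.land a (Nat.shiftLeft MK 10)) (Nat.shiftLeft (Nat.land (Nat.shiftRight b 1120) 5192296858534827628530496329220095) 102))
  (Nat.xor (Nat.mul (Nat.land a (Nat.shiftLeft MK 11)) (Nat.shiftLeft (Nat.land (Nat.shiftRight b 1232) 5192296858534827628530496329220095) 101))
  (Nat.xor (Nat.mul (Nat.land a (Nat.shiftLeft MK 12)) (Nat.shiftLeft (Nat.land (Nat.shiftRight b 1344) 5192296858534827628530496329220095) 100))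
  (Nat.xor (Nat.mul (Nat.land a (Nat.shiftLeft MK 13)) (Nat.shiftLeft (Nat.land (Nat.shiftRight b 1456) 5192296858534827628530496329220095) 99))
  (Nat.xor (Nat.mul (Nat.land a (Nat.shiftLeft MK 14)) (Nat.shiftLeft (Nat.land (Nat.shiftRight b 1568) 5192296858534827628530496329220095) 98))
  (Nat.xor (Nat.mul (Nat.land a (Nat.shiftLeft MK 15)) (Nat.shiftLeft (Nat.land (Nat.shiftRight b 1680) 5192296858534827628530496329220095) 97))
  (Nat.xor (Nat.mul (Nat.land a (Nat.shiftLeft MK 16)) (Nat.shiftLeft (Nat.land (Nat.shiftRight b 1792) 5192296858534827628530496329220095) 96))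
  (Nat.xor (Nat.mul (Nat.land a (Nat.shiftLeft MK 17)) (Nat.shiftLeft (Nat.land (Nat.shiftRight b 1904) 5192296858534827628530496329220095) 95))
  (Nat.xor (Nat.mul (Nat.land a (Nat.shiftLeft MK 18)) (Nat.shiftLeft (Nat.land (Nat.shiftRight b 2016) 5192296858534827628530496329220095) 94))
  (Nat.xor (Nat.mul (Nat.land a (Nat.shiftLeft MK 19)) (Nat.shiftLeft (Nat.land (Nat.shiftRight b 2128) 5192296858534827628530496329220095) 93))
  (Nat.xor (Nat.mul (Nat.land a (Nat.shiftLeft MK 20)) (Nat.shiftLeft (Nat.land (Nat.shiftRight b 2240) 5192296858534827628530496329220095) 92))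
  (Nat.xor (Nat.mul (Nat.land a (Nat.shiftLeft MK 21)) (Nat.shiftLeft (Nat.land (Nat.shiftRight b 2352) 5192296858534827628530496329220095) 91))
  (Nat.xor (Nat.mul (Nat.land a (Nat.shiftLeft MK 22)) (Nat.shiftLeft (Nat.land (Nat.shiftRight b 2464) 5192296858534827628530496329220095) 90))
  (Nat.xor (Nat.mul (Nat.land a (Nat.shiftLeft MK 23)) (Nat.shiftLeft (Nat.land (Nat.shiftRight b 2576) 5192296858534827628530496329220095) 89))
  (Nat.xor (Nat.mul (Nat.land a (Nat.shiftLeft MK 24)) (Nat.shiftLeft (Nat.land (Nat.shiftRight b 2688) 5192296858534827628530496329220095) 88))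
  (Nat.xor (Nat.mul (Nat.land a (Nat.shiftLeft MK 25)) (Nat.shiftLeft (Nat.land (Nat.shiftRight b 2800) 5192296858534827628530496329220095) 87))
  (Nat.xor (Nat.mul (Nat.land a (Nat.shiftLeft MK 26)) (Nat.shiftLeft (Nat.land (Nat.shiftRight b 2912) 5192296858534827628530496329220095) 86))
  (Nat.xor (Nat.mul (Nat.land a (Nat.shiftLeft MK 27)) (Nat.shiftLeft (Nat.land (Nat.shiftRight b 3024) 5192296858534827628530496329220095) 85))
  (Nat.xor (Nat.mul (Nat.land a (Nat.shiftLeft MK 28)) (Nat.shiftLeft (Nat.land (Nat.shiftRight b 3136) 5192296858534827628530496329220095) 84))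
  (Nat.xor (Nat.mul (Nat.land a (Nat.shiftLeft MK 29)) (Nat.shiftLeft (Nat.land (Nat.shiftRight b 3248) 5192296858534827628530496329220095) 83))
  (Nat.xor (Nat.mul (Nat.land a (Nat.shiftLeft MK 30)) (Nat.shiftLeft (Nat.land (Nat.shiftRight b 3360) 5192296858534827628530496329220095) 82))
  (Nat.xor (Nat.mul (Nat.land a (Nat.shiftLeft MK 31)) (Nat.shiftLeft (Nat.land (Nat.shiftRight b 3472) 5192296858534827628530496329220095) 81))
  (Nat.xor (Nat.mul (Nat.land a (Nat.shiftLeft MK 32)) (Nat.shiftLeft (Nat.land (Nat.shiftRight b 3584) 5192296858534827628530496329220095) 80))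
  (Nat.xor (Nat.mul (Nat.land a (Nat.shiftLeft MK 33)) (Nat.shiftLeft (Nat.land (Nat.shiftRight b 3696) 5192296858534827628530496329220095) 79))
  (Nat.xor (Nat.mul (Nat.land a (Nat.shiftLeft MK 34)) (Nat.shiftLeft (Nat.land (Nat.shiftRight b 3808) 5192296858534827628530496329220095) 78))
  (Nat.xor (Nat.mul (Nat.land a (Nat.shiftLeft MK 35)) (Nat.shiftLeft (Nat.land (Nat.shiftRight b 3920) 5192296858534827628530496329220095) 77))
  (Nat.xor (Nat.mul (Nat.land a (Nat.shiftLeft MK 36)) (Nat.shiftLeft (Nat.land (Nat.shiftRight b 4032) 5192296858534827628530496329220095) 76))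
  (Nat.xor (Nat.mul (Nat.land a (Nat.shiftLeft MK 37)) (Nat.shiftLeft (Nat.land (Nat.shiftRight b 4144) 5192296858534827628530496329220095) 75))
  (Nat.xor (Nat.mul (Nat.land a (Nat.shiftLeft MK 38)) (Nat.shiftLeft (Nat.land (Nat.shiftRight b 4256) 5192296858534827628530496329220095) 74))
  (Nat.xor (Nat.mul (Nat.land a (Nat.shiftLeft MK 39)) (Nat.shiftLeft (Nat.land (Nat.shiftRight b 4368) 5192296858534827628530496329220095) 73))
  (Nat.xor (Nat.mul (Nat.land a (Nat.shiftLeft MK 40)) (Nat.shiftLeft (Nat.land (Nat.shiftRight b 4480) 5192296858534827628530496329220095) 72))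
  (Nat.xor (Nat.mul (Nat.land a (Nat.shiftLeft MK 41)) (Nat.shiftLeft (Nat.land (Nat.shiftRight b 4592) 5192296858534827628530496329220095) 71))
  (Nat.xor (Nat.mul (Nat.land a (Nat.shiftLeft MK 42)) (Nat.shiftLeft (Nat.land (Nat.shiftRight b 4704) 5192296858534827628530496329220095) 70))
  (Nat.xor (Nat.mul (Nat.land a (Nat.shiftLeft MK 43)) (Nat.shiftLeft (Nat.land (Nat.shiftRight b 4816) 5192296858534827628530496329220095) 69))
  (Nat.xor (Nat.mul (Nat.land a (Nat.shiftLeft MK 44)) (Nat.shiftLeft (Nat.land (Nat.shiftRight b 4928) 5192296858534827628530496329220095) 68))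
  (Nat.xor (Nat.mul (Nat.land a (Nat.shiftLeft MK 45)) (Nat.shiftLeft (Nat.land (Nat.shiftRight b 5040) 5192296858534827628530496329220095) 67))
  (Nat.xor (Nat.mul (Nat.land a (Nat.shiftLeft MK 46)) (Nat.shiftLeft (Nat.land (Nat.shiftRight b 5152) 5192296858534827628530496329220095) 66))
  (Nat.xor (Nat.mul (Nat.land a (Nat.shiftLeft MK 47)) (Nat.shiftLeft (Nat.land (Nat.shiftRight b 5264) 5192296858534827628530496329220095) 65))
  (Nat.xor (Nat.mul (Nat.land a (Nat.shiftLeft MK 48)) (Nat.shiftLeft (Nat.land (Nat.shiftRight b 5376) 5192296858534827628530496329220095) 64))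
  (Nat.xor (Nat.mul (Nat.land a (Nat.shiftLeft MK 49)) (Nat.shiftLeft (Nat.land (Nat.shiftRight b 5488) 5192296858534827628530496329220095) 63))
  (Nat.xor (Nat.mul (Nat.land a (Nat.shiftLeft MK 50)) (Nat.shiftLeft (Nat.land (Nat.shiftRight b 5600) 5192296858534827628530496329220095) 62))
  (Nat.xor (Nat.mul (Nat.land a (Nat.shiftLeft MK 51)) (Nat.shiftLeft (Nat.land (Nat.shiftRight b 5712) 5192296858534827628530496329220095) 61))
  (Nat.xor (Nat.mul (Nat.land a (Nat.shiftLeft MK 52)) (Nat.shiftLeft (Nat.land (Nat.shiftRight b 5824) 5192296858534827628530496329220095) 60))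
  (Nat.xor (Nat.mul (Nat.land a (Nat.shiftLeft MK 53)) (Nat.shiftLeft (Nat.land (Nat.shiftRight b 5936) 5192296858534827628530496329220095) 59))
  (Nat.xor (Nat.mul (Nat.land a (Nat.shiftLeft MK 54)) (Nat.shiftLeft (Nat.land (Nat.shiftRight b 6048) 5192296858534827628530496329220095) 58))
  (Nat.xor (Nat.mul (Nat.land a (Nat.shiftLeft MK 55)) (Nat.shiftLeft (Nat.land (Nat.shiftRight b 6160) 5192296858534827628530496329220095) 57))
  (Nat.xor (Nat.mul (Nat.land a (Nat.shiftLeft MK 56)) (Nat.shiftLeft (Nat.land (Nat.shiftRight b 6272) 5192296858534827628530496329220095) 56))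
  (Nat.xor (Nat.mul (Nat.land a (Nat.shiftLeft MK 57)) (Nat.shiftLeft (Nat.land (Nat.shiftRight b 6384) 5192296858534827628530496329220095) 55))
  (Nat.xor (Nat.mul (Nat.land a (Nat.shiftLeft MK 58)) (Nat.shiftLeft (Nat.land (Nat.shiftRight b 6496) 5192296858534827628530496329220095) 54))
  (Nat.xor (Nat.mul (Nat.land a (Nat.shiftLeft MK 59)) (Nat.shiftLeft (Nat.land (Nat.shiftRight b 6608) 5192296858534827628530496329220095) 53))
  (Nat.xor (Nat.mul (Nat.land a (Nat.shiftLeft MK 60)) (Nat.shiftLeft (Nat.land (Nat.shiftRight b 6720) 5192296858534827628530496329220095) 52))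
  (Nat.xor (Nat.mul (Nat.land a (Nat.shiftLeft MK 61)) (Nat.shiftLeft (Nat.land (Nat.shiftRight b 6832) 5192296858534827628530496329220095) 51))
  (Nat.xor (Nat.mul (Nat.land a (Nat.shiftLeft MK 62)) (Nat.shiftLeft (Nat.land (Nat.shiftRight b 6944) 5192296858534827628530496329220095) 50))
  (Nat.xor (Nat.mul (Nat.land a (Nat.shiftLeft MK 63)) (Nat.shiftLeft (Nat.land (Nat.shiftRight b 7056) 5192296858534827628530496329220095) 49))
  (Nat.xor (Nat.mul (Nat.land a (Nat.shiftLeft MK 64)) (Nat.shiftLeft (Nat.land (Nat.shiftRight b 7168) 5192296858534827628530496329220095) 48))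
  (Nat.xor (Nat.mul (Nat.land a (Nat.shiftLeft MK 65)) (Nat.shiftLeft (Nat.land (Nat.shiftRight b 7280) 5192296858534827628530496329220095) 47))
  (Nat.xor (Nat.mul (Nat.land a (Nat.shiftLeft MK 66)) (Nat.shiftLeft (Nat.land (Nat.shiftRight b 7392) 5192296858534827628530496329220095) 46))
  (Nat.xor (Nat.mul (Nat.land a (Nat.shiftLeft MK 67)) (Nat.shiftLeft (Nat.land (Nat.shiftRight b 7504) 5192296858534827628530496329220095) 45))
  (Nat.xor (Nat.mul (Nat.land a (Nat.shiftLeft MK 68)) (Nat.shiftLeft (Nat.land (Nat.shiftRight b 7616) 5192296858534827628530496329220095) 44))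
  (Nat.xor (Nat.mul (Nat.land a (Nat.shiftLeft MK 69)) (Nat.shiftLeft (Nat.land (Nat.shiftRight b 7728) 5192296858534827628530496329220095) 43))
  (Nat.xor (Nat.mul (Nat.land a (Nat.shiftLeft MK 70)) (Nat.shiftLeft (Nat.land (Nat.shiftRight b 7840) 5192296858534827628530496329220095) 42))
  (Nat.xor (Nat.mul (Nat.land a (Nat.shiftLeft MK 71)) (Nat.shiftLeft (Nat.land (Nat.shiftRight b 7952) 5192296858534827628530496329220095) 41))
  (Nat.xor (Nat.mul (Nat.land a (Nat.shiftLeft MK 72)) (Nat.shiftLeft (Nat.land (Nat.shiftRight b 8064) 5192296858534827628530496329220095) 40))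
  (Nat.xor (Nat.mul (Nat.land a (Nat.shiftLeft MK 73)) (Nat.shiftLeft (Nat.land (Nat.shiftRight b 8176) 5192296858534827628530496329220095) 39))
  (Nat.xor (Nat.mul (Nat.land a (Nat.shiftLeft MK 74)) (Nat.shiftLeft (Nat.land (Nat.shiftRight b 8288) 5192296858534827628530496329220095) 38))
  (Nat.xor (Nat.mul (Nat.land a (Nat.shiftLeft MK 75)) (Nat.shiftLeft (Nat.land (Nat.shiftRight b 8400) 5192296858534827628530496329220095) 37))
  (Nat.xor (Nat.mul (Nat.land a (Nat.shiftLeft MK 76)) (Nat.shiftLeft (Nat.land (Nat.shiftRight b 8512) 5192296858534827628530496329220095) 36))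
  (Nat.xor (Nat.mul (Nat.land a (Nat.shiftLeft MK 77)) (Nat.shiftLeft (Nat.land (Nat.shiftRight b 8624) 5192296858534827628530496329220095) 35))
  (Nat.xor (Nat.mul (Nat.land a (Nat.shiftLeft MK 78)) (Nat.shiftLeft (Nat.land (Nat.shiftRight b 8736) 5192296858534827628530496329220095) 34))
  (Nat.xor (Nat.mul (Nat.land a (Nat.shiftLeft MK 79)) (Nat.shiftLeft (Nat.land (Nat.shiftRight b 8848) 5192296858534827628530496329220095) 33))
  (Nat.xor (Nat.mul (Nat.land a (Nat.shiftLeft MK 80)) (Nat.shiftLeft (Nat.land (Nat.shiftRight b 8960) 5192296858534827628530496329220095) 32))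
  (Nat.xor (Nat.mul (Nat.land a (Nat.shiftLeft MK 81)) (Nat.shiftLeft (Nat.land (Nat.shiftRight b 9072) 5192296858534827628530496329220095) 31))
  (Nat.xor (Nat.mul (Nat.land a (Nat.shiftLeft MK 82)) (Nat.shiftLeft (Nat.land (Nat.shiftRight b 9184) 5192296858534827628530496329220095) 30))
  (Nat.xor (Nat.mul (Nat.land a (Nat.shiftLeft MK 83)) (Nat.shiftLeft (Nat.land (Nat.shiftRight b 9296) 5192296858534827628530496329220095) 29))
  (Nat.xor (Nat.mul (Nat.land a (Nat.shiftLeft MK 84)) (Nat.shiftLeft (Nat.land (Nat.shiftRight b 9408) 5192296858534827628530496329220095) 28))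
  (Nat.xor (Nat.mul (Nat.land a (Nat.shiftLeft MK 85)) (Nat.shiftLeft (Nat.land (Nat.shiftRight b 9520) 5192296858534827628530496329220095) 27))
  (Nat.xor (Nat.mul (Nat.land a (Nat.shiftLeft MK 86)) (Nat.shiftLeft (Nat.land (Nat.shiftRight b 9632) 5192296858534827628530496329220095) 26))
  (Nat.xor (Nat.mul (Nat.land a (Nat.shiftLeft MK 87)) (Nat.shiftLeft (Nat.land (Nat.shiftRight b 9744) 5192296858534827628530496329220095) 25))
  (Nat.xor (Nat.mul (Nat.land a (Nat.shiftLeft MK 88)) (Nat.shiftLeft (Nat.land (Nat.shiftRight b 9856) 5192296858534827628530496329220095) 24))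
  (Nat.xor (Nat.mul (Nat.land a (Nat.shiftLeft MK 89)) (Nat.shiftLeft (Nat.land (Nat.shiftRight b 9968) 5192296858534827628530496329220095) 23))
  (Nat.xor (Nat.mul (Nat.land a (Nat.shiftLeft MK 90)) (Nat.shiftLeft (Nat.land (Nat.shiftRight b 10080) 5192296858534827628530496329220095) 22))
  (Nat.xor (Nat.mul (Nat.land a (Nat.shiftLeft MK 91)) (Nat.shiftLeft (Nat.land (Nat.shiftRight b 10192) 5192296858534827628530496329220095) 21))
  (Nat.xor (Nat.mul (Nat.land a (Nat.shiftLeft MK 92)) (Nat.shiftLeft (Nat.land (Nat.shiftRight b 10304) 5192296858534827628530496329220095) 20))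
  (Nat.xor (Nat.mul (Nat.land a (Nat.shiftLeft MK 93)) (Nat.shiftLeft (Nat.land (Nat.shiftRight b 10416) 5192296858534827628530496329220095) 19))
  (Nat.xor (Nat.mul (Nat.land a (Nat.shiftLeft MK 94)) (Nat.shiftLeft (Nat.land (Nat.shiftRight b 10528) 5192296858534827628530496329220095) 18))
  (Nat.xor (Nat.mul (Nat.land a (Nat.shiftLeft MK 95)) (Nat.shiftLeft (Nat.land (Nat.shiftRight b 10640) 5192296858534827628530496329220095) 17))
  (Nat.xor (Nat.mul (Nat.land a (Nat.shiftLeft MK 96)) (Nat.shiftLeft (Nat.land (Nat.shiftRight b 10752) 5192296858534827628530496329220095) 16))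
  (Nat.xor (Nat.mul (Nat.land a (Nat.shiftLeft MK 97)) (Nat.shiftLeft (Nat.land (Nat.shiftRight b 10864) 5192296858534827628530496329220095) 15))
  (Nat.xor (Nat.mul (Nat.land a (Nat.shiftLeft MK 98)) (Nat.shiftLeft (Nat.land (Nat.shiftRight b 10976) 5192296858534827628530496329220095) 14))
  (Nat.xor (Nat.mul (Nat.land a (Nat.shiftLeft MK 99)) (Nat.shiftLeft (Nat.land (Nat.shiftRight b 11088) 5192296858534827628530496329220095) 13))
  (Nat.xor (Nat.mul (Nat.land a (Nat.shiftLeft MK 100)) (Nat.shiftLeft (Nat.land (Nat.shiftRight b 11200) 5192296858534827628530496329220095) 12))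
  (Nat.xor (Nat.mul (Nat.land a (Nat.shiftLeft MK 101)) (Nat.shiftLeft (Nat.land (Nat.shiftRight b 11312) 5192296858534827628530496329220095) 11))
  (Nat.xor (Nat.mul (Nat.land a (Nat.shiftLeft MK 102)) (Nat.shiftLeft (Nat.land (Nat.shiftRight b 11424) 5192296858534827628530496329220095) 10))
  (Nat.xor (Nat.mul (Nat.land a (Nat.shiftLeft MK 103)) (Nat.shiftLeft (Nat.land (Nat.shiftRight b 11536) 5192296858534827628530496329220095) 9))
  (Nat.xor (Nat.mul (Nat.land a (Nat.shiftLeft MK 104)) (Nat.shiftLeft (Nat.land (Nat.shiftRight b 11648) 5192296858534827628530496329220095) 8))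
  (Nat.xor (Nat.mul (Nat.land a (Nat.shiftLeft MK 105)) (Nat.shiftLeft (Nat.land (Nat.shiftRight b 11760) 5192296858534827628530496329220095) 7))
  (Nat.xor (Nat.mul (Nat.land a (Nat.shiftLeft MK 106)) (Nat.shiftLeft (Nat.land (Nat.shiftRight b 11872) 5192296858534827628530496329220095) 6))
  (Nat.xor (Nat.mul (Nat.land a (Nat.shiftLeft MK 107)) (Nat.shiftLeft (Nat.land (Nat.shiftRight b 11984) 5192296858534827628530496329220095) 5))
  (Nat.xor (Nat.mul (Nat.land a (Nat.shiftLeft MK 108)) (Nat.shiftLeft (Nat.land (Nat.shiftRight b 12096) 5192296858534827628530496329220095) 4))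
  (Nat.xor (Nat.mul (Nat.land a (Nat.shiftLeft MK 109)) (Nat.shiftLeft (Nat.land (Nat.shiftRight b 12208) 5192296858534827628530496329220095) 3))
  (Nat.xor (Nat.mul (Nat.land a (Nat.shiftLeft MK 110)) (Nat.shiftLeft (Nat.land (Nat.shiftRight b 12320) 5192296858534827628530496329220095) 2))
  (Nat.xor (Nat.mul (Nat.land a (Nat.shiftLeft MK 111)) (Nat.shiftLeft (Nat.land (Nat.shiftRight b 12432) 5192296858534827628530496329220095) 1))
  0)))))))))))))))))))))))))))))))))))))))))))))))))))))))))))))))))))))))))))))))))))))))))))))))))))))))))))))))) 112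

/-- booleans as elements of the field -/
def bz (b : Bool) : ZMod 2 := if b = true then 1 else 0

lemma bz_xor (a b : Bool) : bz (a ^^ b) = bz a + bz b := by
  cases a <;> cases b <;> decide

lemma bz_and (a b : Bool) : bz (a && b) = bz a * bz b := by
  cases a <;> cases b <;> decide

lemma MK_lt : MK < 2 ^ 12544 := by decide +kernel

lemma MK_all : (List.range 12544).all (fun k => !(Nat.testBit MK k) || Nat.beq (k % 112) 0) = true := by
  decide +kernel

lemma MK_dvd {k : ℕ} (h : MK.testBit k = true) : 112 ∣ k := by
  by_cases hk : k < 12544
  · have h1 := MK_all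
    rw [List.all_eq_true] at h1
    have h2 := h1 k (List.mem_range.2 hk)
    rw [h, Bool.not_true, Bool.false_or] at h2
    exact Nat.dvd_of_mod_eq_zero (Nat.eq_of_beq_eq_true h2)
  · exfalso
    have h1 : MK.testBit k = false :=
      Nat.testBit_lt_two_pow (lt_of_lt_of_le MK_lt (Nat.pow_le_pow_right (by norm_num) (by omega)))
    rw [h1] at h
    exact Bool.false_ne_true h

lemma MK_bit : ∀ i < 112, MK.testBit (112 * i) = true := by
  have h : (List.range 112).all (fun i => MK.testBit (112 * i)) = true := by decide +kernel
  rw [List.all_eq_true] at h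
  intro i hi
  exact h i (List.mem_range.2 hi)

lemma spread_mul {b : ℕ} (hb : b < 2 ^ 112) {l : ℕ} (hl : l < 112) : ∀ (i s : ℕ),
    (∀ k, s.testBit k = true → 112 ∣ k) → (s * b).testBit (112 * i + l) = (s.testBit (112 * i) && b.testBit l) := by
  have key : ∀ s : ℕ, (∀ k, s.testBit k = true → 112 ∣ k) →
      s = 2 ^ 112 * (s >>> 112) + (if s.testBit 0 = true then 1 else 0) := by
    intro s hs
    have h1 : s % 2 ^ 112 = if s.testBit 0 = true then 1 else 0 := by
      apply Nat.eq_of_testBit_eq
      intro k
      rw [Nat.testBit_mod_two_pow]
      by_cases hk : k = 0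
      · subst hk
        cases h0 : s.testBit 0 <;> simp
      · have h2 : (decide (k < 112) && s.testBit k) = false := by
          rw [Bool.and_eq_false_iff]
          by_cases hk2 : k < 112
          · right
            by_contra hc
            rw [Bool.not_eq_false] at hc
            have := hs k hc
            have := Nat.le_of_dvd (by omega) this
            omega
          · left
            simpa using hk2
        rw [h2]
        symm
        cases h0 : s.testBit 0
        · simp
        · simp only [if_true]
          exact Nat.testBit_lt_two_pow (Nat.one_lt_two_pow hk)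
    rw [← h1, Nat.shiftRight_eq_div_pow]
    exact (Nat.div_add_mod s (2 ^ 112)).symm
  intro i
  induction i with
  | zero =>
    intro s hs
    have h0 := key s hs
    have h1 : s * b = 2 ^ 112 * ((s >>> 112) * b) + (if s.testBit 0 = true then 1 else 0) * b := by
      nth_rewrite 1 [h0]
      ring
    have h2 : (if s.testBit 0 = true then 1 else 0) * b < 2 ^ 112 := by
      split_ifs
      · simpa using hb
      · simp
    rw [h1, Nat.testBit_two_pow_mul_add _ h2, Nat.mul_zero, Nat.zero_add, if_pos hl]
    cases s.testBit 0 <;> simp
  | succ i ih =>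
    intro s hs
    have h0 := key s hs
    have h1 : s * b = 2 ^ 112 * ((s >>> 112) * b) + (if s.testBit 0 = true then 1 else 0) * b := by
      nth_rewrite 1 [h0]
      ring
    have h2 : (if s.testBit 0 = true then 1 else 0) * b < 2 ^ 112 := by
      split_ifs
      · simpa using hb
      · simp
    rw [h1, Nat.testBit_two_pow_mul_add _ h2, if_neg (by omega)]
    have h3 : 112 * (i + 1) + l - 112 = 112 * i + l := by omega
    rw [h3, ih (s >>> 112) (fun k hk => by
      rw [Nat.testBit_shiftRight] at hk
      have := hs _ hk
      omega), Nat.testBit_shiftRight]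
    congr 2
    ring

lemma step_bit (a b : ℕ) {i l : ℕ} (hi : i < 112) (hl : l < 112) :
    (Nat.mul (Nat.land a MK) (Nat.land b 5192296858534827628530496329220095)).testBit (112 * i + l) =
      (a.testBit (112 * i) && b.testBit l) := by
  change ((a &&& MK) * (b &&& 5192296858534827628530496329220095)).testBit _ = _
  have e : (5192296858534827628530496329220095 : ℕ) = 2 ^ 112 - 1 := by norm_num
  rw [e, Nat.and_two_pow_sub_one_eq_mod, spread_mul (Nat.mod_lt _ (by norm_num)) hl]
  · rw [Nat.testBit_and, MK_bit i hi, Bool.and_true, Nat.testBit_mod_two_pow]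
    simp [hl]
  · intro k hk
    rw [Nat.testBit_and, Bool.and_eq_true] at hk
    exact MK_dvd hk.2

lemma mulP_eq (a b : ℕ) : mulP a b = Nat.shiftRight (sumT a b 112 0) 112 := rfl

lemma tm_bit (a b : ℕ) {k i l : ℕ} (hk : k < 112) (hi : i < 112) (hl : l < 112) :
    (tm a b k).testBit (112 + (112 * i + l)) = (a.testBit (112 * i + k) && b.testBit (112 * k + l)) := by
  have e1 : Nat.land a (Nat.shiftLeft MK k) = 2 ^ k * Nat.land (a >>> k) MK := by
    apply Nat.eq_of_testBit_eq
    intro j
    change (a &&& (MK <<< k)).testBit j = (2 ^ k * ((a >>> k) &&& MK)).testBit j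
    rw [Nat.testBit_and, Nat.testBit_shiftLeft, Nat.testBit_two_pow_mul, Nat.testBit_and, Nat.testBit_shiftRight]
    by_cases h : k ≤ j
    · rw [show k + (j - k) = j by omega]
      simp [h]
    · simp [h]
  have e2 : Nat.shiftLeft (Nat.land (Nat.shiftRight b (Nat.mul 112 k)) 5192296858534827628530496329220095) (Nat.sub 112 k) =
      2 ^ (112 - k) * Nat.land (b >>> (112 * k)) 5192296858534827628530496329220095 := by
    change (Nat.land (b >>> (112 * k)) 5192296858534827628530496329220095) <<< (112 - k) = _
    rw [Nat.shiftLeft_eq, mul_comm]
  have e3 : tm a b k = 2 ^ 112 * Nat.mul (Nat.land (a >>> k) MK) (Nat.land (b >>> (112 * k)) 5192296858534827628530496329220095) := by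
    unfold tm
    rw [e1, e2]
    change (2 ^ k * Nat.land (a >>> k) MK) * (2 ^ (112 - k) * Nat.land (b >>> (112 * k)) 5192296858534827628530496329220095) =
      2 ^ 112 * (Nat.land (a >>> k) MK * Nat.land (b >>> (112 * k)) 5192296858534827628530496329220095)
    have e4 : (2 : ℕ) ^ 112 = 2 ^ k * 2 ^ (112 - k) := by
      rw [← pow_add, show k + (112 - k) = 112 by omega]
    rw [e4]
    ring
  rw [e3, Nat.testBit_two_pow_mul, Nat.add_sub_cancel_left, step_bit _ _ hi hl, Nat.testBit_shiftRight, Nat.testBit_shiftRight]
  simp only [ge_iff_le, Nat.le_add_right, decide_true, Bool.true_and]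
  congr 2
  ring

lemma sumT_bit (a b : ℕ) {i l : ℕ} (hi : i < 112) (hl : l < 112) (n : ℕ) : ∀ k, k + n ≤ 112 →
    bz ((sumT a b n k).testBit (112 + (112 * i + l))) =
      ∑ j ∈ Finset.range n, bz (a.testBit (112 * i + (k + j))) * bz (b.testBit (112 * (k + j) + l)) := by
  induction n with
  | zero =>
    intro k _
    rw [Finset.sum_range_zero]
    change bz ((0 : ℕ).testBit _) = 0
    rw [Nat.zero_testBit]
    rfl
  | succ n ih =>
    intro k hk
    have h1 : sumT a b (n + 1) k = tm a b k ^^^ sumT a b n (k + 1) := rfl
    rw [h1, Nat.testBit_xor, bz_xor, tm_bit a b (by omega) hi hl, bz_and, ih (k + 1) (by omega), Finset.sum_range_succ',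
      add_comm]
    congr 1
    apply Finset.sum_congr rfl
    intro j _
    rw [show k + 1 + j = k + (j + 1) by ring]

/-- the matrix -/
def toM (a : ℕ) : Matrix (Fin 112) (Fin 112) (ZMod 2) := fun i j => bz (a.testBit (112 * i + j))

theorem toM_mulP (a b : ℕ) : toM (mulP a b) = toM a * toM b := by
  rw [mulP_eq]
  ext i l
  rw [Matrix.mul_apply]
  show bz ((sumT a b 112 0 >>> 112).testBit (112 * i + l)) = ∑ j : Fin 112, bz (a.testBit (112 * i + j)) * bz (b.testBit (112 * j + l))
  rw [Nat.testBit_shiftRight, sumT_bit a b i.2 l.2 112 0 (le_refl _), Finset.sum_range]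
  simp only [Nat.zero_add]

lemma idP_all : (List.range 112).all (fun i => (List.range 112).all (fun j =>
    Nat.testBit idP (112 * i + j) == Nat.beq i j)) = true := by
  decide +kernel

theorem toM_idP : toM idP = 1 := by
  ext i j
  have h := idP_all
  simp only [List.all_eq_true, List.mem_range, beq_iff_eq] at h
  show bz (idP.testBit (112 * i + j)) = _
  rw [h i i.2 j j.2, Matrix.one_apply]
  by_cases hij : i = j
  · subst hij
    simp [bz]
  · have : ¬ (i : ℕ) = j := fun h => hij (Fin.ext h)
    rw [if_neg hij]
    have h2 : Nat.beq i j = false := by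
      rw [← Bool.not_eq_true]
      intro h3
      exact this (Nat.eq_of_beq_eq_true h3)
    rw [h2]
    rfl

end Cfsg.Agent.HH.PM
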